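import Cfsg.Agent.Lib.Block.NineCC.Main
import Cfsg.Agent.Lib.Char.Average

/-!
A Sylow subgroup of order nine and exponent three with an automizer of order two, in which all
elements outside one line have minimal centralizer while the centralizer of that line has a normal
three-complement, is normal as soon as the group has no normal subgroup of order prime to three.
The missing column is the average of the character over a coset of the complement.
-/

set_option autoImplicit false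
set_option linter.style.haveILetI false
set_option linter.unusedSectionVars false

namespace Cfsg.Agent.Recog.AltNine

open Subgroup Cfsg Cfsg.Agent.Char Cfsg.Agent.Block Cfsg.Agent.Block.NineCC
open scoped ComplexConjugate

universe u

variable {X : Type u} [Group X] [Finite X]

/-- The hypotheses: `α` spans the line with the larger centralizer, which is `K` times the Sylow
subgroup, and an element outside the Sylow subgroup inverts it. -/
structure KerHyp (T : Sylow 3 X) (α : X) (K : Subgroup X) : Prop where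
  card : Nat.card (T : Subgroup X) = 9
  exp : ∀ τ ∈ (T : Subgroup X), τ ^ 3 = 1
  comm : ∀ σ ∈ (T : Subgroup X), ∀ τ ∈ (T : Subgroup X), σ * τ = τ * σ
  mem : α ∈ (T : Subgroup X)
  ne_one : α ≠ 1
  cent : ∀ τ ∈ (T : Subgroup X), τ ∉ zpowers α → centralizer ({τ} : Set X) = (T : Subgroup X)
  coprime : (Nat.card K).Coprime 3
  le : K ≤ centralizer ({α} : Set X)
  dec : ∀ g : X, g * α = α * g → ∃ k ∈ K, ∃ τ ∈ (T : Subgroup X), g = k * τ
  conjK : ∀ τ ∈ (T : Subgroup X), ∀ k ∈ K, τ * k * τ⁻¹ ∈ K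
  outside : ∃ g ∈ normalizer ((T : Subgroup X) : Set X), g ∉ (T : Subgroup X)
  invert : ∀ g ∈ normalizer ((T : Subgroup X) : Set X), g ∈ (T : Subgroup X) ∨
    ∀ τ ∈ (T : Subgroup X), g * τ * g⁻¹ = τ⁻¹

namespace KerHyp

variable {T : Sylow 3 X} {α : X} {K : Subgroup X} (h : KerHyp T α K)
include h

theorem cube {τ : X} (hτ : τ ∈ (T : Subgroup X)) : τ * τ * τ = 1 := by
  rw [← pow_three' τ, h.exp τ hτ]

theorem sq_inv {τ : X} (hτ : τ ∈ (T : Subgroup X)) : τ * τ = τ⁻¹ :=
  (inv_eq_of_mul_eq_one_right (by rw [← mul_assoc, h.cube hτ])).symm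

theorem isConj_inv {τ : X} (hτ : τ ∈ (T : Subgroup X)) : IsConj τ τ⁻¹ := by
  obtain ⟨g, hg, hgT⟩ := h.outside
  exact isConj_iff.2 ⟨g, ((h.invert g hg).resolve_left hgT) τ hτ⟩

theorem eq_one_of_cube {k : X} (hk : k ∈ K) (h3 : k * k * k = 1) : k = 1 := by
  have hd : orderOf k ∣ 3 := orderOf_dvd_of_pow_eq_one (by rw [pow_three', h3])
  have hd' : orderOf k ∣ Nat.card K := K.orderOf_dvd_natCard hk
  exact orderOf_eq_one_iff.1 (Nat.eq_one_of_dvd_coprimes h.coprime hd' hd)

theorem eq_one_of_mem {k : X} (hk : k ∈ K) (hkT : k ∈ (T : Subgroup X)) : k = 1 :=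
  h.eq_one_of_cube hk (h.cube hkT)

theorem commute_alpha {g : X} (hg : g ∈ K) : g * α = α * g :=
  mem_centralizer_singleton_iff.1 (h.le hg)

theorem commute_of_mem_zpowers {β g : X} (hβ : β ∈ zpowers α) (hg : g * α = α * g) :
    g * β = β * g := by
  obtain ⟨n, rfl⟩ := hβ
  exact (Commute.zpow_right (show Commute g α from hg) n).eq

theorem alpha_mem_zpowers {β : X} (hβ : β ∈ zpowers α) (hβ1 : β ≠ 1) : α ∈ zpowers β := by
  haveI : Fact (Nat.Prime 3) := ⟨by norm_num⟩
  have ho : orderOf α = 3 := orderOf_eq_prime (h.exp α h.mem) h.ne_one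
  have hc : Nat.card (zpowers α) = 3 := by rw [Nat.card_zpowers, ho]
  have h1 : zpowers β ≤ zpowers α := zpowers_le.2 hβ
  have hd : orderOf β ∣ 3 := by rw [← hc, ← Nat.card_zpowers]; exact card_dvd_of_le h1
  have hb : orderOf β = 3 :=
    ((Nat.dvd_prime Nat.prime_three).1 hd).resolve_left fun e => hβ1 (orderOf_eq_one_iff.1 e)
  rw [Subgroup.eq_of_le_of_card_ge h1 (by rw [hc, Nat.card_zpowers, hb])]
  exact mem_zpowers α

theorem dec' {β g : X} (hβ : β ∈ zpowers α) (hβ1 : β ≠ 1) (hg : g * β = β * g) :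
    ∃ k ∈ K, ∃ τ ∈ (T : Subgroup X), g = k * τ := by
  obtain ⟨n, hn⟩ := h.alpha_mem_zpowers hβ hβ1
  refine h.dec g ?_
  rw [← show β ^ n = α from hn]
  exact (Commute.zpow_right (show Commute g β from hg) n).eq

/-- Left multiples by the complement of an element outside the line are conjugate to it. -/
theorem isConj_mul {τ k : X} (hτ : τ ∈ (T : Subgroup X)) (hτα : τ ∉ zpowers α) (hk : k ∈ K) :
    IsConj τ (k * τ) := by
  classical
  let f : K → K := fun a => ⟨a * (τ * (a : X)⁻¹ * τ⁻¹),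
    mul_mem a.2 (h.conjK τ hτ _ (inv_mem a.2))⟩
  have hinj : Function.Injective f := by
    intro a b he
    have he' : (a : X) * (τ * (a : X)⁻¹ * τ⁻¹) = b * (τ * (b : X)⁻¹ * τ⁻¹) :=
      congrArg Subtype.val he
    have h1 : (b : X)⁻¹ * a ∈ centralizer ({τ} : Set X) := by
      rw [mem_centralizer_singleton_iff]
      calc (b : X)⁻¹ * a * τ = (b : X)⁻¹ * (a * (τ * (a : X)⁻¹ * τ⁻¹)) * τ * a := by group
        _ = τ * ((b : X)⁻¹ * a) := by rw [he']; group
    rw [h.cent τ hτ hτα] at h1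
    exact Subtype.ext (inv_mul_eq_one.1 (h.eq_one_of_mem (mul_mem (inv_mem b.2) a.2) h1)).symm
  obtain ⟨a, ha⟩ := Finite.injective_iff_surjective.1 hinj ⟨k, hk⟩
  refine isConj_iff.2 ⟨(a : X), ?_⟩
  have ha' : (a : X) * (τ * (a : X)⁻¹ * τ⁻¹) = k := congrArg Subtype.val ha
  rw [← ha']
  group

theorem conj_cases {τ σ : X} (hτ : τ ∈ (T : Subgroup X)) (hσ : σ ∈ (T : Subgroup X))
    (hσα : σ ∉ zpowers α) (hc : IsConj τ σ) : σ = τ ∨ σ = τ⁻¹ := by
  classical
  obtain ⟨g, hg⟩ := isConj_iff.1 hc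
  have hle : (T : Subgroup X).map (MulAut.conj g).toMonoidHom ≤ (T : Subgroup X) := by
    rintro _ ⟨x, hx, rfl⟩
    rw [← h.cent σ hσ hσα, mem_centralizer_singleton_iff]
    show g * x * g⁻¹ * σ = σ * (g * x * g⁻¹)
    rw [← hg]
    calc g * x * g⁻¹ * (g * τ * g⁻¹) = g * (x * τ) * g⁻¹ := by group
      _ = g * τ * g⁻¹ * (g * x * g⁻¹) := by rw [h.comm x hx τ hτ]; group
  have hgN : g ∈ normalizer ((T : Subgroup X) : Set X) :=
    mem_normalizer_fintype fun n hn => hle ⟨n, hn, rfl⟩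
  rcases h.invert g hgN with hgT | hi
  · left; rw [← hg, h.comm g hgT τ hτ, mul_inv_cancel_right]
  · right; rw [← hg, hi τ hτ]

theorem not_mem_of_conj {τ σ : X} (hτ : τ ∈ (T : Subgroup X)) (hτα : τ ∉ zpowers α)
    (hσ : σ ∈ (T : Subgroup X)) (hc : IsConj σ τ) : σ ∉ zpowers α := by
  intro hσα
  rcases h.conj_cases hσ hτ hτα hc with e | e
  · exact hτα (e ▸ hσα)
  · exact hτα (e ▸ inv_mem hσα)

/-- No two conjugates of one element outside the line multiply to another one. -/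
theorem no_solution {x δ : X} (hγ : x ∈ (T : Subgroup X)) (hγα : x ∉ zpowers α)
    (hδ : δ ∈ (T : Subgroup X)) (hδα : δ ∉ zpowers α) (h1 : δ ≠ x) (h2 : δ ≠ x⁻¹) {g : X}
    (hg : IsConj (x * (g * x * g⁻¹)) δ) : False := by
  classical
  obtain ⟨y, hy⟩ : ∃ y, y = g * x * g⁻¹ := ⟨_, rfl⟩
  rw [← hy] at hg
  have hcy : IsConj x y := isConj_iff.2 ⟨g, hy.symm⟩
  have hnc : ¬ IsConj x δ := fun e => (h.conj_cases hγ hδ hδα e).elim h1 h2
  have hnc' : ¬ IsConj x⁻¹ δ := fun e => hnc ((h.isConj_inv hγ).trans e)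
  have hxx : x * x = x⁻¹ := h.sq_inv hγ
  have hy3 : y * y * y = 1 := by
    calc y * y * y = g * (x * x * x) * g⁻¹ := by rw [hy]; group
      _ = 1 := by rw [h.cube hγ]; group
  obtain ⟨c, hc⟩ := isConj_iff.1 hg.symm
  have hxy : x * y * (x * y) * (x * y) = 1 := by
    rw [← hc]
    calc _ = c * (δ * δ * δ) * c⁻¹ := by group
      _ = 1 := by rw [h.cube hδ]; group
  have hyT : y ∉ (T : Subgroup X) := by
    intro hyT
    have hyα : y ∉ zpowers α := h.not_mem_of_conj hγ hγα hyT hcy.symm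
    rcases h.conj_cases hγ hyT hyα hcy with e | e <;> rw [e] at hg
    · rw [hxx] at hg
      exact hnc' hg
    · rw [mul_inv_cancel] at hg
      exact hδα (by rw [isConj_one_right.1 hg]; exact one_mem _)
  have hyy : y⁻¹ * y⁻¹ = y := by
    rw [← mul_inv_rev]
    exact inv_eq_of_mul_eq_one_left (by rw [← mul_assoc, hy3])
  set u := x * y⁻¹ with hu
  set v := y⁻¹ * x with hv
  have huv : u * v = x * y * x := by
    rw [hu, hv, mul_assoc x y⁻¹, ← mul_assoc y⁻¹ y⁻¹, hyy, mul_assoc]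
  have hvu : v * u = (y * x * y)⁻¹ := by
    calc v * u = y⁻¹ * (x * x) * y⁻¹ := by rw [hu, hv]; group
      _ = y⁻¹ * x⁻¹ * y⁻¹ := by rw [hxx]
      _ = (y * x * y)⁻¹ := by group
  have hrel : x * y * x = (y * x * y)⁻¹ := eq_inv_of_mul_eq_one_left (by rw [← hxy]; group)
  have hcomm : u * v = v * u := by rw [huv, hvu, hrel]
  set A := closure ({u, v} : Set X) with hA
  have huA : u ∈ A := subset_closure (by simp)
  have hvA : v ∈ A := subset_closure (by simp)
  have hgen : A ≤ centralizer ({u, v} : Set X) := by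
    refine (closure_le _).mpr ?_
    intro a ha
    refine mem_centralizer_iff.mpr fun b hb => ?_
    simp only [Set.mem_insert_iff, Set.mem_singleton_iff] at ha hb
    rcases ha with rfl | rfl <;> rcases hb with rfl | rfl
    · rfl
    · exact hcomm.symm
    · exact hcomm
    · rfl
  have hAc : ∀ a ∈ A, ∀ b ∈ A, a * b = b * a := by
    have h2 : A ≤ centralizer (A : Set X) := (closure_le _).mpr fun c hc =>
      mem_centralizer_iff.mpr fun a ha => (mem_centralizer_iff.mp (hgen ha) c hc).symm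
    exact fun a ha b hb => (mem_centralizer_iff.mp (h2 ha) b hb).symm
  have hinv : ∀ a ∈ A, x * a * x⁻¹ ∈ A := by
    have h2 : A ≤ A.comap (MulAut.conj x).toMonoidHom := by
      refine (closure_le _).mpr ?_
      intro a ha
      simp only [Set.mem_insert_iff, Set.mem_singleton_iff] at ha
      rw [SetLike.mem_coe, mem_comap]
      show x * a * x⁻¹ ∈ A
      rcases ha with rfl | rfl
      · rw [show x * u * x⁻¹ = (u * v)⁻¹ from ?_]
        · exact inv_mem (mul_mem huA hvA)
        rw [huv]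
        calc x * u * x⁻¹ = (x * x) * y⁻¹ * x⁻¹ := by rw [hu]; group
          _ = (x * y * x)⁻¹ := by rw [hxx]; group
      · rw [show x * v * x⁻¹ = u by rw [hu, hv]; group]
        exact huA
    exact fun a ha => mem_comap.mp (h2 ha)
  have hfree : ∀ a ∈ A, x * a * x⁻¹ = a → a = 1 := by
    intro a ha he
    by_contra hne
    have haT : a ∈ (T : Subgroup X) := by
      rw [← h.cent x hγ hγα, mem_centralizer_singleton_iff]
      exact (mul_inv_eq_iff_eq_mul.mp he).symm
    have hua : u * a = a * u := hAc u huA a ha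
    by_cases haα : a ∈ zpowers α
    swap
    · have huT : u ∈ (T : Subgroup X) := by
        rw [← h.cent a haT haα]
        exact mem_centralizer_singleton_iff.2 hua
      exact hyT (inv_mem_iff.mp ((mul_mem_cancel_left hγ).mp huT))
    have hya : y * a = a * y := by
      have e : y = u⁻¹ * x := by rw [hu]; group
      rw [e]
      exact (Commute.mul_left (Commute.inv_left (hua : Commute u a)) (h.comm x hγ a haT)).eq
    obtain ⟨k, hk, σ, hσ, hyk⟩ := h.dec' haα hne hya
    have hσα : σ ∉ zpowers α := by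
      intro hσα
      refine hyT ?_
      have hks : Commute k σ := h.commute_of_mem_zpowers hσα (h.commute_alpha hk)
      have h3 : k * k * k = 1 := by
        have e : (k * σ) ^ 3 = 1 := by rw [← hyk, pow_three', hy3]
        rwa [hks.mul_pow, h.exp σ hσ, mul_one, pow_three'] at e
      rw [hyk, h.eq_one_of_cube hk h3, one_mul]
      exact hσ
    have hcσ : IsConj x σ := hcy.trans (hyk ▸ (h.isConj_mul hσ hσα hk).symm)
    have hk' : x * k * x⁻¹ ∈ K := h.conjK x hγ k hk
    have hxy' : x * y = x * k * x⁻¹ * (x * σ) := by rw [hyk]; group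
    rcases h.conj_cases hγ hσ hσα hcσ with hs | hs <;> rw [hs] at hxy'
    · rw [hxx] at hxy'
      have hxα : x⁻¹ ∉ zpowers α := fun e => hγα (inv_mem_iff.1 e)
      exact hnc' ((h.isConj_mul (inv_mem hγ) hxα hk').trans (hxy' ▸ hg))
    · rw [mul_inv_cancel, mul_one] at hxy'
      rw [hxy'] at hxy hg
      rw [h.eq_one_of_cube hk' hxy] at hg
      exact hδα (by rw [isConj_one_right.1 hg]; exact one_mem _)
  let f : A → A := fun a => ⟨a * (x * a * x⁻¹)⁻¹, mul_mem a.2 (inv_mem (hinv a a.2))⟩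
  have hinj : Function.Injective f := by
    intro a b he
    have he' : (a : X) * (x * a * x⁻¹)⁻¹ = b * (x * b * x⁻¹)⁻¹ := congrArg Subtype.val he
    have h1 : (a : X) = b * ((x * b * x⁻¹)⁻¹ * (x * a * x⁻¹)) := by
      rw [← mul_assoc, ← he']; group
    have h2 : x * ((b : X)⁻¹ * a) * x⁻¹ = (b : X)⁻¹ * a := by
      calc x * ((b : X)⁻¹ * a) * x⁻¹ = (x * b * x⁻¹)⁻¹ * (x * a * x⁻¹) := by group
        _ = (b : X)⁻¹ * ((b : X) * ((x * b * x⁻¹)⁻¹ * (x * a * x⁻¹))) := by group
        _ = (b : X)⁻¹ * a := by rw [← h1]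
    exact Subtype.ext (inv_mul_eq_one.mp (hfree _ (mul_mem (inv_mem b.2) a.2) h2)).symm
  obtain ⟨a, ha⟩ := Finite.injective_iff_surjective.mp hinj ⟨v, hvA⟩
  have ha' : (a : X) * (x * a * x⁻¹)⁻¹ = v := congrArg Subtype.val ha
  have h4 : IsConj x (x * y)⁻¹ := by
    rw [mul_inv_rev, show y⁻¹ * x⁻¹ = v * x by rw [hv, mul_assoc, hxx]]
    exact isConj_iff.2 ⟨a, by rw [← ha']; group⟩
  obtain ⟨d, hd⟩ := isConj_iff.1 (h4.symm)
  refine hnc' ?_
  refine IsConj.trans ?_ hg
  refine isConj_iff.2 ⟨d⁻¹, ?_⟩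
  calc d⁻¹ * x⁻¹ * d⁻¹⁻¹ = d⁻¹ * (d * (x * y)⁻¹ * d⁻¹)⁻¹ * d := by rw [hd]; group
    _ = x * y := by group

/-- The character sum over a coset of the complement. -/
theorem sum_avg_sq [Fintype X] [DecidableEq X] [Fintype K] {β : X} (hβ : β ∈ zpowers α)
    (hβ1 : β ≠ 1) :
    ∑ χ : IrrCharacter X, ((Nat.card K : ℂ)⁻¹ * ∑ k : K, (χ : X → ℂ) (k * β)) *
      conj ((Nat.card K : ℂ)⁻¹ * ∑ k : K, (χ : X → ℂ) (k * β)) = 9 := by
  classical
  simp only [map_mul, map_inv₀, map_natCast, map_sum]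
  have e : ∀ χ : IrrCharacter X, ((Nat.card K : ℂ)⁻¹ * ∑ k : K, (χ : X → ℂ) (k * β)) *
      ((Nat.card K : ℂ)⁻¹ * ∑ k : K, conj ((χ : X → ℂ) (k * β))) =
      ∑ k : K, ∑ k' : K, ((Nat.card K : ℂ)⁻¹ * (Nat.card K : ℂ)⁻¹) *
        ((χ : X → ℂ) (k * β) * conj ((χ : X → ℂ) (k' * β))) := by
    intro χ
    simp only [Finset.mul_sum, Finset.sum_mul]
    rw [Finset.sum_comm]
    exact Finset.sum_congr rfl fun _ _ => Finset.sum_congr rfl fun _ _ => by ring
  rw [Finset.sum_congr rfl fun χ _ => e χ, Finset.sum_comm]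
  rw [Finset.sum_congr rfl fun k _ => Finset.sum_comm]
  simp only [← Finset.mul_sum, sum_irr_mul_conj]
  set C := centralizer ({α} : Set X) with hC
  have hcomm : ∀ k : K, Commute (k : X) β := fun k =>
    h.commute_of_mem_zpowers hβ (h.commute_alpha k.2)
  have hnK : ∀ g : X, g ∈ C → ∀ k ∈ K, g * k * g⁻¹ ∈ K := by
    intro g hg k hk
    obtain ⟨k₀, hk₀, τ, hτ, rfl⟩ := h.dec g (mem_centralizer_singleton_iff.1 hg)
    rw [show k₀ * τ * k * (k₀ * τ)⁻¹ = k₀ * (τ * k * τ⁻¹) * k₀⁻¹ by group]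
    exact mul_mem (mul_mem hk₀ (h.conjK τ hτ k hk)) (inv_mem hk₀)
  have hstep : ∀ k : K, ∑ k' : K, (if IsConj ((k : X) * β) (k' * β) then
      (Nat.card (centralizer ({(k' : X) * β} : Set X)) : ℂ) else 0) = (Nat.card C : ℂ) := by
    intro k
    have hfib : ∀ k' : K, (if IsConj ((k : X) * β) (k' * β) then
        (Nat.card (centralizer ({(k' : X) * β} : Set X)) : ℂ) else 0) =
        (Nat.card {g : C // (g : X) * k * (g : X)⁻¹ = k'} : ℂ) := by
      intro k'
      have hsplit : ∀ g : X, g * (k * β) * g⁻¹ = k' * β →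
          g ∈ C ∧ g * k * g⁻¹ = (k' : X) := by
        intro g hg
        have hβg : g * β * g⁻¹ = β := by
          have hp : ∀ k : K, ((k : X) * β) ^ Nat.card K = β ^ Nat.card K := fun k => by
            rw [(hcomm k).mul_pow, ← Subgroup.coe_pow, pow_card_eq_one', Subgroup.coe_one, one_mul]
          have h1 : g * β ^ Nat.card K * g⁻¹ = β ^ Nat.card K := by
            have h1 := congrArg (fun x => x ^ Nat.card K) hg
            rwa [conj_pow, hp, hp] at h1
          have hc : Commute g (β ^ Nat.card K) := mul_inv_eq_iff_eq_mul.1 h1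
          haveI : Fact (Nat.Prime 3) := ⟨by norm_num⟩
          have ho : orderOf β = 3 := by
            have hβT : β ∈ (T : Subgroup X) := zpowers_le.2 h.mem hβ
            exact orderOf_eq_prime (h.exp β hβT) hβ1
          obtain ⟨m, hm⟩ := exists_pow_eq_self_of_coprime (x := β) (n := Nat.card K)
            (ho ▸ h.coprime)
          have h2 := hc.pow_right m
          rw [hm] at h2
          rw [h2.eq, mul_inv_cancel_right]
        refine ⟨?_, ?_⟩
        · rw [hC, mem_centralizer_singleton_iff]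
          obtain ⟨n, hn⟩ := h.alpha_mem_zpowers hβ hβ1
          have hc : Commute g β := mul_inv_eq_iff_eq_mul.1 hβg
          rw [← show β ^ n = α from hn]
          exact (hc.zpow_right n).eq
        · rw [show g * (k * β) * g⁻¹ = g * k * g⁻¹ * (g * β * g⁻¹) by group, hβg] at hg
          exact mul_right_cancel hg
      have hback : ∀ g : C, (g : X) * k * (g : X)⁻¹ = k' →
          (g : X) * (k * β) * (g : X)⁻¹ = k' * β := by
        intro g hg
        have hgβ := h.commute_of_mem_zpowers hβ (mem_centralizer_singleton_iff.1 g.2)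
        rw [show (g : X) * (k * β) * (g : X)⁻¹ = g * k * (g : X)⁻¹ * (g * β * (g : X)⁻¹) by group,
          hgβ, mul_inv_cancel_right, hg]
      split_ifs with hc
      · obtain ⟨g₀, hg₀⟩ := isConj_iff.1 hc
        obtain ⟨hg₀C, hg₀k⟩ := hsplit g₀ hg₀
        rw [Nat.cast_inj]
        refine Nat.card_congr
          ⟨fun x => ⟨⟨(x : X) * g₀, ?_⟩, ?_⟩, fun g => ⟨(g : C) * g₀⁻¹, ?_⟩, ?_, ?_⟩
        · obtain ⟨h1, -⟩ := hsplit ((x : X) * g₀) (by
            rw [mul_inv_rev, show (x : X) * g₀ * (k * β) * (g₀⁻¹ * (x : X)⁻¹) =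
              x * (g₀ * (k * β) * g₀⁻¹) * (x : X)⁻¹ by group, hg₀,
              mem_centralizer_singleton_iff.1 x.2, mul_inv_cancel_right])
          exact h1
        · exact (hsplit ((x : X) * g₀) (by
            rw [mul_inv_rev, show (x : X) * g₀ * (k * β) * (g₀⁻¹ * (x : X)⁻¹) =
              x * (g₀ * (k * β) * g₀⁻¹) * (x : X)⁻¹ by group, hg₀,
              mem_centralizer_singleton_iff.1 x.2, mul_inv_cancel_right])).2
        · rw [mem_centralizer_singleton_iff]
          have h5 := hback g.1 g.2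
          calc ((g : C) : X) * g₀⁻¹ * (k' * β)
              = (g : C) * g₀⁻¹ * (g₀ * (k * β) * g₀⁻¹) := by rw [hg₀]
            _ = (g : C) * (k * β) * ((g : C) : X)⁻¹ * ((g : C) * g₀⁻¹) := by group
            _ = k' * β * ((g : C) * g₀⁻¹) := by rw [h5]
        · intro x; exact Subtype.ext (mul_inv_cancel_right _ _)
        · intro g; exact Subtype.ext (Subtype.ext (inv_mul_cancel_right _ _))
      · haveI : IsEmpty {g : C // (g : X) * k * (g : X)⁻¹ = k'} :=
          ⟨fun g => hc (isConj_iff.2 ⟨_, hback g.1 g.2⟩)⟩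
        simp
    rw [Finset.sum_congr rfl fun k' _ => hfib k', ← Nat.cast_sum, Nat.cast_inj, ← Nat.card_sigma]
    refine Nat.card_congr ⟨fun p => p.2.1,
      fun g => ⟨⟨(g : X) * k * (g : X)⁻¹, hnK g g.2 k k.2⟩, g, rfl⟩, ?_, fun g => rfl⟩
    rintro ⟨k', g, hg⟩
    have he : (⟨(g : X) * k * (g : X)⁻¹, hnK g g.2 k k.2⟩ : K) = k' := Subtype.ext hg
    subst he
    rfl
  trans (Nat.card K : ℂ)⁻¹ * (Nat.card K : ℂ)⁻¹ * ∑ _k : K, (Nat.card C : ℂ)
  · congr 1
    refine Finset.sum_congr rfl fun k _ => ?_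
    convert hstep k
  rw [Finset.sum_const, Finset.card_univ, nsmul_eq_mul, ← Nat.card_eq_fintype_card]
  have hcard : Nat.card C = Nat.card K * 9 := by
    rw [← h.card, ← Nat.card_prod]
    refine (Nat.card_congr (Equiv.ofBijective
      (fun p : K × (T : Subgroup X) => (⟨(p.1 : X) * p.2, ?_⟩ : C)) ⟨?_, ?_⟩)).symm
    · exact mul_mem (h.le p.1.2) (mem_centralizer_singleton_iff.2 (h.comm _ p.2.2 α h.mem))
    · rintro ⟨a, b⟩ ⟨c, d⟩ he
      have he' : (a : X) * b = c * d := congrArg Subtype.val he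
      have hm : (c : X)⁻¹ * a = d * (b : X)⁻¹ := by
        calc (c : X)⁻¹ * a = (c : X)⁻¹ * (a * b) * (b : X)⁻¹ := by group
          _ = d * (b : X)⁻¹ := by rw [he']; group
      have h1 := h.eq_one_of_mem (mul_mem (inv_mem c.2) a.2) (hm ▸ mul_mem d.2 (inv_mem b.2))
      rw [inv_mul_eq_one] at h1
      rw [h1] at he'
      exact Prod.ext (Subtype.ext h1.symm) (Subtype.ext (mul_left_cancel he'))
    · intro g
      obtain ⟨k, hk, τ, hτ, hgk⟩ := h.dec g (mem_centralizer_singleton_iff.1 g.2)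
      exact ⟨(⟨k, hk⟩, ⟨τ, hτ⟩), Subtype.ext hgk.symm⟩
  rw [hcard]
  have hK : (Nat.card K : ℂ) ≠ 0 := Nat.cast_ne_zero.2 Nat.card_pos.ne'
  push_cast
  field_simp

theorem normalizer_K {g : X} (hg : g * α * g⁻¹ ∈ zpowers α) : ∀ k ∈ K, g * k * g⁻¹ ∈ K := by
  intro k hk
  have hne : g * α * g⁻¹ ≠ 1 := fun e => h.ne_one (conj_eq_one_iff.1 e)
  have hc : g * k * g⁻¹ * (g * α * g⁻¹) = g * α * g⁻¹ * (g * k * g⁻¹) := by
    calc g * k * g⁻¹ * (g * α * g⁻¹) = g * (k * α) * g⁻¹ := by group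
      _ = g * α * g⁻¹ * (g * k * g⁻¹) := by rw [h.commute_alpha hk]; group
  obtain ⟨k', hk', τ, hτ, he⟩ := h.dec' hg hne hc
  have hn : ∀ m : ℕ, ∃ k'' ∈ K, (k' * τ) ^ m = k'' * τ ^ m := by
    intro m
    induction m with
    | zero => exact ⟨1, one_mem _, by simp⟩
    | succ m ih =>
      obtain ⟨k'', hk'', e⟩ := ih
      refine ⟨k'' * (τ ^ m * k' * (τ ^ m)⁻¹),
        mul_mem hk'' (h.conjK _ (pow_mem hτ m) k' hk'), ?_⟩
      rw [pow_succ, e, pow_succ]
      group
  obtain ⟨k'', hk'', e⟩ := hn (Nat.card K)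
  have hp : (g * k * g⁻¹) ^ Nat.card K = 1 := by
    rw [conj_pow, show k ^ Nat.card K = 1 from
      congrArg Subtype.val (pow_card_eq_one' (x := (⟨k, hk⟩ : K))), mul_one, mul_inv_cancel]
  rw [he, e] at hp
  have hτ1 : τ ^ Nat.card K = 1 := by
    have : τ ^ Nat.card K ∈ K := by rw [eq_inv_of_mul_eq_one_right hp]; exact inv_mem hk''
    exact h.eq_one_of_mem this (pow_mem hτ _)
  have h1 : orderOf τ ∣ Nat.card K := orderOf_dvd_of_pow_eq_one hτ1
  have h3 : orderOf τ ∣ 3 := orderOf_dvd_of_pow_eq_one (h.exp τ hτ)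
  rw [he, orderOf_eq_one_iff.1 (Nat.eq_one_of_dvd_coprimes h.coprime h1 h3), mul_one]
  exact hk'

/-- The main theorem. -/
theorem normal (hcore : ∀ N : Subgroup X, N.Normal → ¬ 3 ∣ Nat.card N → N = ⊥) :
    (T : Subgroup X).Normal := by
  classical
  haveI : Fact (Nat.Prime 3) := ⟨by norm_num⟩
  haveI := Fintype.ofFinite X
  obtain ⟨γ, hγ, hγα⟩ : ∃ γ ∈ (T : Subgroup X), γ ∉ zpowers α := by
    by_contra hcon
    push Not at hcon
    have hle := Subgroup.card_le_of_le (H := (T : Subgroup X)) (K := zpowers α) hcon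
    rw [h.card, Nat.card_zpowers] at hle
    have := Nat.le_of_dvd (by norm_num) (orderOf_dvd_of_pow_eq_one (h.exp α h.mem))
    omega
  -- the group `L` inside which the restrictions live
  set L := normalizer ((T : Subgroup X) : Set X)
  let TL : Sylow 3 L := T.subtype le_normalizer
  have hTL : ∀ x : L, x ∈ (TL : Subgroup L) ↔ (x : X) ∈ (T : Subgroup X) := fun x => by
    rw [Sylow.coe_subtype, mem_subgroupOf]
  have hL : Hyp TL := by
    refine ⟨?_, fun τ hτ => Subtype.ext (by simpa using h.exp _ ((hTL τ).1 hτ)), fun τ hτ hτ1 => ?_⟩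
    · rw [Sylow.coe_subtype, Nat.card_congr (subgroupOfEquivOfLe le_normalizer).toEquiv, h.card]
    · ext g
      rw [hTL, mem_centralizer_singleton_iff]
      refine ⟨fun he => ?_, fun hg => Subtype.ext (h.comm _ hg _ ((hTL τ).1 hτ))⟩
      rcases h.invert g g.2 with hg | hi
      · exact hg
      · exfalso
        have e := hi τ ((hTL τ).1 hτ)
        rw [show (g : X) * τ = τ * g from congrArg Subtype.val he, mul_inv_cancel_right] at e
        have h3 := h.cube ((hTL τ).1 hτ)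
        have h2 : (τ : X) * τ = 1 := mul_eq_one_iff_eq_inv.mpr e
        rw [h2, one_mul] at h3
        exact hτ1 (Subtype.ext h3)
  have hinvL : ∀ τ ∈ (TL : Subgroup L), IsConj τ τ⁻¹ := by
    intro τ hτ
    obtain ⟨g, hg, hgT⟩ := h.outside
    exact isConj_iff.2 ⟨⟨g, hg⟩,
      Subtype.ext ((h.invert g hg).resolve_left hgT _ ((hTL τ).1 hτ))⟩
  have hLα : ∀ g ∈ L, g * α * g⁻¹ ∈ zpowers α := by
    intro g hg
    rcases h.invert g hg with hgT | hi
    · rw [h.comm g hgT α h.mem, mul_inv_cancel_right]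
      exact mem_zpowers α
    · rw [hi α h.mem]
      exact inv_mem (mem_zpowers α)
  set M := normalizer (K : Set X) with hM
  have hLM : L ≤ M := fun g hg => mem_normalizer_fintype fun k hk =>
    h.normalizer_K (hLα g hg) k hk
  haveI : (K.subgroupOf M).Normal := normal_subgroupOf_of_le_normalizer le_rfl
  let φ : IrrCharacter X → X → ℂ := fun χ g => (Nat.card K : ℂ)⁻¹ * ∑ k : K, (χ : X → ℂ) (k * g)
  have hres : ∀ χ : IrrCharacter X, IsCharacter L (fun g : L => φ χ g) := by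
    intro χ
    obtain ⟨a, -, hd⟩ := IsChar.exists_decomp_inner (G := M) (IsChar.res (IsIrr.isCharacter χ.2) M)
    have havg : avgN (K.subgroupOf M) (fun g : M => (χ : X → ℂ) g) =
        ∑ ψ : IrrCharacter M, (a ψ : ℂ) • avgN (K.subgroupOf M) (ψ : M → ℂ) := by
      conv_lhs => rw [show (fun g : M => (χ : X → ℂ) g) = _ from hd]
      rw [avgN_sum]
      simp only [avgN_smul]
    have hval : ∀ g : L, φ χ g =
        avgN (K.subgroupOf M) (fun g : M => (χ : X → ℂ) g) ⟨g, hLM g.2⟩ := by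
      intro g
      have hKM : K ≤ M := le_normalizer
      simp only [avgN, φ]
      rw [Nat.card_congr (subgroupOfEquivOfLe hKM).toEquiv]
      congr 1
      exact (Fintype.sum_equiv (subgroupOfEquivOfLe hKM).toEquiv _ _ fun k => rfl).symm
    have heq : (fun g : L => φ χ g) = ∑ ψ : IrrCharacter M,
        (a ψ : ℂ) • (fun g : L => avgN (K.subgroupOf M) (ψ : M → ℂ) (Subgroup.inclusion hLM g)) := by
      funext g
      rw [hval, havg]
      simp only [Finset.sum_apply, Pi.smul_apply]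
      rfl
    rw [heq]
    refine IsChar.sum fun ψ _ => IsChar.nsmul ?_ (a ψ)
    rcases avgN_irr (K.subgroupOf M) ψ.2 with ⟨-, e⟩ | ⟨-, e⟩
    · simp only [e, Pi.zero_apply]
      exact IsChar.zero
    · simp only [e]
      exact IsChar.comp (Subgroup.inclusion hLM) (IsIrr.isCharacter ψ.2)
  have hγ1 : γ ≠ 1 := fun e => hγα (e ▸ one_mem _)
  set b := α * γ with hbdef
  have hb : b ∈ (T : Subgroup X) := mul_mem h.mem hγ
  have hbz : b ∉ zpowers γ := by
    intro hm
    have h1 : α ∈ zpowers γ := (mul_mem_cancel_right (mem_zpowers γ)).1 hm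
    have hne := h.ne_one
    obtain ⟨n, hn⟩ := h1
    have h3 : orderOf α = 3 := orderOf_eq_prime (h.exp α h.mem) h.ne_one
    have hcard : Nat.card (zpowers γ) = 3 := by
      rw [Nat.card_zpowers, orderOf_eq_prime (h.exp γ hγ) hγ1]
    have := Subgroup.eq_of_le_of_card_ge (show zpowers α ≤ zpowers γ from zpowers_le.2 ⟨n, hn⟩)
      (by rw [hcard, Nat.card_zpowers, h3])
    exact hγα (this ▸ mem_zpowers γ)
  let B : Basis TL :=
    { a := ⟨γ, le_normalizer hγ⟩
      b := ⟨b, le_normalizer hb⟩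
      ha := (hTL _).2 hγ
      hb := (hTL _).2 hb
      ha1 := fun e => hγ1 (congrArg Subtype.val e)
      hb1 := fun ⟨n, hn⟩ => hbz ⟨n, by simpa using congrArg Subtype.val hn⟩ }
  let τ : Fin 4 → X := fun l => ((B.line l : L) : X)
  have hτT : ∀ l, τ l ∈ (T : Subgroup X) := fun l => (hTL _).1 (B.line_mem hL l)
  have hτ3 : τ 3 = α⁻¹ := by
    show γ * b⁻¹ = α⁻¹
    rw [hbdef, mul_inv_rev, mul_inv_cancel_left]
  have hτα : ∀ l, l ≠ 3 → τ l ∉ zpowers α := by
    intro l hl hm
    refine hl (B.line_inj hL ?_)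
    have hc : Nat.card (zpowers α) = 3 := by
      rw [Nat.card_zpowers, orderOf_eq_prime (h.exp α h.mem) h.ne_one]
    have h1 : τ l ≠ 1 := fun e => B.line_ne_one hL l (Subtype.ext e)
    obtain ⟨n, hn⟩ := hm
    have hn' : τ l = α ^ n := hn.symm
    have hmod : α ^ n = α ^ (n % 3) := by
      rw [← zpow_mod_orderOf α n, orderOf_eq_prime (h.exp α h.mem) h.ne_one]
      norm_num
    have hr : n % 3 = 1 ∨ n % 3 = 2 := by
      have h0 : n % 3 ≠ 0 := fun e => h1 (by rw [hn', hmod, e, zpow_zero])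
      omega
    rcases hr with e | e
    · right
      refine Subtype.ext ?_
      show τ l = (τ 3)⁻¹
      rw [hn', hmod, e, zpow_one, hτ3, inv_inv]
    · left
      refine Subtype.ext ?_
      show τ l = τ 3
      rw [hn', hmod, e, hτ3, show (2 : ℤ) = ((2 : ℕ) : ℤ) from rfl, zpow_natCast, pow_two,
        h.sq_inv h.mem]
  have hτ3α : τ 3 ∈ zpowers α := by rw [hτ3]; exact inv_mem (mem_zpowers α)
  have hτ31 : τ 3 ≠ 1 := fun e => B.line_ne_one hL 3 (Subtype.ext e)
  -- the values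
  have hdual : ∀ χ : IrrCharacter X, ∃ v : Fin 4 → ℤ, (∀ l, φ χ (τ l) = (v l : ℂ)) ∧
      ∀ l m, (3 : ℤ) ∣ v l - v m := by
    intro χ
    obtain ⟨a, -, hd⟩ := IsChar.exists_decomp_inner (hres χ)
    choose c d hd' hv using fun ψ : IrrCharacter L => B.exists_dual hL hinvL ψ
    refine ⟨fun l => ∑ ψ, (a ψ : ℤ) * (c ψ + 3 * d ψ l - (d ψ 0 + d ψ 1 + d ψ 2 + d ψ 3)),
      fun l => ?_, fun l m => ?_⟩
    · have e := congrFun hd (B.line l)
      simp only [Finset.sum_apply, Pi.smul_apply, smul_eq_mul, hv] at e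
      rw [show φ χ (τ l) = _ from e]
      push_cast
      rfl
    · rw [← Finset.sum_sub_distrib]
      exact Finset.dvd_sum fun ψ _ => ⟨(a ψ : ℤ) * ((d ψ l : ℤ) - d ψ m), by ring⟩
  choose v hv hcongr using hdual
  choose deg hdeg0 hdeg using fun χ : IrrCharacter X => IsIrr.one_eq_pos χ.2
  have hplain : ∀ l, l ≠ 3 → ∀ χ : IrrCharacter X, (χ : X → ℂ) (τ l) = (v χ l : ℂ) := by
    intro l hl χ
    rw [← hv χ l]
    show (χ : X → ℂ) (τ l) = (Nat.card K : ℂ)⁻¹ * ∑ k : K, (χ : X → ℂ) (k * τ l)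
    rw [Finset.sum_congr rfl fun k _ =>
      (IsClass.eq_of_isConj (IsIrr.classFun χ.2) (h.isConj_mul (hτT l) (hτα l hl) k.2)).symm,
      Finset.sum_const, Finset.card_univ, nsmul_eq_mul, ← Nat.card_eq_fintype_card,
      inv_mul_cancel_left₀ (Nat.cast_ne_zero.2 Nat.card_pos.ne')]
  have hsep : ∀ l m, l ≠ m → ∀ k k' : K,
      ¬ IsConj ((k : X) * τ l) (k' * τ m) := by
    have main : ∀ l m, l ≠ 3 → l ≠ m → ∀ k k' : K, ¬ IsConj ((k : X) * τ l) (k' * τ m) := by
      intro l m hl hlm k k' hc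
      have hc1 : IsConj (τ l) ((k' : X) * τ m) := (h.isConj_mul (hτT l) (hτα l hl) k.2).trans hc
      have hm : m ≠ 3 := by
        rintro rfl
        obtain ⟨g, hg⟩ := isConj_iff.1 hc1
        have h3 : ((k' : X) * τ 3) ^ 3 = 1 := by rw [← hg, conj_pow, h.exp _ (hτT l)]; group
        rw [Commute.mul_pow (h.commute_of_mem_zpowers hτ3α (h.commute_alpha k'.2)),
          h.exp _ (hτT 3), mul_one, pow_three'] at h3
        rw [h.eq_one_of_cube k'.2 h3, one_mul] at hg
        exact h.not_mem_of_conj (hτT l) (hτα l hl) (hτT 3) (isConj_iff.2 ⟨g, hg⟩).symm hτ3α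
      have hc2 : IsConj (τ l) (τ m) := hc1.trans (h.isConj_mul (hτT m) (hτα m hm) k'.2).symm
      refine hlm.symm (B.line_inj hL ?_)
      exact (h.conj_cases (hτT l) (hτT m) (hτα m hm) hc2).imp
        (fun e => Subtype.ext e) (fun e => Subtype.ext e)
    intro l m hlm k k' hc
    by_cases hl : l = 3
    · exact main m l (fun e => hlm (hl.trans e.symm)) hlm.symm k' k hc.symm
    · exact main l m hl hlm k k' hc
  have horth : ∀ l m, l ≠ m → ∑ χ, v χ l * v χ m = 0 := by
    intro l m hlm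
    have e : ∑ χ : IrrCharacter X, φ χ (τ l) * conj (φ χ (τ m)) = 0 := by
      simp only [φ, map_mul, map_inv₀, map_natCast, map_sum, Finset.mul_sum, Finset.sum_mul]
      rw [Finset.sum_comm]
      refine Finset.sum_eq_zero fun k _ => ?_
      rw [Finset.sum_comm]
      refine Finset.sum_eq_zero fun k' _ => ?_
      rw [Finset.sum_congr rfl fun (χ : IrrCharacter X) _ => show (Nat.card K : ℂ)⁻¹ * (χ : X → ℂ) (k' * τ l) *
          ((Nat.card K : ℂ)⁻¹ * conj ((χ : X → ℂ) (k * τ m))) =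
          ((Nat.card K : ℂ)⁻¹ * (Nat.card K : ℂ)⁻¹) *
            ((χ : X → ℂ) (k' * τ l) * conj ((χ : X → ℂ) (k * τ m))) by ring,
        ← Finset.mul_sum, sum_irr_mul_conj, if_neg (hsep l m hlm k' k), mul_zero]
    simp only [hv, map_intCast] at e
    exact_mod_cast e
  have hnorm : ∀ l, ∑ χ, v χ l * v χ l = 9 := by
    intro l
    by_cases hl : l = 3
    · subst hl
      have e := h.sum_avg_sq hτ3α hτ31
      simp only [show ∀ χ : IrrCharacter X, (Nat.card K : ℂ)⁻¹ * ∑ k : K, (χ : X → ℂ) (k * τ 3) =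
        (v χ 3 : ℂ) from fun χ => hv χ 3, map_intCast] at e
      exact_mod_cast e
    · have e := sum_irr_mul_conj (τ l) (τ l)
      rw [if_pos (IsConj.refl _), h.cent _ (hτT l) (hτα l hl), h.card] at e
      simp only [hplain l hl, map_intCast] at e
      exact_mod_cast e
  have hdeg' : ∀ l, ∑ χ, v χ l * (deg χ : ℤ) = 0 := by
    intro l
    have e : ∑ χ : IrrCharacter X, φ χ (τ l) * conj ((χ : X → ℂ) 1) = 0 := by
      simp only [φ, Finset.mul_sum, Finset.sum_mul]
      rw [Finset.sum_comm]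
      refine Finset.sum_eq_zero fun k _ => ?_
      simp only [mul_assoc]
      rw [← Finset.mul_sum, sum_irr_mul_conj, if_neg, mul_zero]
      intro hc
      have h1 : (k : X) * τ l = 1 := isConj_one_left.1 hc
      have hk : (k : X) = (τ l)⁻¹ := eq_inv_of_mul_eq_one_left h1
      rw [h.eq_one_of_mem k.2 (hk ▸ inv_mem (hτT l)), one_mul] at h1
      exact B.line_ne_one hL l (Subtype.ext h1)
    simp only [hv, hdeg, map_natCast] at e
    exact_mod_cast e
  have htriv : ∀ l, v (trivialIrr X) l = 1 := by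
    intro l
    have e := hv (trivialIrr X) l
    simp only [φ, trivialIrr, Finset.sum_const, Finset.card_univ, nsmul_eq_mul, mul_one,
      ← Nat.card_eq_fintype_card] at e
    rw [inv_mul_cancel₀ (Nat.cast_ne_zero.2 Nat.card_pos.ne')] at e
    exact_mod_cast e.symm
  have hd0 : (deg (trivialIrr X) : ℤ) = 1 := by
    have e := hdeg (trivialIrr X)
    rw [show ((trivialIrr X : IrrCharacter X) : X → ℂ) 1 = 1 from rfl] at e
    exact_mod_cast e.symm
  have heq : ∑ χ, ((v χ 0 : ℚ) * v χ 0 * v χ 1) / ((deg χ : ℤ) : ℚ) = 0 := by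
    have e : ∑ χ : IrrCharacter X, ∑ g : X,
        (χ : X → ℂ) (τ 0 * (g * τ 0 * g⁻¹)) * conj ((χ : X → ℂ) (τ 1)) = 0 := by
      rw [Finset.sum_comm]
      refine Finset.sum_eq_zero fun g _ => ?_
      rw [sum_irr_mul_conj, if_neg]
      intro hg
      refine h.no_solution (hτT 0) (hτα 0 (by decide)) (hτT 1) (hτα 1 (by decide)) ?_ ?_ hg
      · exact fun e => absurd (B.line_inj hL (l := 1) (m := 0) (Or.inl (Subtype.ext e))) (by decide)
      · exact fun e => absurd (B.line_inj hL (l := 1) (m := 0) (Or.inr (Subtype.ext e))) (by decide)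
    have e2 : ∀ χ : IrrCharacter X,
        ∑ g : X, (χ : X → ℂ) (τ 0 * (g * τ 0 * g⁻¹)) * conj ((χ : X → ℂ) (τ 1)) =
        (Nat.card X : ℂ) * (((v χ 0 : ℂ) * v χ 0 * v χ 1) / (deg χ : ℂ)) := by
      intro χ
      rw [← Finset.sum_mul, sum_mul_conj, hdeg χ, hplain 0 (by decide) χ, hplain 1 (by decide) χ,
        map_intCast]
      ring
    simp only [e2, ← Finset.mul_sum] at e
    have e3 := (mul_eq_zero.1 e).resolve_left (Nat.cast_ne_zero.2 Nat.card_pos.ne')
    exact_mod_cast e3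
  obtain ⟨χ, hχ, hd1, hv1⟩ := four_columns (ι := IrrCharacter X) (t₀ := trivialIrr X)
    (d := fun χ => (deg χ : ℤ)) (v := fun l χ => v χ l) (fun χ => by exact_mod_cast hdeg0 χ) hd0
    (fun l m hlm => ⟨htriv l, htriv m, fun χ => hcongr χ l m, hnorm l, hnorm m, horth l m hlm,
      hdeg' l, hdeg' m⟩) heq
  -- the linear character
  have h1 : (χ : X → ℂ) 1 = 1 := by
    rw [hdeg χ]
    exact_mod_cast hd1
  obtain ⟨lin, hlin⟩ := linearHom_of_isCharacter (IsIrr.isCharacter χ.2) h1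
  have hker : ∀ l, l ≠ 3 → lin (τ l) = 1 := by
    intro l hl
    refine Units.ext ?_
    have e := hplain l hl χ
    rw [hlin, show v χ l = 1 from hv1 l, Int.cast_one] at e
    exact e
  set X₀ := lin.ker
  have hTX : (T : Subgroup X) ≤ X₀ := by
    intro t ht
    obtain ⟨x, hx⟩ := B.hom_surj hL ((hTL ⟨t, le_normalizer ht⟩).2 ht)
    have ha : lin γ = 1 := hker 0 (by decide)
    have hb' : lin b = 1 := hker 1 (by decide)
    have hx' : γ ^ x.toAdd.1.val * b ^ x.toAdd.2.val = t := congrArg Subtype.val hx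
    rw [MonoidHom.mem_ker, ← hx', map_mul, map_pow, map_pow, ha, hb', one_pow, one_pow, one_mul]
  have hX₀ : X₀ ≠ ⊤ := fun he => hχ (Subtype.ext (by
    rw [hlin]
    funext g
    have hg : g ∈ lin.ker := by rw [show lin.ker = ⊤ from he]; trivial
    rw [show lin g = 1 from hg]
    rfl))
  have hNX : L ⊓ X₀ ≤ (T : Subgroup X) := by
    rintro g ⟨hgL, hgX⟩
    by_contra hgT
    refine hX₀ (top_unique ?_)
    rw [← Sylow.normalizer_sup_eq_top' T hTX]
    refine sup_le (fun x hx => ?_) le_rfl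
    rcases h.invert x hx with hxT | hxi
    · exact hTX hxT
    · have hgi := (h.invert g hgL).resolve_left hgT
      have hm : x * g ∈ (T : Subgroup X) := by
        rw [← h.cent γ hγ hγα, mem_centralizer_singleton_iff]
        have e : x * g * γ * (x * g)⁻¹ = γ := by
          rw [show x * g * γ * (x * g)⁻¹ = x * (g * γ * g⁻¹) * x⁻¹ by group, hgi γ hγ,
            hxi _ (inv_mem hγ), inv_inv]
        exact mul_inv_eq_iff_eq_mul.1 e
      simpa using mul_mem (hTX hm) (inv_mem hgX)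
  let T₀ : Sylow 3 X₀ := T.subtype hTX
  have hT₀ : ∀ x : X₀, x ∈ (T₀ : Subgroup X₀) ↔ (x : X) ∈ (T : Subgroup X) := fun x => by
    rw [Sylow.coe_subtype, mem_subgroupOf]
  have hle : normalizer ((T₀ : Subgroup X₀) : Set X₀) ≤
      centralizer ((T₀ : Subgroup X₀) : Set X₀) := by
    intro g hg
    have hgT : (g : X) ∈ (T : Subgroup X) := hNX ⟨mem_normalizer_fintype fun n hn =>
      (hT₀ _).1 ((mem_normalizer_iff.1 hg ⟨n, hTX hn⟩).1 ((hT₀ ⟨n, hTX hn⟩).2 hn)), g.2⟩
    exact mem_centralizer_iff.2 fun t ht => Subtype.ext (h.comm _ ((hT₀ t).1 ht) _ hgT)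
  have hc := MonoidHom.ker_transferSylow_isComplement' T₀ hle
  set N₀ := (MonoidHom.transferSylow T₀ hle).ker
  have hN0 : ¬ 3 ∣ Nat.card N₀ := MonoidHom.not_dvd_card_ker_transferSylow T₀ hle
  haveI : N₀.Characteristic := by
    refine Subgroup.characteristic_iff_map_le.2 fun f => ?_
    have hcop : (Nat.card (N₀.map f.toMonoidHom)).Coprime (N₀.index) := by
      rw [Subgroup.card_map_of_injective (f := f.toMonoidHom) f.injective, hc.symm.index_eq_card,
        Sylow.coe_subtype, Nat.card_congr (subgroupOfEquivOfLe hTX).toEquiv, h.card,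
        show 9 = 3 ^ 2 by norm_num]
      exact Nat.Coprime.pow_right 2
        (Nat.coprime_comm.1 ((Nat.Prime.coprime_iff_not_dvd Nat.prime_three).2 hN0))
    intro x hx
    rw [← QuotientGroup.eq_one_iff (N := N₀), ← orderOf_eq_one_iff]
    refine Nat.eq_one_of_dvd_coprimes hcop ?_ ?_
    · exact (orderOf_map_dvd (QuotientGroup.mk' N₀) x).trans ((N₀.map f.toMonoidHom).orderOf_dvd_natCard hx)
    · rw [Subgroup.index_eq_card]
      exact orderOf_dvd_natCard _
  haveI : X₀.Normal := MonoidHom.normal_ker lin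
  have hbot : N₀ = ⊥ := by
    refine Subgroup.map_injective X₀.subtype_injective ?_
    rw [Subgroup.map_bot]
    refine hcore _ ConjAct.normal_of_characteristic_of_normal ?_
    rwa [Subgroup.card_map_of_injective X₀.subtype_injective]
  rw [hbot, isComplement'_bot_left] at hc
  refine normal_of_normal_subtype T hTX ?_
  show (T₀ : Subgroup X₀).Normal
  rw [hc]
  infer_instance

end KerHyp

end Cfsg.Agent.Recog.AltNine
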