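import Cfsg.Agent.Lib.Recog.AltNine.Central
import Cfsg.Agent.Lib.Recog.AltNine.CoreKernel

/-!
The centralizers of elements of weight two lie in `H`; the centralizer of an element of weight one
lies in `H` or is a group of order three times the alternating group of degree six.
-/

set_option autoImplicit false
set_option linter.style.haveILetI false
set_option linter.unusedSectionVars false

namespace Cfsg.Agent.Recog.AltNine

open Cfsg Subgroup Cfsg.Agent.Recog.MonoCube Cfsg.Agent.Recog.MonoCube.W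
open Cfsg.Agent.Block.NineCC

universe u

namespace Ctx

open Code

variable {G : Type u} [Group G] [Finite G] (C : Ctx G)

/-- The normal complement in the centralizer of two generators of the core. -/
theorem exists_complement :
    ∃ K : Subgroup G, K ≤ centralizer ({C.θ jA, C.θ jB} : Set G) ∧ (Nat.card K).Coprime 3 ∧
      (∀ g ∈ centralizer ({C.θ jA, C.θ jB} : Set G), ∀ k ∈ K, g * k * g⁻¹ ∈ K) ∧
      ∀ g ∈ centralizer ({C.θ jA, C.θ jB} : Set G), ∃ k ∈ K, ∃ j ∈ C.J, g = k * j := by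
  haveI : Fact (Nat.Prime 3) := ⟨by norm_num⟩
  obtain ⟨hA, hB, -, -, -, hwA, -⟩ := basic
  set Y := centralizer ({C.θ jA, C.θ jB} : Set G)
  have hYA : Y ≤ centralizer ({C.θ jA} : Set G) := centralizer_le (by simp)
  have hJY : C.J ≤ Y := by
    rintro _ ⟨w, hw, rfl⟩
    refine mem_centralizer_iff.2 ?_
    rintro _ (rfl | rfl)
    exacts [(C.inJ_commute hA hw).eq, (C.inJ_commute hB hw).eq]
  obtain ⟨T, hT⟩ := C.sylow_J hA (Or.inl hwA) hJY hYA
  have hle : normalizer ((T : Subgroup Y) : Set Y) ≤ centralizer ((T : Subgroup Y) : Set Y) := by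
    intro g hg
    rw [hT] at hg ⊢
    have hgH : (g : G) ∈ C.H := by
      rw [← C.normalizer_J]
      exact mem_normalizer_fintype fun n hn => (mem_normalizer_iff.1 hg ⟨n, hJY hn⟩).1 hn
    obtain ⟨w, hw⟩ := hgH
    have h := mem_centralizer_iff.1 g.2
    have hwJ : inJ w = true := cent_AB w
      (C.inj (by rw [map_mul, map_mul, hw]; exact (h _ (Or.inl rfl)).symm))
      (C.inj (by rw [map_mul, map_mul, hw]; exact (h _ (Or.inr rfl)).symm))
    refine mem_centralizer_iff.2 fun t ht => Subtype.ext ?_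
    obtain ⟨v, hv, hve⟩ : (t : G) ∈ C.J := ht
    show (t : G) * g = g * t
    rw [← hve, ← hw, (C.inJ_commute hv hwJ).eq]
  have hc := MonoidHom.ker_transferSylow_isComplement' T hle
  set K0 := (MonoidHom.transferSylow T hle).ker
  refine ⟨K0.map Y.subtype, Subgroup.map_subtype_le K0, ?_, ?_, ?_⟩
  · rw [Subgroup.card_map_of_injective Y.subtype_injective, Nat.coprime_comm]
    exact (Nat.Prime.coprime_iff_not_dvd Nat.prime_three).2
      (MonoidHom.not_dvd_card_ker_transferSylow T hle)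
  · rintro g hg _ ⟨k, hk, rfl⟩
    let g' : Y := ⟨g, hg⟩
    have h1 : g' * k * g'⁻¹ ∈ K0 := Subgroup.Normal.conj_mem (MonoidHom.normal_ker _) k hk g'
    exact ⟨g' * k * g'⁻¹, h1, rfl⟩
  · intro g hg
    obtain ⟨⟨k, t⟩, hkt⟩ := hc.2 ⟨g, hg⟩
    refine ⟨_, ⟨k, k.2, rfl⟩, ((t : Y) : G), ?_, (congrArg Subtype.val hkt).symm⟩
    have h : (t : Y) ∈ C.J.subgroupOf Y := hT ▸ t.2
    exact h

theorem eq_mk {s : W} (hs : inJ s = true) {j : W} {hj : inJ j = true} {x : C.cen s} {n : Fin 3}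
    (hx : (x : G) = C.θ (j * pw3 s n)) :
    QuotientGroup.mk' (C.line s) x =
      QuotientGroup.mk' (C.line s) ⟨C.θ j, C.J_le_cen hs (C.mem_J hj)⟩ := by
  rw [C.mk_eq_iff]
  refine C.θ_mem_line (m := n) ?_
  show (x : G) * (C.θ j)⁻¹ = _
  rw [hx, map_mul, (C.inJ_commute hj (inJ_pw3 s hs n)).eq, mul_inv_cancel_right]

/-- The centralizer of the product of two cycles lies in `H`. -/
theorem cent_AB_le : centralizer ({C.θ jAB} : Set G) ≤ C.H := by
  haveI : Fact (Nat.Prime 3) := ⟨by norm_num⟩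
  obtain ⟨hA, hB, -, hS, -, -, -, -, hwS, -, hA1, -, -, hS1, hAB, -⟩ := basic
  obtain ⟨T, hTdef, hT9, hTmem, hTexp, hTcomm⟩ := C.exists_sylow_quot hS hS1 (Or.inr hwS)
  obtain ⟨K, hKY, hKcop, hKn, hKdec⟩ := C.exists_complement
  set π := QuotientGroup.mk' (C.line jAB) with hπdef
  have hπs : Function.Surjective π := QuotientGroup.mk'_surjective _
  let el : ∀ j : W, inJ j = true → C.cen jAB := fun j hj => ⟨C.θ j, C.J_le_cen hS (C.mem_J hj)⟩
  set α := π (el jA hA) with hα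
  have hlift : ∀ (x : C.cen jAB) (j : W) (hj : inJ j = true), j ≠ 1 →
      π x * π (el j hj) = π (el j hj) * π x → (x : G) * C.θ j = C.θ j * (x : G) :=
    fun x j hj hj1 h => C.lift_commute hS stab_AB hj hj1 (C.mk_commute h)
  have hzp : ∀ (j : W) (hj : inJ j = true), j.z = 0 → π (el j hj) ∈ zpowers α := by
    intro j hj hz
    obtain ⟨m, n, hmn⟩ := span j hj hz
    have hm := inJ_pw3 jA hA m
    rw [show π (el j hj) = π (el _ hm) from C.eq_mk hS (hj := hm) (n := n) (congrArg C.θ hmn)]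
    refine ⟨(m : ℕ), ?_⟩
    show α ^ ((m : ℕ) : ℤ) = _
    rw [zpow_natCast, hα, ← map_pow]
    refine congrArg π (Subtype.ext ?_)
    show C.θ jA ^ (m : ℕ) = C.θ (pw3 jA m)
    fin_cases m
    · simp [pw3]
    · simp [pw3]
    · simp [pw3, map_mul, pow_two]
  have hα1 : α ≠ 1 := by
    intro h
    obtain ⟨n, hn⟩ := C.mem_line hS ((QuotientGroup.eq_one_iff (el jA hA)).1 h)
    have h3 := C.inj hn
    obtain ⟨-, -, h2⟩ := pw3_line 1
    exact (h2.resolve_left hA1) n h3
  have hKcen : K ≤ C.cen jAB := fun k hk => by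
    have h := mem_centralizer_iff.1 (hKY hk)
    refine mem_centralizer_singleton_iff.2 ?_
    have h1 : Commute k (C.θ jA) := (h _ (Or.inl rfl)).symm
    have h2 : Commute k (C.θ jB) := (h _ (Or.inr rfl)).symm
    rw [← hAB, map_mul]
    exact (h1.mul_right h2).eq
  have hH : KerHyp T α ((K.subgroupOf (C.cen jAB)).map π) := by
    refine ⟨hT9, hTexp, hTcomm, ?_, hα1, ?_, ?_, ?_, ?_, ?_, ?_, ?_⟩
    · rw [hTdef]; exact ⟨el jA hA, C.mem_J hA, rfl⟩
    · intro τ hτ hτα
      obtain ⟨j, hj, rfl⟩ := hTmem τ hτ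
      have hz : j.z ≠ 0 := fun hz => hτα (hzp j hj hz)
      have hj1 : j ≠ 1 := fun e => hz (by rw [e]; rfl)
      refine le_antisymm (fun q hq => ?_) (fun q hq => mem_centralizer_singleton_iff.2
        (hTcomm q hq _ (by rw [hTdef]; exact ⟨el j hj, C.mem_J hj, rfl⟩)))
      obtain ⟨x, rfl⟩ := hπs q
      have hxj := hlift x j hj hj1 (mem_centralizer_singleton_iff.1 hq)
      obtain ⟨m, n, h3⟩ := wide j hj hz
      have hxs : Commute (x : G) (C.θ jAB) := mem_centralizer_singleton_iff.1 x.2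
      have hpc : ∀ (v : W) (m : Fin 3), Commute (x : G) (C.θ v) →
          Commute (x : G) (C.θ (pw3 v m)) := by
        intro v m hv
        fin_cases m
        · simp [pw3]
        · simpa [pw3] using hv
        · simpa [pw3] using hv.mul_right hv
      obtain ⟨w, hw⟩ := C.cent_wt3 (inJ_mul _ (inJ_pw3 j hj m) _ (inJ_pw3 _ hS n)).1 h3
        (show (x : G) ∈ _ from mem_centralizer_singleton_iff.2 (by
          rw [map_mul]; exact ((hpc j m hxj).mul_right (hpc _ n hxs)).eq))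
      have hwJ : inJ w = true := cent_ABj w
        (C.inj (by rw [map_mul, map_mul, hw]; exact hxs)) j hj hz
        (C.inj (by rw [map_mul, map_mul, hw]; exact hxj))
      rw [hTdef]
      exact ⟨x, ⟨w, hwJ, hw⟩, rfl⟩
    · refine Nat.Coprime.coprime_dvd_left (Subgroup.card_map_dvd _ _) ?_
      rwa [Nat.card_congr (subgroupOfEquivOfLe hKcen).toEquiv]
    · rintro _ ⟨x, hx, rfl⟩
      refine mem_centralizer_singleton_iff.2 ?_
      rw [hα, ← map_mul, ← map_mul]
      exact congrArg π (Subtype.ext (mem_centralizer_iff.1 (hKY hx) _ (Or.inl rfl)).symm)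
    · intro q hq
      obtain ⟨x, rfl⟩ := hπs q
      have hxA := hlift x jA hA hA1 hq
      have hxB : Commute (x : G) (C.θ jB) := by
        have e : C.θ jB = (C.θ jA)⁻¹ * C.θ jAB := by rw [← hAB, map_mul, inv_mul_cancel_left]
        rw [e]
        exact (Commute.inv_right hxA).mul_right (mem_centralizer_singleton_iff.1 x.2)
      obtain ⟨k, hk, j, hj, hxkj⟩ := hKdec x (mem_centralizer_iff.2 (by
        rintro _ (rfl | rfl)
        exacts [hxA.symm, hxB.eq.symm]))
      refine ⟨_, ⟨⟨k, hKcen hk⟩, hk, rfl⟩, π ⟨j, C.J_le_cen hS hj⟩,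
        by rw [hTdef]; exact ⟨_, hj, rfl⟩, ?_⟩
      rw [← map_mul]
      exact congrArg π (Subtype.ext hxkj)
    · intro τ hτ
      rintro _ ⟨x, hx, rfl⟩
      obtain ⟨j, hj, rfl⟩ := hTmem τ hτ
      refine ⟨el j hj * x * (el j hj)⁻¹, ?_, by simp only [map_mul, map_inv]; rfl⟩
      refine hKn (C.θ j) (mem_centralizer_iff.2 ?_) x hx
      rintro _ (rfl | rfl)
      exacts [(C.inJ_commute hA hj).eq, (C.inJ_commute hB hj).eq]
    · obtain ⟨w, hws, hwJ⟩ := swap_AB
      let x : C.cen jAB := ⟨C.θ w, mem_centralizer_singleton_iff.2 (by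
        rw [← map_mul, ← map_mul, hws])⟩
      refine ⟨π x, mem_normalizer_fintype fun q hq => ?_, fun hx => ?_⟩
      · obtain ⟨j, hj, rfl⟩ := hTmem q hq
        rw [SetLike.mem_coe, hTdef]
        exact ⟨x * el j hj * x⁻¹, ⟨w * j * w⁻¹, inJ_conj j hj w, by simp [x, el]⟩,
          by simp only [map_mul, map_inv]; rfl⟩
      · obtain ⟨j, hj, hjx⟩ := hTmem _ hx
        rw [C.mk_eq_iff] at hjx
        obtain ⟨n, hn⟩ := C.mem_line hS hjx
        have h1 : C.θ w * (C.θ j)⁻¹ = C.θ (pw3 jAB n) := hn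
        rw [← map_inv, ← map_mul] at h1
        have h2 := C.inj h1
        have : inJ w = true := by
          rw [show w = pw3 jAB n * j by rw [← h2, inv_mul_cancel_right]]
          exact (inJ_mul _ (inJ_pw3 _ hS n) j hj).1
        rw [this] at hwJ
        exact Bool.noConfusion hwJ
    · intro q hq
      obtain ⟨x, rfl⟩ := hπs q
      have hxH : (x : G) ∈ C.H := by
        rw [← C.normalizer_J]
        refine mem_normalizer_fintype fun n hn => ?_
        obtain ⟨j, hj, rfl⟩ := hn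
        have h1 := (mem_normalizer_iff.1 hq (π (el j hj))).1
          (by rw [hTdef]; exact ⟨_, C.mem_J hj, rfl⟩)
        rw [← map_inv, ← map_mul, ← map_mul] at h1
        obtain ⟨j', hj', he⟩ := hTmem _ h1
        rw [C.mk_eq_iff] at he
        obtain ⟨m, hm⟩ := C.mem_line hS he
        have hm' : (x : G) * C.θ j * (x : G)⁻¹ * (C.θ j')⁻¹ = C.θ (pw3 jAB m) := by
          simpa [el] using hm
        have e : (x : G) * C.θ j * (x : G)⁻¹ = C.θ (pw3 jAB m * j') := by
          rw [map_mul, ← hm', inv_mul_cancel_right]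
        rw [SetLike.mem_coe, e]
        exact C.mem_J (inJ_mul _ (inJ_pw3 _ hS m) _ hj').1
      obtain ⟨w, hw⟩ := hxH
      rcases invert_AB w (C.inj (by
        rw [map_mul, map_mul, hw]; exact mem_centralizer_singleton_iff.1 x.2)) with hJ | hI
      · left
        rw [hTdef]
        exact ⟨x, ⟨w, hJ, hw⟩, rfl⟩
      · right
        intro τ hτ
        obtain ⟨j, hj, rfl⟩ := hTmem τ hτ
        obtain ⟨n, hn⟩ := hI j hj
        rw [← map_inv, ← map_inv, ← map_mul, ← map_mul,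
          show (⟨C.θ j, C.J_le_cen hS (C.mem_J hj)⟩ : C.cen jAB)⁻¹ =
            ⟨C.θ j⁻¹, C.J_le_cen hS (C.mem_J (inJ_inv' j hj))⟩ from Subtype.ext (map_inv C.θ j).symm]
        refine C.eq_mk hS (hj := inJ_inv' j hj) (n := n) ?_
        rw [← hn]
        simp only [Subgroup.coe_mul, InvMemClass.coe_inv, map_mul, map_inv, hw]
  have hn := hH.normal fun N hN hd =>
    haveI := hN
    core_quotient (C.line jAB) (C.line_central jAB) (C.card_line hS hS1) (C.core_cen hS hS1) N hd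
  intro g hg
  rw [← C.normalizer_J]
  refine mem_normalizer_fintype fun x hx => ?_
  obtain ⟨j, hj, rfl⟩ := hx
  have h1 := hn.conj_mem _ (show π (el j hj) ∈ (T : Subgroup _) by
    rw [hTdef]; exact ⟨_, C.mem_J hj, rfl⟩) (π ⟨g, hg⟩)
  rw [← map_inv, ← map_mul, ← map_mul] at h1
  obtain ⟨j', hj', he⟩ := hTmem _ h1
  rw [C.mk_eq_iff] at he
  obtain ⟨n, hn'⟩ := C.mem_line hS he
  have hm' : g * C.θ j * g⁻¹ * (C.θ j')⁻¹ = C.θ (pw3 jAB n) := by simpa [el] using hn'
  have e : g * C.θ j * g⁻¹ = C.θ (pw3 jAB n * j') := by rw [map_mul, ← hm', inv_mul_cancel_right]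
  rw [SetLike.mem_coe, e]
  exact C.mem_J (inJ_mul _ (inJ_pw3 _ hS n) _ hj').1

/-- The centralizers of elements of weight at least two lie in `H`. -/
theorem cent_le {v : W} (hv : inJ v = true) (hw : wt v = 2 ∨ wt v = 3) :
    centralizer ({C.θ v} : Set G) ≤ C.H := by
  rcases hw with h2 | h3
  swap
  · exact C.cent_wt3 hv h3
  obtain ⟨-, -, -, hS, -, -, -, -, hwS, -, -, -, -, hS1, -⟩ := basic
  have hv1 : v ≠ 1 := fun e => by rw [e] at h2; exact absurd h2 (by decide)
  obtain ⟨p, e, hc⟩ := wt_orbit jAB hS hS1 v hv hv1 (hwS.trans h2.symm)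
  set d := C.θ (⟨p, e, 0, 0, 0⟩ : W) with hd
  have hcd : d * C.θ jAB * d⁻¹ = C.θ v := by rw [hd, ← map_inv, ← map_mul, ← map_mul, hc]
  intro x hx
  rw [mem_centralizer_singleton_iff, ← hcd] at hx
  have h1 : d⁻¹ * x * d ∈ C.H := by
    refine C.cent_AB_le (mem_centralizer_singleton_iff.2 ?_)
    calc d⁻¹ * x * d * C.θ jAB = d⁻¹ * (x * (d * C.θ jAB * d⁻¹)) * d := by group
      _ = C.θ jAB * (d⁻¹ * x * d) := by rw [hx]; group
  have h3 := mul_mem (mul_mem (C.mem_H (⟨p, e, 0, 0, 0⟩ : W)) h1) (inv_mem (C.mem_H (⟨p, e, 0, 0, 0⟩ : W)))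
  rw [← hd] at h3
  simpa [mul_assoc] using h3

/-- The centralizer of the first cycle lies in `H` or is `3 × A₆` up to splitting. -/
theorem cent_A_cases : centralizer ({C.θ jA} : Set G) ≤ C.H ∨
    Nonempty ((C.cen jA ⧸ C.line jA) ≃* alternatingGroup (Fin 6)) := by
  haveI : Fact (Nat.Prime 3) := ⟨by norm_num⟩
  obtain ⟨hA, hB, -, -, hBC, hwA, -, -, -, -, hA1, hB1, -, -, -, hBCe⟩ := basic
  obtain ⟨T, hTdef, hT9, hTmem, hTexp, hTcomm⟩ := C.exists_sylow_quot hA hA1 (Or.inl hwA)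
  set π := QuotientGroup.mk' (C.line jA) with hπdef
  have hπs : Function.Surjective π := QuotientGroup.mk'_surjective _
  let el : ∀ j : W, inJ j = true → C.cen jA := fun j hj => ⟨C.θ j, C.J_le_cen hA (C.mem_J hj)⟩
  have hne : ∀ (j : W) (hj : inJ j = true), π (el j hj) ≠ 1 → ∀ n, j ≠ pw3 jA n := fun j hj h n e =>
    h ((QuotientGroup.eq_one_iff _).2 (C.θ_mem_line (m := n) (congrArg C.θ e)))
  have hH : Hyp T := by
    refine ⟨hT9, hTexp, fun τ hτ hτ1 => ?_⟩
    obtain ⟨j, hj, rfl⟩ := hTmem τ hτ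
    have hjn := hne j hj hτ1
    have hj1 : j ≠ 1 := fun e => hjn 0 (e.trans rfl)
    refine le_antisymm (fun q hq => ?_) (fun q hq => mem_centralizer_singleton_iff.2
      (hTcomm q hq _ (by rw [hTdef]; exact ⟨el j hj, C.mem_J hj, rfl⟩)))
    obtain ⟨x, rfl⟩ := hπs q
    have hxj := C.lift_commute hA stab_A hj hj1 (C.mk_commute (mem_centralizer_singleton_iff.1 hq))
    obtain ⟨m, n, h23⟩ := wide_A j hj hjn
    have hxs : Commute (x : G) (C.θ jA) := mem_centralizer_singleton_iff.1 x.2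
    have hpc : ∀ (v : W) (m : Fin 3), Commute (x : G) (C.θ v) →
        Commute (x : G) (C.θ (pw3 v m)) := by
      intro v m hv
      fin_cases m
      · simp [pw3]
      · simpa [pw3] using hv
      · simpa [pw3] using hv.mul_right hv
    obtain ⟨w, hw⟩ := C.cent_le (inJ_mul _ (inJ_pw3 j hj m) _ (inJ_pw3 _ hA n)).1 h23
      (show (x : G) ∈ _ from mem_centralizer_singleton_iff.2 (by
        rw [map_mul]; exact ((hpc j m hxj).mul_right (hpc _ n hxs)).eq))
    have hwJ : inJ w = true := cent_Aj w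
      (C.inj (by rw [map_mul, map_mul, hw]; exact hxs)) j hj hjn
      (C.inj (by rw [map_mul, map_mul, hw]; exact hxj))
    rw [hTdef]
    exact ⟨x, ⟨w, hwJ, hw⟩, rfl⟩
  have hne1 : ∀ (j : W) (hj : inJ j = true), (∀ n, j ≠ pw3 jA n) → π (el j hj) ≠ 1 := by
    intro j hj hn h
    obtain ⟨n, hn'⟩ := C.mem_line hA ((QuotientGroup.eq_one_iff (el j hj)).1 h)
    exact hn n (C.inj hn')
  have h2 : TwoClasses T := by
    refine ⟨π (el jB hB), by rw [hTdef]; exact ⟨_, C.mem_J hB, rfl⟩, π (el jBC hBC),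
      by rw [hTdef]; exact ⟨_, C.mem_J hBC, rfl⟩, hne1 _ hB indep.1, hne1 _ hBC indep.2, ?_⟩
    intro hc
    obtain ⟨q, hq⟩ := isConj_iff.1 hc
    obtain ⟨x, rfl⟩ := hπs q
    rw [← map_inv, ← map_mul, ← map_mul, C.mk_eq_iff] at hq
    obtain ⟨n, hn⟩ := C.mem_line hA hq
    have hn' : (x : G) * C.θ jB * (x : G)⁻¹ * (C.θ jBC)⁻¹ = C.θ (pw3 jA n) := by
      simpa [el] using hn
    have hp := inJ_pw3 jA hA n
    have hxj : (x : G) * C.θ jB * (x : G)⁻¹ = C.θ (jBC * pw3 jA n) := by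
      rw [map_mul, (C.inJ_commute hBC hp).eq, ← hn', inv_mul_cancel_right]
    obtain ⟨w, hws, hwj⟩ := C.fusion hB hB1 (inJ_mul _ hBC _ hp).1 [jA] (by simpa using hA)
      (by simpa using mem_centralizer_singleton_iff.1 x.2) hxj
    exact two_classes w (hws jA (by simp)) n hwj
  rcases hH.normal_or_iso h2 with hn | ⟨-, hiso⟩
  · left
    intro g hg
    rw [← C.normalizer_J]
    refine mem_normalizer_fintype fun x hx => ?_
    obtain ⟨j, hj, rfl⟩ := hx
    have h1 := hn.conj_mem _ (show π (el j hj) ∈ (T : Subgroup _) by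
      rw [hTdef]; exact ⟨_, C.mem_J hj, rfl⟩) (π ⟨g, hg⟩)
    rw [← map_inv, ← map_mul, ← map_mul] at h1
    obtain ⟨j', hj', he⟩ := hTmem _ h1
    rw [C.mk_eq_iff] at he
    obtain ⟨n, hn'⟩ := C.mem_line hA he
    have hm' : g * C.θ j * g⁻¹ * (C.θ j')⁻¹ = C.θ (pw3 jA n) := by simpa [el] using hn'
    have e : g * C.θ j * g⁻¹ = C.θ (pw3 jA n * j') := by rw [map_mul, ← hm', inv_mul_cancel_right]
    rw [SetLike.mem_coe, e]
    exact C.mem_J (inJ_mul _ (inJ_pw3 _ hA n) _ hj').1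
  · exact Or.inr hiso

end Ctx

end Cfsg.Agent.Recog.AltNine
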