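import Cfsg.Agent.Lib.Recog.AltNine.PhiData

/-!
Finite facts about involutions and four groups in the alternating group of degree nine.
-/

set_option autoImplicit false
set_option maxRecDepth 100000

namespace Cfsg.Agent.Recog.AltNine

open Equiv Cfsg.Agent.Recog.MonoCube Cfsg.Agent.Recog.MonoCube.W

namespace Fours

/-- The involution of four transpositions in the code group. -/
def tW : W := ⟨3, 0, 0, 0, 1⟩

theorem tW_perm : toPerm tW = swap 0 3 * swap 1 4 * swap 2 5 * swap 6 7 ∧
    toPerm wW = swap 0 1 * swap 7 8 ∧ tW * Code.jAB = Code.jAB * tW := by decide +kernel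

theorem tW_cent : ∀ w : W, w * Code.jAB = Code.jAB * w → w * tW = tW * w →
    ∃ i : Fin 3, w = Code.pw3 Code.jAB i ∨ w = Code.pw3 Code.jAB i * tW := by decide +kernel

theorem reps : Perm.cycleType (toPerm wW) = Multiset.replicate 2 2 ∧
    Perm.cycleType (toPerm tW) = Multiset.replicate 4 2 ∧
    (Finset.univ.filter fun i : Fin 9 => toPerm wW i = i).card = 5 ∧
    (Finset.univ.filter fun i : Fin 9 => toPerm tW i = i).card = 1 ∧
    toPerm wW * swap 2 3 = swap 2 3 * toPerm wW ∧ toPerm tW * swap 0 3 = swap 0 3 * toPerm tW := by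
  decide +kernel

/-- The involution completing the regular four group of the middle copy. -/
def w2P : A9 := ek9 1 wl2

/-- The involution completing the four group of the second kind. -/
def dP : A9 := ek9 1 dl

theorem four_perms : (w2P : Perm (Fin 9)) = swap 0 7 * swap 1 8 ∧
    (dP : Perm (Fin 9)) = swap 0 1 * swap 2 6 ∧ perm9 wW = ek9 1 wl := by decide +kernel

/-- Elements moving the candidates to the four group of the second kind. -/
def movers : List (Perm (Fin 9)) :=
  let ks : List (Perm (Fin 9)) := [swap 3 6 * swap 6 4, swap 4 6 * swap 6 5, swap 4 5 * swap 5 6, 1,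
    swap 2 3 * swap 4 6, swap 2 3 * swap 5 6, swap 2 3 * swap 4 5,
    swap 2 3 * swap 3 4 * swap 4 6 * swap 6 5, swap 2 3 * swap 3 4, swap 2 3 * swap 3 4 * swap 4 5 * swap 5 6]
  ks ++ ks.map (· * (swap 0 7 * swap 1 8))

theorem movers_check : movers.all (fun k => decide (Perm.sign k = 1) &&
    decide (k * toPerm wW = toPerm wW * k)) = true := by decide +kernel

theorem movers_even : ∀ k ∈ movers, Perm.sign k = 1 := fun k hk => by
  have := List.all_eq_true.1 movers_check k hk
  simp only [Bool.and_eq_true, decide_eq_true_eq] at this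
  exact this.1

theorem movers_commute : ∀ k ∈ movers, k * toPerm wW = toPerm wW * k := fun k hk => by
  have := List.all_eq_true.1 movers_check k hk
  simp only [Bool.and_eq_true, decide_eq_true_eq] at this
  exact this.2

/-- A product of two transpositions which, with the standard involution, forms a four group of
such products. -/
def Mate (a b c d : Fin 9) : Prop :=
  swap a b * swap c d * toPerm wW = toPerm wW * (swap a b * swap c d) ∧
    (Finset.univ.filter fun i : Fin 9 => (toPerm wW * (swap a b * swap c d)) i = i).card = 5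

instance (a b c d : Fin 9) : Decidable (Mate a b c d) := inferInstanceAs (Decidable (_ ∧ _))

theorem mate_check : ∀ a b : Fin 9, a ≠ b → ∀ c : Fin 9, c ≠ a → c ≠ b → ∀ d : Fin 9, d ≠ a → d ≠ b →
    d ≠ c → Mate a b c d →
      (swap a b * swap c d = swap 0 7 * swap 1 8 ∨
        swap a b * swap c d = toPerm wW * (swap 0 7 * swap 1 8)) ∨
      (movers.any fun k => decide (k * (swap a b * swap c d) * k⁻¹ = swap 0 1 * swap 2 6) ||
        decide (k * (swap a b * swap c d) * k⁻¹ = toPerm wW * (swap 0 1 * swap 2 6))) = true := by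
  decide +kernel

theorem mate_cases (a b : Fin 9) (h1 : a ≠ b) (c : Fin 9) (h2 : c ≠ a) (h3 : c ≠ b) (d : Fin 9)
    (h4 : d ≠ a) (h5 : d ≠ b) (h6 : d ≠ c) (hm : Mate a b c d) :
      (swap a b * swap c d = swap 0 7 * swap 1 8 ∨
        swap a b * swap c d = toPerm wW * (swap 0 7 * swap 1 8)) ∨
      ∃ k ∈ movers, k * (swap a b * swap c d) * k⁻¹ = swap 0 1 * swap 2 6 ∨
        k * (swap a b * swap c d) * k⁻¹ = toPerm wW * (swap 0 1 * swap 2 6) := by
  refine (mate_check a b h1 c h2 h3 d h4 h5 h6 hm).imp id fun h => ?_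
  simp only [List.any_eq_true, Bool.or_eq_true, decide_eq_true_eq] at h
  exact h

theorem stab_invol : ∀ σ : A6, (σ : Perm (Fin 6)) 5 = 5 → σ ≠ 1 →
    σ * σ * σ = 1 ∨ σ * σ * (σ * σ) * σ = 1 →
    ∃ g : A6, (g : Perm (Fin 6)) 5 = 5 ∧ σ * (g * (σ * σ) * g⁻¹) ≠ 1 ∧
      σ * (g * (σ * σ) * g⁻¹) * (σ * (g * (σ * σ) * g⁻¹)) = 1 := by decide +kernel

theorem stab_exp : ∀ σ : A6, (σ : Perm (Fin 6)) 5 = 5 → σ * σ = 1 ∨ σ * σ * σ = 1 ∨
    σ * σ * (σ * σ) * σ = 1 := by decide +kernel

/-- A pair of commuting transpositions exchanged by the four-transposition involution. -/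
def uP : A9 := ⟨swap 0 3 * swap 1 4, Perm.mem_alternatingGroup.2 (by decide)⟩

theorem uP_facts : let y := perm9 Code.jAB; let s := perm9 s3W; let t := perm9 tW
    uP * uP = 1 ∧ uP * (y * uP * y⁻¹) = y * uP * y⁻¹ * uP ∧
      uP * (y * uP * y⁻¹) * (y * y * uP * (y * y)⁻¹) = 1 ∧ s * uP * s⁻¹ = uP ∧
      uP * t = t * uP ∧ s * t = t * s ∧ s * y * s⁻¹ = y⁻¹ ∧ s * s = 1 ∧
      (Finset.univ.filter fun i : Fin 9 => (uP : Perm (Fin 9)) i = i).card = 5 := by decide +kernel

/-- The relations between the images of three elements which force the third to be trivial. -/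
def Rel3 {Q : Type*} [Group Q] (y s u : Q) : Prop :=
  y * y * y = 1 ∧ y ≠ 1 ∧ s * s = 1 ∧ s * y * s⁻¹ = y⁻¹ ∧ u * u = 1 ∧ u * (y * u * y⁻¹) = y * u * y⁻¹ * u ∧
    u * (y * u * y⁻¹) * (y * y * u * (y * y)⁻¹) = 1 ∧ s * u * s⁻¹ = u

instance {Q : Type*} [Group Q] [DecidableEq Q] (y s u : Q) : Decidable (Rel3 y s u) :=
  inferInstanceAs (Decidable (_ ∧ _))

theorem rel3_S3 : ∀ y : Perm (Fin 3), y * y * y = 1 → y ≠ 1 → ∀ s : Perm (Fin 3),
    s * y * s⁻¹ = y⁻¹ → ∀ u : Perm (Fin 3), Rel3 y s u → u = 1 := by decide +kernel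

set_option synthInstance.maxSize 20000 in
theorem rel3_A5_check : ∀ y : alternatingGroup (Fin 5), y * y * y = 1 ∧ y ≠ 1 →
    ∀ s : alternatingGroup (Fin 5), s * s = 1 ∧ s * y * s⁻¹ = y⁻¹ →
      ∀ u : alternatingGroup (Fin 5), Rel3 y s u → u = 1 := by decide +kernel

theorem rel3_A5 (y s u : alternatingGroup (Fin 5)) (h : Rel3 y s u) : u = 1 :=
  rel3_A5_check y ⟨h.1, h.2.1⟩ s ⟨h.2.2.1, h.2.2.2.1⟩ u h

/-- A group of order thirty-two centralizing the four-transposition involution. -/
def big : List (Perm (Fin 9)) :=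
  let a := swap (0 : Fin 9) 3; let b := swap (1 : Fin 9) 4; let c := swap (2 : Fin 9) 5
  let d := swap (6 : Fin 9) 7
  let p := swap (0 : Fin 9) 1 * swap 3 4; let q := swap (2 : Fin 9) 6 * swap 5 7
  ([1, a * b, a * c, a * d, b * c, b * d, c * d, a * b * (c * d)]).flatMap fun f =>
    [f, f * p, f * q, f * (p * q)]

theorem big_facts : (big.Nodup ∧ big.length = 32) ∧ (big.all fun x => decide (Perm.sign x = 1) &&
    decide (x * toPerm tW = toPerm tW * x) && decide (x⁻¹ ∈ big) &&
      big.all fun y => decide (x * y ∈ big)) = true := by decide +kernel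

end Fours

end Cfsg.Agent.Recog.AltNine
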