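import Cfsg.Agent.Lib.Recog.AltNine.Phi
import Cfsg.Agent.Lib.Recog.AltNine.TopData
import Cfsg.Agent.Lib.Invol.ZStar

/-!
The centralizer of the involution of two transpositions lies in the copy of the alternating group of
degree nine.
-/

set_option autoImplicit false
set_option linter.style.haveILetI false
set_option linter.unusedSectionVars false

namespace Cfsg.Agent.Recog.AltNine

open Cfsg Subgroup Equiv Cfsg.Agent.Recog.MonoCube Cfsg.Agent.Recog.MonoCube.W Fours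

universe u

/-- The number of fixed points. -/
def fixCard (p : Perm (Fin 9)) : ℕ := (Finset.univ.filter fun i : Fin 9 => p i = i).card

theorem fixCard_conj (k p : Perm (Fin 9)) : fixCard (k * p * k⁻¹) = fixCard p := by
  refine (Finset.card_equiv k fun i => ?_).symm
  simp only [Finset.mem_filter, Finset.mem_univ, true_and]
  show p i = i ↔ (k * p * k⁻¹) (k i) = k i
  rw [Perm.mul_apply, Perm.mul_apply, Perm.inv_def, Equiv.symm_apply_apply, k.injective.eq_iff]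

theorem swap_conj (k : Perm (Fin 9)) (a b : Fin 9) : k * swap a b * k⁻¹ = swap (k a) (k b) := by
  rw [Equiv.mul_swap_eq_swap_mul, mul_inv_cancel_right]

/-- The two classes of involutions of degree nine. -/
theorem involution_cases (x : A9) (hx : x * x = 1) (hx1 : x ≠ 1) :
    (∃ k : A9, k * perm9 wW * k⁻¹ = x) ∨ ∃ k : A9, k * perm9 tW * k⁻¹ = x := by
  obtain ⟨hw, ht, -, -, hwc, htc⟩ := reps
  set p : Perm (Fin 9) := (x : Perm (Fin 9)) with hp
  have hp2 : p * p = 1 := congrArg Subtype.val hx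
  have hp1 : p ≠ 1 := fun h => hx1 (Subtype.ext h)
  have hall : ∀ n ∈ p.cycleType, n = 2 := by
    intro n hn
    have h1 := Perm.two_le_of_mem_cycleType hn
    have h2 : n ∣ 2 := by
      refine (Perm.dvd_of_mem_cycleType hn).trans ?_
      exact orderOf_dvd_of_pow_eq_one (by rw [pow_two, hp2])
    exact le_antisymm (Nat.le_of_dvd (by norm_num) h2) h1
  have hrep := Multiset.eq_replicate_card.2 hall
  have hsign : Perm.sign p = 1 := Perm.mem_alternatingGroup.1 x.2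
  rw [Perm.sign_of_cycleType, hrep, Multiset.sum_replicate, Multiset.card_replicate] at hsign
  have hle : p.cycleType.sum ≤ 9 := by
    rw [Perm.sum_cycleType]
    exact (Finset.card_le_univ _).trans_eq (Fintype.card_fin 9)
  rw [hrep, Multiset.sum_replicate, smul_eq_mul] at hle
  have hne : Multiset.card p.cycleType ≠ 0 := fun h => hp1 (Perm.cycleType_eq_zero.1
    (Multiset.card_eq_zero.1 h))
  have hcases : Multiset.card p.cycleType = 2 ∨ Multiset.card p.cycleType = 4 := by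
    revert hsign hle hne
    generalize Multiset.card p.cycleType = n
    intro hsign hle hne
    have : n ≤ 4 := by omega
    revert hsign hne
    interval_cases n <;> decide
  have fix : ∀ (r : W) (s : Perm (Fin 9)), Perm.sign s = -1 → toPerm r * s = s * toPerm r →
      (toPerm r).cycleType = p.cycleType → ∃ k : A9, k * perm9 r * k⁻¹ = x := by
    intro r s hs hrs hc
    obtain ⟨k, hk⟩ := isConj_iff.1 (Perm.isConj_of_cycleType_eq hc)
    rcases Int.units_eq_one_or (Perm.sign k) with h | h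
    · exact ⟨⟨k, Perm.mem_alternatingGroup.2 h⟩, Subtype.ext hk⟩
    · refine ⟨⟨k * s, Perm.mem_alternatingGroup.2 (by rw [map_mul, h, hs]; rfl)⟩, Subtype.ext ?_⟩
      show k * s * toPerm r * (k * s)⁻¹ = p
      rw [mul_assoc k, ← hrs, ← hk]; group
  rcases hcases with h | h
  · exact Or.inl (fix wW _ (Perm.sign_swap (by decide)) hwc (by rw [hw, hrep, h]))
  · exact Or.inr (fix tW _ (Perm.sign_swap (by decide)) htc (by rw [ht, hrep, h]))

namespace Ctx.Frame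

open Code

variable {G : Type u} [Group G] [Finite G] {C : Ctx G}

/-- A homomorphism of degree nine extending the frame. -/
structure Ext (F : C.Frame) where
  Φ : A9 →* G
  inj : Function.Injective Φ
  copy : ∀ k τ, Φ (ek9 k τ) = F.f k τ
  code : ∀ w, Φ (perm9 w) = C.θ w

theorem exists_ext (F : C.Frame) : Nonempty F.Ext := by
  obtain ⟨Φ, h1, h2, h3⟩ := F.exists_extension
  exact ⟨⟨Φ, h1, h2, h3⟩⟩

namespace Ext

variable {F : C.Frame} (X : F.Ext)

theorem f_mem (k : Fin 3) (τ : A6) : F.f k τ ∈ X.Φ.range := ⟨_, X.copy k τ⟩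

include X in
theorem θ_mem (w : W) : C.θ w ∈ X.Φ.range := ⟨_, X.code w⟩

include F in
/-- A conjugate of the standard involution inside is conjugate inside. -/
theorem conj_inside {g : G} {x : A9} (h : g * C.θ wW * g⁻¹ = X.Φ x) :
    ∃ k : A9, k * perm9 wW * k⁻¹ = x := by
  have hw2 : C.θ wW * C.θ wW = 1 := by
    rw [← map_mul, show wW * wW = 1 by decide +kernel, map_one]
  have hx : x * x = 1 := X.inj (by
    rw [map_mul, ← h, map_one, show g * C.θ wW * g⁻¹ * (g * C.θ wW * g⁻¹) =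
      g * (C.θ wW * C.θ wW) * g⁻¹ by group, hw2, mul_one, mul_inv_cancel])
  have hx1 : x ≠ 1 := fun e => by
    rw [e, map_one, conj_eq_one_iff, ← map_one C.θ] at h
    exact absurd (C.inj h) (by decide +kernel)
  refine (involution_cases x hx hx1).resolve_right ?_
  rintro ⟨k, rfl⟩
  refine F.not_conj_w (j := jAB) (by decide +kernel) (by decide +kernel) (x := C.θ tW) ?_
    (g := (X.Φ k)⁻¹ * g) ?_
  · show C.θ jAB * C.θ tW = C.θ tW * C.θ jAB
    rw [← map_mul, ← map_mul, ← tW_perm.2.2]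
  · rw [← X.code tW, show (X.Φ k)⁻¹ * g * C.θ wW * ((X.Φ k)⁻¹ * g)⁻¹ =
      (X.Φ k)⁻¹ * (g * C.θ wW * g⁻¹) * X.Φ k by group, h, map_mul, map_mul, map_inv]
    group

theorem fix_five {g : G} {x : A9} (h : g * C.θ wW * g⁻¹ = X.Φ x) :
    fixCard (x : Perm (Fin 9)) = 5 := by
  obtain ⟨k, rfl⟩ := X.conj_inside h
  show fixCard ((k : Perm (Fin 9)) * toPerm wW * (k : Perm (Fin 9))⁻¹) = 5
  rw [fixCard_conj]
  exact reps.2.2.1

theorem w2_eq : X.Φ w2P = F.f 1 wl2 := X.copy 1 wl2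

/-- The centralizer of the middle four group lies inside. -/
theorem cent_Wc_le : centralizer (F.Wc : Set G) ≤ X.Φ.range := by
  intro c hc
  have hk : F.kk ∈ X.Φ.range := mul_mem (X.f_mem 1 _) (X.θ_mem _)
  have hc' : F.kk⁻¹ * c * F.kk ∈ centralizer (F.Vc : Set G) := by
    refine mem_centralizer_iff.2 fun v hv => ?_
    have h : F.kk * v * F.kk⁻¹ * c = c * (F.kk * v * F.kk⁻¹) :=
      mem_centralizer_iff.1 hc _ (by
        rw [SetLike.mem_coe, ← F.map_Vc]; exact ⟨v, hv, rfl⟩)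
    calc v * (F.kk⁻¹ * c * F.kk) = F.kk⁻¹ * (F.kk * v * F.kk⁻¹ * c) * F.kk := by group
      _ = F.kk⁻¹ * c * F.kk * v := by rw [h]; group
  obtain ⟨τ, -, σ, -, he⟩ := F.full.2 _ hc'
  have e : c = F.kk * (F.f 2 τ * F.f 1 σ) * F.kk⁻¹ := by rw [← he]; group
  rw [e]
  exact mul_mem (mul_mem hk (mul_mem (X.f_mem 2 _) (X.f_mem 1 _))) (inv_mem hk)

include X in
theorem five_dvd : 5 ∣ Nat.card (centralizer (F.Wc : Set G)) := by
  rw [F.card_cent_Wc]
  set τ : A6 := ⟨swap 0 1 * swap 1 2 * swap 2 3 * swap 3 4, Perm.mem_alternatingGroup.2 (by decide)⟩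
  have h5 : (τ : Perm (Fin 6)) 5 = 5 := by decide +kernel
  have hmem : F.f 1 τ ∈ centralizer (F.Vc : Set G) := mem_centralizer_iff.2 (by
    rintro _ ⟨σ, hσ, rfl⟩
    exact (F.full.1 σ hσ τ h5).eq)
  have := orderOf_dvd_natCard _ hmem
  rwa [orderOf_injective _ (F.f_inj 1), orderOf_eq_prime (p := 5) (hp := ⟨by norm_num⟩)
    (by decide +kernel) (by decide +kernel)] at this

/-- The only conjugates of the second involution inside, commuting with the first. -/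
theorem isolated {n : G} (hn : Commute n (C.θ wW)) (hin : n * X.Φ w2P * n⁻¹ ∈ X.Φ.range) :
    n * X.Φ w2P * n⁻¹ = X.Φ w2P ∨ n * X.Φ w2P * n⁻¹ = X.Φ (perm9 wW * w2P) := by
  obtain ⟨x, hx⟩ := hin
  obtain ⟨hp2, hpd, hpw⟩ := four_perms
  obtain ⟨hd2, hdd, hdw, hdw2, hw2w, hww, hw22, hw21, hw2ne⟩ := dl_swaps
  have hconjw : ∀ σ : A6, σ * σ = 1 → σ ≠ 1 → ∃ g, g * C.θ wW * g⁻¹ = n * F.f 1 σ * n⁻¹ := by
    intro σ h1 h2
    obtain ⟨g, hg⟩ := involution_conj σ h1 h2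
    exact ⟨n * (F.f 1 g)⁻¹, by rw [F.wW_eq, ← hg, map_mul, map_mul, map_inv]; group⟩
  have hnw : n * C.θ wW * n⁻¹ = C.θ wW := by rw [hn.eq, mul_inv_cancel_right]
  obtain ⟨g, hg⟩ := hconjw wl2 hw22 hw21
  obtain ⟨k, hk⟩ := X.conj_inside (g := g) (x := x) (hg.trans (by rw [hx, X.w2_eq]))
  -- the form of the conjugate
  set kp : Perm (Fin 9) := (k : Perm (Fin 9))
  have hxp : (x : Perm (Fin 9)) = swap (kp 0) (kp 1) * swap (kp 7) (kp 8) := by
    rw [← hk, ← swap_conj, ← swap_conj]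
    show kp * toPerm wW * kp⁻¹ = _
    rw [tW_perm.2.1]; group
  have hmate : Mate (kp 0) (kp 1) (kp 7) (kp 8) := by
    refine ⟨?_, ?_⟩
    · rw [← hxp]
      refine congrArg Subtype.val (X.inj (a₁ := x * perm9 wW) (a₂ := perm9 wW * x) ?_)
      rw [map_mul, map_mul, hx, X.code]
      calc n * X.Φ w2P * n⁻¹ * C.θ wW = n * X.Φ w2P * n⁻¹ * (n * C.θ wW * n⁻¹) := by rw [hnw]
        _ = n * (X.Φ w2P * C.θ wW) * n⁻¹ := by group
        _ = n * (C.θ wW * X.Φ w2P) * n⁻¹ := by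
          rw [X.w2_eq, F.wW_eq, ← map_mul, hw2w, map_mul]
        _ = n * C.θ wW * n⁻¹ * (n * X.Φ w2P * n⁻¹) := by group
        _ = C.θ wW * (n * X.Φ w2P * n⁻¹) := by rw [hnw]
    · rw [← hxp]
      obtain ⟨g', hg'⟩ := hconjw (wl * wl2)
        (by rw [show wl * wl2 * (wl * wl2) = 1 by decide +kernel]) (by decide +kernel)
      refine X.fix_five (g := g') (x := perm9 wW * x) ?_
      rw [hg', map_mul X.Φ, hx, X.code, map_mul, ← F.wW_eq, X.w2_eq,
        show n * (C.θ wW * F.f 1 wl2) * n⁻¹ = n * C.θ wW * n⁻¹ * (n * F.f 1 wl2 * n⁻¹) by group, hnw]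
  have hinj := kp.injective
  rcases mate_cases _ _ (hinj.ne (by decide)) _ (hinj.ne (by decide)) (hinj.ne (by decide)) _
    (hinj.ne (by decide)) (hinj.ne (by decide)) (hinj.ne (by decide)) hmate with (h | h) | ⟨m, hm, h⟩
  · left
    rw [← hx]
    exact congrArg X.Φ (Subtype.ext (by rw [hxp, h, hp2]))
  · right
    rw [← hx]
    exact congrArg X.Φ (Subtype.ext (by
      show _ = toPerm wW * (w2P : Perm (Fin 9))
      rw [hxp, h, hp2]))
  exfalso
  set mA : A9 := ⟨m, Perm.mem_alternatingGroup.2 (movers_even m hm)⟩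
  set N := X.Φ mA * n
  have hNw : N * C.θ wW * N⁻¹ = C.θ wW := by
    rw [show N * C.θ wW * N⁻¹ = X.Φ mA * (n * C.θ wW * n⁻¹) * (X.Φ mA)⁻¹ by simp only [N]; group, hnw, ← X.code,
      ← map_mul, show mA * perm9 wW = perm9 wW * mA from Subtype.ext (movers_commute m hm), map_mul,
      mul_inv_cancel_right]
  have hNx : N * X.Φ w2P * N⁻¹ ∈ F.Wd := by
    rw [show N * X.Φ w2P * N⁻¹ = X.Φ mA * (n * X.Φ w2P * n⁻¹) * (X.Φ mA)⁻¹ by simp only [N]; group, ← hx,
      ← map_inv, ← map_mul, ← map_mul]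
    rcases h with h | h
    · rw [show mA * x * mA⁻¹ = dP from Subtype.ext (by
        show m * (x : Perm (Fin 9)) * m⁻¹ = _; rw [hxp, h, hpd]), dP, X.copy]
      exact ⟨dl, mem_Dl.2 (by simp), rfl⟩
    · rw [show mA * x * mA⁻¹ = perm9 wW * dP from Subtype.ext (by
        show m * (x : Perm (Fin 9)) * m⁻¹ = toPerm wW * (dP : Perm (Fin 9))
        rw [hxp, h, hpd]), map_mul, dP, X.copy, X.code, F.wW_eq, ← map_mul]
      exact ⟨wl * dl, mem_Dl.2 (by simp), rfl⟩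
  have hw' : C.θ wW ∈ F.Wd := by rw [F.wW_eq]; exact ⟨wl, mem_Dl.2 (by simp), rfl⟩
  have himg : F.Wc.map (MulAut.conj N).toMonoidHom = F.Wd := by
    refine eq_of_le_of_card_ge ?_ ?_
    · rintro _ ⟨_, ⟨τ, hτ, rfl⟩, rfl⟩
      show N * F.f 1 τ * N⁻¹ ∈ F.Wd
      rw [SetLike.mem_coe, mem_Wl] at hτ
      simp only [List.mem_cons, List.not_mem_nil, or_false] at hτ
      rcases hτ with rfl | rfl | rfl | rfl
      · rw [map_one, mul_one, mul_inv_cancel]; exact one_mem _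
      · rw [← F.wW_eq, hNw]; exact hw'
      · rw [← X.w2_eq]; exact hNx
      · rw [map_mul, ← F.wW_eq, ← X.w2_eq, show N * (C.θ wW * X.Φ w2P) * N⁻¹ =
          N * C.θ wW * N⁻¹ * (N * X.Φ w2P * N⁻¹) by group, hNw]
        exact mul_mem hw' hNx
    · rw [card_map_of_injective (MulAut.conj N).injective, F.card_Wc, Wd,
        card_map_of_injective (F.f_inj 1)]
      exact (card_four _ _ _ cards.2.2.1).le
  have hle : (centralizer (F.Wc : Set G)).map (MulAut.conj N).toMonoidHom ≤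
      centralizer (F.Wd : Set G) := by
    rw [← himg]
    rintro _ ⟨c, hc, rfl⟩
    refine mem_centralizer_iff.2 ?_
    rintro _ ⟨v, hv, rfl⟩
    rw [← map_mul, ← map_mul, mem_centralizer_iff.1 hc v hv]
  have h5 := (X.five_dvd.trans (card_map_of_injective (K := centralizer (F.Wc : Set G))
    (f := (MulAut.conj N).toMonoidHom) (MulAut.conj N).injective).symm.dvd).trans
      ((card_dvd_of_le hle).trans F.card_cent_Wd)
  norm_num at h5

theorem mem_of_w2 {g : G} (hgw : Commute g (C.θ wW))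
    (hg : g * X.Φ w2P * g⁻¹ ∈ X.Φ.range) : g ∈ X.Φ.range := by
  have hcent : ∀ c : G, Commute c (C.θ wW) → Commute c (X.Φ w2P) → c ∈ X.Φ.range := fun c h1 h2 =>
    X.cent_Wc_le (mem_centralizer_iff.2 (by
      rw [F.wW_eq] at h1
      rw [X.w2_eq] at h2
      rintro _ ⟨τ, hτ, rfl⟩
      rw [SetLike.mem_coe, mem_Wl] at hτ
      simp only [List.mem_cons, List.not_mem_nil, or_false] at hτ
      rcases hτ with rfl | rfl | rfl | rfl
      · simp
      · exact h1.symm.eq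
      · exact h2.symm.eq
      · rw [map_mul]; exact (h1.mul_right h2).symm.eq))
  rcases X.isolated hgw hg with h | h
  · exact hcent g hgw (mul_inv_eq_iff_eq_mul.1 h)
  · have hd : Commute (F.f 1 dl) (C.θ wW) := by
      rw [F.wW_eq]; exact (show Commute dl wl from dl_swaps.2.2.1).map (F.f 1)
    have hmem := hcent (F.f 1 dl * g) (hd.mul_left hgw) (mul_inv_eq_iff_eq_mul.1 (by
      rw [show F.f 1 dl * g * X.Φ w2P * (F.f 1 dl * g)⁻¹ =
        F.f 1 dl * (g * X.Φ w2P * g⁻¹) * (F.f 1 dl)⁻¹ by group, h, map_mul, X.code, F.wW_eq,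
        X.w2_eq, ← map_mul, ← map_inv, ← map_mul, ← map_mul,
        show dl * (wl * wl2) * dl⁻¹ = wl2 by decide +kernel]))
    simpa using mul_mem (inv_mem (X.f_mem 1 dl)) hmem

set_option maxHeartbeats 2000000 in
/-- The centralizer of the standard involution lies inside. -/
theorem cent_w_le : centralizer ({C.θ wW} : Set G) ≤ X.Φ.range := by
  classical
  haveI : Fact (Nat.Prime 2) := ⟨Nat.prime_two⟩
  obtain ⟨hd2, hdd, hdw, hdw2, hw2w, hww, hw22, hw21, hw2ne⟩ := dl_swaps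
  set K := centralizer ({C.θ wW} : Set G)
  set wK : K := ⟨C.θ wW, mem_centralizer_singleton_iff.2 rfl⟩
  have hw2K : X.Φ w2P ∈ K := mem_centralizer_singleton_iff.2 (by
    rw [X.w2_eq, F.wW_eq, ← map_mul, hw2w, map_mul])
  set xK : K := ⟨X.Φ w2P, hw2K⟩
  have hxK2 : xK * xK = 1 := Subtype.ext (by
    show X.Φ w2P * X.Φ w2P = 1
    rw [X.w2_eq, ← map_mul, hw22, map_one])
  have hwK2 : wK * wK = 1 := Subtype.ext (by
    show C.θ wW * C.θ wW = 1
    rw [← map_mul, show wW * wW = 1 by decide +kernel, map_one])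
  have hcw : ∀ g : K, Commute g wK := fun g => Subtype.ext (mem_centralizer_singleton_iff.1 g.2)
  set Z := zpowers wK
  have hZ : ∀ z ∈ Z, z = 1 ∨ z = wK := by
    rintro _ ⟨i, rfl⟩
    rcases Int.even_or_odd' i with ⟨k, rfl | rfl⟩
    · left
      show wK ^ (2 * k) = 1
      rw [zpow_mul, zpow_ofNat, pow_two, hwK2, one_zpow]
    · right
      show wK ^ (2 * k + 1) = wK
      rw [zpow_add, zpow_mul, zpow_ofNat, pow_two, hwK2, one_zpow, one_mul, zpow_one]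
  haveI hZn : Z.Normal := ⟨fun z hz g => by
    rcases hZ z hz with rfl | rfl
    · simp
    · rw [(hcw g).eq, mul_inv_cancel_right]; exact hz⟩
  set π := QuotientGroup.mk' Z
  have hπs : Function.Surjective π := QuotientGroup.mk'_surjective Z
  have hπ : ∀ a b : K, π a = π b → b = a ∨ b = a * wK := by
    intro a b h
    obtain ⟨z, hz, rfl⟩ := (QuotientGroup.mk'_eq_mk' Z).1 h
    rcases hZ z hz with rfl | rfl
    exacts [Or.inl (mul_one a), Or.inr rfl]
  -- a Sylow subgroup through the four group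
  have hW2 : IsPGroup 2 (zpowers xK ⊔ Z : Subgroup K) := by
    refine IsPGroup.to_sup_of_normal_right ?_ ?_
    · exact IsPGroup.of_card (n := 1) (by
        rw [Nat.card_zpowers, orderOf_eq_prime (by rw [pow_two, hxK2]) (fun e => hw21 (F.f_inj 1 (by
          rw [← X.w2_eq, map_one]; exact congrArg Subtype.val e))), pow_one])
    · exact IsPGroup.of_card (n := 1) (by
        rw [Nat.card_zpowers, orderOf_eq_prime (by rw [pow_two, hwK2]) (fun e => by
          exact absurd (C.inj ((congrArg Subtype.val e).trans (map_one C.θ).symm)) (by decide +kernel)),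
          pow_one])
  obtain ⟨P, hP⟩ := hW2.exists_le_sylow
  have hxP : xK ∈ (P : Subgroup K) := hP (mem_sup_left (mem_zpowers _))
  have hwP : wK ∈ (P : Subgroup K) := hP (mem_sup_right (mem_zpowers _))
  have hmem : ∀ g : K, ((g * xK * g⁻¹ : K) : G) ∈ X.Φ.range → (g : G) ∈ X.Φ.range := fun g hg =>
    X.mem_of_w2 (mem_centralizer_singleton_iff.1 g.2) hg
  have hPL : ∀ p ∈ (P : Subgroup K), (p : G) ∈ X.Φ.range := by
    set D : Subgroup (P : Subgroup K) := X.Φ.range.comap (K.subtype.comp (P : Subgroup K).subtype)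
    suffices h : D = ⊤ from fun p hp => (h ▸ mem_top _ : (⟨p, hp⟩ : (P : Subgroup K)) ∈ D)
    by_contra hne
    haveI := P.isPGroup'.isNilpotent
    obtain ⟨n, hn, hnD⟩ := Set.exists_of_ssubset
      (Group.normalizerCondition_of_isNilpotent D (lt_top_iff_ne_top.2 hne))
    refine hnD (hmem (n : K) ?_)
    exact (mem_normalizer_iff.1 hn ⟨xK, hxP⟩).1 (⟨_, rfl⟩ : X.Φ w2P ∈ X.Φ.range)
  have hxne : π xK ≠ 1 := fun e => by
    rcases hπ 1 xK (by rw [e, map_one]) with h | h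
    · exact hw21 (F.f_inj 1 (by rw [← X.w2_eq, map_one]; exact congrArg Subtype.val h))
    · exact hw2ne (F.f_inj 1 (by
        rw [← X.w2_eq, ← F.wW_eq]; rw [one_mul] at h; exact congrArg Subtype.val h))
  have hiso : IsIsolatedInvolution (π xK) := by
    refine ZStar.isIsolated_of_sylow (P := P.mapSurjective hπs) ?_
      (orderOf_eq_prime (by rw [← map_pow, pow_two, hxK2, map_one]) hxne) ?_
    · show π xK ∈ (P.mapSurjective hπs : Subgroup (K ⧸ Z))
      rw [Sylow.coe_mapSurjective]; exact mem_map_of_mem π hxP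
    · intro q hq
      obtain ⟨g, rfl⟩ := hπs q
      rw [← map_inv, ← map_mul, ← map_mul] at hq ⊢
      have hq' : π (g * xK * g⁻¹) ∈ (P.mapSurjective hπs : Subgroup (K ⧸ Z)) := hq
      rw [Sylow.coe_mapSurjective] at hq'
      obtain ⟨p, hp, hpe⟩ := hq'
      have hin : ((g * xK * g⁻¹ : K) : G) ∈ X.Φ.range := by
        rcases hπ p _ hpe with h | h <;> rw [h]
        · exact hPL p hp
        · exact hPL _ (mul_mem hp hwP)
      rcases X.isolated (mem_centralizer_singleton_iff.1 g.2) hin with h | h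
      · exact congrArg π (Subtype.ext h)
      · have h' : g * xK * g⁻¹ = wK * xK := Subtype.ext (by
          show (g : G) * X.Φ w2P * (g : G)⁻¹ = C.θ wW * X.Φ w2P
          rw [h, map_mul, X.code])
        rw [h', map_mul, show π wK = 1 from (QuotientGroup.eq_one_iff (N := Z) wK).2 (mem_zpowers _),
          one_mul]
  obtain ⟨N, hNn, hNodd, hN⟩ := ZStar.exists_odd_normal hiso
  haveI := hNn
  have hoddN : ∀ q ∈ N, q * q = 1 → q = 1 := by
    intro q hq h2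
    exact orderOf_eq_one_iff.1 (Nat.eq_one_of_dvd_coprimes (Nat.coprime_two_right.2 hNodd)
      (orderOf_dvd_natCard N hq) (orderOf_dvd_of_pow_eq_one (by rw [pow_two, h2])))
  have hfin : (∀ q ∈ N, q = 1) → K ≤ X.Φ.range := by
    intro hN1 g hg
    refine hmem ⟨g, hg⟩ ?_
    have h := hN1 _ (hN (π ⟨g, hg⟩))
    rw [mul_inv_eq_one, mul_inv_eq_iff_eq_mul] at h
    have h' : π (⟨g, hg⟩ * xK * (⟨g, hg⟩ : K)⁻¹) = π xK := by
      rw [map_mul, map_mul, map_inv, ← h, mul_inv_cancel_right]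
    rcases hπ _ _ h'.symm with e | e
    · rw [e]; exact ⟨_, rfl⟩
    · rw [e]; exact mul_mem (⟨_, rfl⟩ : X.Φ w2P ∈ X.Φ.range) (X.θ_mem wW)
  refine hfin ?_
  -- elements of the odd normal subgroup centralized by the second involution
  have hfree : ∀ q ∈ N, Commute (π xK) q → q = 1 := by
    intro q hq hc
    obtain ⟨x, rfl⟩ := hπs q
    set m := Nat.card N
    have hmodd : m % 2 = 1 := Nat.odd_iff.1 hNodd
    have hxm : π x ^ m = 1 := orderOf_dvd_iff_pow_eq_one.1 (orderOf_dvd_natCard N hq)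
    -- a lift commuting with the second involution
    have hlift : π (x ^ (m + 1)) = π x := by rw [map_pow, pow_succ, hxm, one_mul]
    have hxc : Commute (x : G) (C.θ wW) := mem_centralizer_singleton_iff.1 x.2
    have hpar : x * xK * x⁻¹ = xK ∨ x * xK * x⁻¹ = xK * wK :=
      hπ _ _ (by rw [map_mul, map_mul, map_inv, ← hc.eq, mul_inv_cancel_right])
    have hsq : Commute (x ^ 2) xK := by
      refine mul_inv_eq_iff_eq_mul.1 ?_
      rcases hpar with h | h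
      · rw [show x ^ 2 * xK * (x ^ 2)⁻¹ = x * (x * xK * x⁻¹) * x⁻¹ by rw [pow_two]; group, h, h]
      · rw [show x ^ 2 * xK * (x ^ 2)⁻¹ = x * (x * xK * x⁻¹) * x⁻¹ by rw [pow_two]; group, h,
          show x * (xK * wK) * x⁻¹ = x * xK * x⁻¹ * (x * wK * x⁻¹) by group, h, (hcw x).eq,
          mul_inv_cancel_right, mul_assoc, hwK2, mul_one]
    obtain ⟨t, ht⟩ : 2 ∣ m + 1 := by omega
    set y := x ^ (m + 1)
    have hyx : Commute y xK := by
      show Commute (x ^ (m + 1)) xK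
      rw [ht, pow_mul]; exact hsq.pow_left t
    have hyW : (y : G) ∈ centralizer (F.Wc : Set G) := by
      have h1 : Commute (y : G) (F.f 1 wl) := F.wW_eq ▸ mem_centralizer_singleton_iff.1 y.2
      have h2 : Commute (y : G) (F.f 1 wl2) := X.w2_eq ▸ congrArg Subtype.val hyx.eq
      refine mem_centralizer_iff.2 ?_
      rintro _ ⟨τ, hτ, rfl⟩
      rw [SetLike.mem_coe, mem_Wl] at hτ
      simp only [List.mem_cons, List.not_mem_nil, or_false] at hτ
      rcases hτ with rfl | rfl | rfl | rfl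
      · simp
      · exact h1.symm.eq
      · exact h2.symm.eq
      · rw [map_mul]; exact (h1.mul_right h2).symm.eq
    have hyN : π y ∈ N := hlift ▸ hq
    -- transport to the first four group
    have hWcK : ∀ c ∈ centralizer (F.Wc : Set G), c ∈ K := fun c hc =>
      mem_centralizer_singleton_iff.2 (by
        rw [F.wW_eq]; exact (mem_centralizer_iff.1 hc _ ⟨wl, mem_Wl.2 (by simp), rfl⟩).symm)
    have hback : ∀ c ∈ centralizer (F.Vc : Set G),
        F.kk * c * F.kk⁻¹ ∈ centralizer (F.Wc : Set G) := by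
      intro c hc
      rw [← F.map_Vc]
      refine mem_centralizer_iff.2 ?_
      rintro _ ⟨v, hv, rfl⟩
      show F.kk * v * F.kk⁻¹ * (F.kk * c * F.kk⁻¹) = F.kk * c * F.kk⁻¹ * (F.kk * v * F.kk⁻¹)
      calc F.kk * v * F.kk⁻¹ * (F.kk * c * F.kk⁻¹) = F.kk * (v * c) * F.kk⁻¹ := by group
        _ = F.kk * (c * v) * F.kk⁻¹ := by rw [mem_centralizer_iff.1 hc v hv]
        _ = F.kk * c * F.kk⁻¹ * (F.kk * v * F.kk⁻¹) := by group
    obtain ⟨hcomm, hdec⟩ := F.full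
    have hyV : F.kk⁻¹ * (y : G) * F.kk ∈ centralizer (F.Vc : Set G) := by
      refine mem_centralizer_iff.2 fun v hv => ?_
      have h : F.kk * v * F.kk⁻¹ * (y : G) = (y : G) * (F.kk * v * F.kk⁻¹) :=
        mem_centralizer_iff.1 hyW _ (by rw [SetLike.mem_coe, ← F.map_Vc]; exact ⟨v, hv, rfl⟩)
      calc v * (F.kk⁻¹ * (y : G) * F.kk) = F.kk⁻¹ * (F.kk * v * F.kk⁻¹ * (y : G)) * F.kk := by group
        _ = F.kk⁻¹ * (y : G) * F.kk * v := by rw [h]; group
    obtain ⟨τ, hτ, σ, hσ, hye⟩ := hdec _ hyV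
    have hτm : ∀ j : ℕ, 2 ∣ j → F.f 2 τ ^ j = 1 := by
      rintro j ⟨i, rfl⟩
      rw [← map_pow, pow_mul, pow_two, (by decide +kernel : ∀ τ ∈ Vl, τ * τ = 1) τ hτ, one_pow,
        map_one]
    let ψ : {ρ : A6 // (ρ : Perm (Fin 6)) 5 = 5} → K := fun ρ =>
      ⟨F.kk * F.f 1 ρ * F.kk⁻¹, hWcK _ (hback _ (mem_centralizer_iff.2 (by
        rintro _ ⟨σ', hσ', rfl⟩
        exact (hcomm σ' hσ' ρ ρ.2).eq)))⟩
    have hyeq : y ^ (m + 1) = ψ ⟨σ ^ (m + 1), by
        rw [Subgroup.coe_pow]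
        exact Perm.pow_apply_eq_self_of_apply_eq_self hσ _⟩ := Subtype.ext (by
      show ((y : G)) ^ (m + 1) = F.kk * F.f 1 (σ ^ (m + 1)) * F.kk⁻¹
      rw [show (y : G) = F.kk * (F.f 2 τ * F.f 1 σ) * F.kk⁻¹ by rw [← hye]; group, conj_pow,
        (hcomm τ hτ σ hσ).mul_pow, hτm _ ⟨t, ht⟩, one_mul, map_pow])
    have hy' : π (y ^ (m + 1)) = π x := by
      rw [map_pow, hlift, pow_succ, hxm, one_mul]
    set s := σ ^ (m + 1)
    have hs5 : (s : Perm (Fin 6)) 5 = 5 := by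
      show ((σ ^ (m + 1) : A6) : Perm (Fin 6)) 5 = 5
      rw [Subgroup.coe_pow]
      exact Perm.pow_apply_eq_self_of_apply_eq_self hσ _
    have hψN : π (ψ ⟨s, hs5⟩) ∈ N := by rw [← hyeq, hy']; exact hq
    rw [← hy', hyeq]
    by_cases hs1 : s = 1
    · rw [show ψ ⟨s, hs5⟩ = 1 from Subtype.ext (by
        show F.kk * F.f 1 s * F.kk⁻¹ = 1
        rw [hs1, map_one, mul_one, mul_inv_cancel]), map_one]
    exfalso
    have hψinj : ∀ (ρ : A6) (hρ : (ρ : Perm (Fin 6)) 5 = 5), π (ψ ⟨ρ, hρ⟩) = 1 → ρ = 1 := by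
      intro ρ hρ h
      rcases hπ 1 _ (by rw [h, map_one]) with e | e
      · have e' : F.kk * F.f 1 ρ * F.kk⁻¹ = 1 := congrArg Subtype.val e
        exact F.f_inj 1 ((conj_eq_one_iff.1 e').trans (map_one _).symm)
      · have e' : F.kk * F.f 1 ρ * F.kk⁻¹ = 1 * C.θ wW := congrArg Subtype.val e
        rw [one_mul, F.wW_eq] at e'
        have hV : F.f 1 ρ ∈ F.Vc := by
          have hwW : F.kk * F.f 1 ρ * F.kk⁻¹ ∈ F.Wc := by rw [e']; exact ⟨wl, mem_Wl.2 (by simp), rfl⟩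
          rw [← F.map_Vc] at hwW
          obtain ⟨v, hv, hve⟩ := hwW
          exact (MulAut.conj F.kk).injective hve ▸ hv
        exact F.f_inj 1 ((F.fourHyp_Vc.g_fix _ hV (F.f_comm 1 ρ).eq).trans (map_one _).symm)
    have hs3 : s * s * s = 1 ∨ s * s * (s * s) * s = 1 := by
      refine (stab_exp s hs5).resolve_left fun h => hs1 (hψinj s hs5 (hoddN _ hψN ?_))
      rw [← map_mul, show ψ ⟨s, hs5⟩ * ψ ⟨s, hs5⟩ = 1 from Subtype.ext (by
        show F.kk * F.f 1 s * F.kk⁻¹ * (F.kk * F.f 1 s * F.kk⁻¹) = 1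
        rw [show F.kk * F.f 1 s * F.kk⁻¹ * (F.kk * F.f 1 s * F.kk⁻¹) =
          F.kk * (F.f 1 s * F.f 1 s) * F.kk⁻¹ by group, ← map_mul, h, map_one, mul_one,
          mul_inv_cancel]), map_one]
    obtain ⟨g, hg5, hne, hinv⟩ := stab_invol s hs5 hs1 hs3
    have hg5' : ((g⁻¹ : A6) : Perm (Fin 6)) 5 = 5 := by
      rw [InvMemClass.coe_inv, Perm.inv_def, Equiv.symm_apply_eq, hg5]
    set r := s * (g * (s * s) * g⁻¹)
    have hr5 : (r : Perm (Fin 6)) 5 = 5 := by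
      simp only [r, Subgroup.coe_mul, Perm.mul_apply, hs5, hg5, hg5']
    have hψr : ψ ⟨r, hr5⟩ = ψ ⟨s, hs5⟩ * (ψ ⟨g, hg5⟩ * (ψ ⟨s, hs5⟩ * ψ ⟨s, hs5⟩) * (ψ ⟨g, hg5⟩)⁻¹) :=
      Subtype.ext (by
        show F.kk * F.f 1 r * F.kk⁻¹ = F.kk * F.f 1 s * F.kk⁻¹ *
          (F.kk * F.f 1 g * F.kk⁻¹ * (F.kk * F.f 1 s * F.kk⁻¹ * (F.kk * F.f 1 s * F.kk⁻¹)) *
            (F.kk * F.f 1 g * F.kk⁻¹)⁻¹)
        simp only [r, map_mul, map_inv]; group)
    refine hne (hψinj r hr5 (hoddN _ ?_ ?_))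
    · rw [hψr, map_mul, map_mul, map_mul, map_mul, map_inv]
      exact mul_mem hψN (hNn.conj_mem _ (mul_mem hψN hψN) _)
    · rw [← map_mul, show ψ ⟨r, hr5⟩ * ψ ⟨r, hr5⟩ = 1 from Subtype.ext (by
        show F.kk * F.f 1 r * F.kk⁻¹ * (F.kk * F.f 1 r * F.kk⁻¹) = 1
        rw [show F.kk * F.f 1 r * F.kk⁻¹ * (F.kk * F.f 1 r * F.kk⁻¹) =
          F.kk * (F.f 1 r * F.f 1 r) * F.kk⁻¹ by group, ← map_mul, hinv, map_one, mul_one,
          mul_inv_cancel]), map_one]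
  have hin1 : ∀ x : K, π x ∈ N → (x : G) ∈ X.Φ.range → π x = 1 := by
    intro x hx hxL
    refine hfree _ hx ?_
    have hm : ((x * xK * x⁻¹ : K) : G) ∈ X.Φ.range :=
      mul_mem (mul_mem hxL ⟨_, rfl⟩) (inv_mem hxL)
    have hwπ : π wK = 1 := (QuotientGroup.eq_one_iff (N := Z) wK).2 (mem_zpowers _)
    refine (mul_inv_eq_iff_eq_mul.1 ?_ : π x * π xK = π xK * π x).symm
    rw [← map_inv, ← map_mul, ← map_mul]
    rcases X.isolated (mem_centralizer_singleton_iff.1 x.2) hm with h | h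
    · exact congrArg π (Subtype.ext h)
    · rw [show x * xK * x⁻¹ = wK * xK from Subtype.ext (by
        show (x : G) * X.Φ w2P * (x : G)⁻¹ = C.θ wW * X.Φ w2P
        rw [h, map_mul, X.code]), map_mul, hwπ, one_mul]
  -- the second involution inverts the odd subgroup
  let a : N →* N :=
    { toFun := fun q => ⟨π xK * q * (π xK)⁻¹, hNn.conj_mem _ q.2 _⟩
      map_one' := Subtype.ext (by simp)
      map_mul' := fun p q => Subtype.ext (by
        show π xK * (p * q : K ⧸ Z) * (π xK)⁻¹ = π xK * p * (π xK)⁻¹ * (π xK * q * (π xK)⁻¹)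
        group) }
  have ha2 : Function.Involutive a := fun q => Subtype.ext (by
    show π xK * (π xK * q * (π xK)⁻¹) * (π xK)⁻¹ = (q : K ⧸ Z)
    rw [show π xK * (π xK * q * (π xK)⁻¹) * (π xK)⁻¹ = (π xK * π xK) * q * (π xK * π xK)⁻¹ by group,
      ← map_mul, hxK2, map_one, one_mul, inv_one, mul_one])
  have hafp : MonoidHom.FixedPointFree a := fun q hq => Subtype.ext (hfree q q.2
    (mul_inv_eq_iff_eq_mul.1 (congrArg Subtype.val hq)))
  have hab : ∀ p q : N, Commute p q := hafp.commute_all_of_involutive ha2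
  have habN : ∀ p ∈ N, ∀ q ∈ N, Commute p q := fun p hp q hq =>
    congrArg Subtype.val (hab ⟨p, hp⟩ ⟨q, hq⟩)
  -- the regular four group and the second cycle
  have hvK : ∀ τ ∈ Vl, F.f 2 τ ∈ K := fun τ hτ => mem_centralizer_singleton_iff.2
    (mem_centralizer_iff.1 F.wW_cent_Vc _ ⟨τ, hτ, rfl⟩)
  have hbK : C.θ jB ∈ K := mem_centralizer_singleton_iff.2 (by rw [F.wW_eq]; exact (F.f_comm 1 wl).eq)
  set b : K := ⟨C.θ jB, hbK⟩
  have hb1 : ∀ q ∈ N, Commute (π b) q → q = 1 := by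
    intro q hq hc
    obtain ⟨x, rfl⟩ := hπs q
    refine hin1 x hq ?_
    have h := hπ b (x * b * x⁻¹) (by rw [map_mul, map_mul, map_inv, ← hc.eq, mul_inv_cancel_right])
    have hb3 : b ^ 3 = 1 := Subtype.ext (C.cube_θ (by decide +kernel))
    have hxb : x * b * x⁻¹ = b := by
      refine h.resolve_right fun e => ?_
      have h3 := congrArg (· ^ 3) e
      simp only [conj_pow, (hcw b).mul_pow, hb3, mul_one, mul_inv_cancel, one_mul] at h3
      have : (1 : K) = wK := by rw [h3, pow_succ, pow_two, hwK2, one_mul]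
      exact absurd (C.inj ((map_one C.θ).trans (congrArg Subtype.val this))) (by decide +kernel)
    obtain ⟨mm, σ, he⟩ := F.f_cen 1 (x : G) (mem_centralizer_singleton_iff.2
      (congrArg Subtype.val (mul_inv_eq_iff_eq_mul.1 hxb)))
    rw [he]
    exact mul_mem (X.θ_mem _) (X.f_mem 1 σ)
  set v : A6 → K ⧸ Z := fun τ => if h : τ ∈ Vl then π ⟨F.f 2 τ, hvK τ h⟩ else 1 with hvdef
  have hv : ∀ τ (h : τ ∈ Vl), v τ = π ⟨F.f 2 τ, hvK τ h⟩ := fun τ h => dif_pos h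
  obtain ⟨hV1, hV2⟩ := norm_Vl
  have hVpair : ∀ τ ∈ Vl, τ ≠ 1 → ∀ τ' ∈ Vl, τ' ≠ 1 → τ' ≠ τ →
      ∀ ρ ∈ Vl, ρ ∈ [1, τ, τ', τ * τ'] := by decide +kernel
  have hVfp : ∀ q ∈ N, ∀ τ ∈ Vl, τ ≠ 1 → ∀ τ' ∈ Vl, τ' ≠ 1 → τ' ≠ τ →
      Commute (v τ) q → Commute (v τ') q → q = 1 := by
    intro q hq τ hτ h1 τ' hτ' h1' hne hc hc'
    obtain ⟨x, rfl⟩ := hπs q
    refine hin1 x hq ?_
    have hexact : ∀ ρ ∈ Vl, ρ ≠ 1 → Commute (v ρ) (π x) → Commute (x : G) (F.f 2 ρ) := by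
      intro ρ hρ hρ1 hcρ
      rw [hv ρ hρ] at hcρ
      have h := hπ ⟨F.f 2 ρ, hvK ρ hρ⟩ (x * ⟨F.f 2 ρ, hvK ρ hρ⟩ * x⁻¹)
        (by rw [map_mul, map_mul, map_inv, ← hcρ.eq, mul_inv_cancel_right])
      refine mul_inv_eq_iff_eq_mul.1 (congrArg Subtype.val (h.resolve_right fun e => ?_))
      obtain ⟨g, hg⟩ := involution_conj ρ ((by decide +kernel : ∀ τ ∈ Vl, τ * τ = 1) ρ hρ) hρ1
      have e' : (x : G) * F.f 2 ρ * (x : G)⁻¹ = F.f 2 ρ * C.θ wW := congrArg Subtype.val e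
      have hgw : C.θ (gC 2) * F.f 2 ρ * (C.θ (gC 2))⁻¹ = (F.f 1 g)⁻¹ * C.θ wW * F.f 1 g := by
        rw [F.gC_conj, F.wW_eq, ← hg, map_mul, map_mul, map_inv]; group
      have h5 := X.fix_five (g := (x : G) * (C.θ (gC 2))⁻¹ * (F.f 1 g)⁻¹) (x := ek9 2 ρ * perm9 wW) (by
        rw [map_mul, X.copy, X.code, ← e']
        calc (x : G) * (C.θ (gC 2))⁻¹ * (F.f 1 g)⁻¹ * C.θ wW *
              ((x : G) * (C.θ (gC 2))⁻¹ * (F.f 1 g)⁻¹)⁻¹ =
            (x : G) * (C.θ (gC 2))⁻¹ * ((F.f 1 g)⁻¹ * C.θ wW * F.f 1 g) * C.θ (gC 2) * (x : G)⁻¹ := by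
              group
          _ = _ := by rw [← hgw]; group)
      exact (by decide +kernel : ∀ ρ ∈ Vl, ρ ≠ 1 →
        fixCard (ek 2 ρ * toPerm wW) ≠ 5) ρ hρ hρ1 h5
    have e1 := hexact τ hτ h1 hc
    have e2 := hexact τ' hτ' h1' hc'
    have hxV : (x : G) ∈ centralizer (F.Vc : Set G) := by
      refine mem_centralizer_iff.2 ?_
      rintro _ ⟨ρ, hρ, rfl⟩
      have h := hVpair τ hτ h1 τ' hτ' h1' hne ρ hρ
      simp only [List.mem_cons, List.not_mem_nil, or_false] at h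
      rcases h with rfl | rfl | rfl | rfl
      · simp
      · exact e1.symm.eq
      · exact e2.symm.eq
      · rw [map_mul]; exact (e1.mul_right e2).symm.eq
    obtain ⟨ρ, -, σ, -, he⟩ := F.full.2 _ hxV
    rw [he]
    exact mul_mem (X.f_mem 2 _) (X.f_mem 1 _)
  have hvv : ∀ τ ∈ Vl, v τ * v τ = 1 := fun τ hτ => by
    rw [hv τ hτ, ← map_mul, show (⟨F.f 2 τ, hvK τ hτ⟩ : K) * ⟨F.f 2 τ, hvK τ hτ⟩ = 1 from
      Subtype.ext (by
        show F.f 2 τ * F.f 2 τ = 1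
        rw [← map_mul, (by decide +kernel : ∀ τ ∈ Vl, τ * τ = 1) τ hτ, map_one]), map_one]
  have hvc : ∀ τ ∈ Vl, ∀ τ' ∈ Vl, Commute (v τ) (v τ') := fun τ hτ τ' hτ' => by
    rw [hv τ hτ, hv τ' hτ']
    exact (show Commute (⟨F.f 2 τ, hvK τ hτ⟩ : K) ⟨F.f 2 τ', hvK τ' hτ'⟩ from Subtype.ext
      ((show Commute τ τ' from commutes.1 τ hτ τ' hτ').map (F.f 2))).map π
  have hinvert : ∀ q ∈ N, ∀ τ ∈ Vl, τ ≠ 1 → Commute (v τ) q → ∀ τ' ∈ Vl, τ' ≠ 1 → τ' ≠ τ →
      v τ' * q * (v τ')⁻¹ = q⁻¹ := by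
    intro q hq τ hτ h1 hc τ' hτ' h1' hne
    have hq' : v τ' * q * (v τ')⁻¹ ∈ N := hNn.conj_mem q hq _
    have hc' : Commute (v τ) (v τ' * q * (v τ')⁻¹) :=
      ((hvc τ hτ τ' hτ').mul_right hc).mul_right (hvc τ hτ τ' hτ').inv_right
    refine eq_inv_of_mul_eq_one_left (hVfp _ (mul_mem hq' hq) τ hτ h1 τ' hτ' h1' hne
      (hc'.mul_right hc) ?_)
    refine (mul_inv_eq_iff_eq_mul.1 ?_ : v τ' * (v τ' * q * (v τ')⁻¹ * q) = _)
    have e : v τ' * (v τ' * q * (v τ')⁻¹) * (v τ')⁻¹ = q := by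
      rw [show v τ' * (v τ' * q * (v τ')⁻¹) * (v τ')⁻¹ = (v τ' * v τ') * q * (v τ' * v τ')⁻¹ by group,
        hvv τ' hτ', one_mul, inv_one, mul_one]
    calc v τ' * (v τ' * q * (v τ')⁻¹ * q) * (v τ')⁻¹ =
        v τ' * (v τ' * q * (v τ')⁻¹) * (v τ')⁻¹ * (v τ' * q * (v τ')⁻¹) := by group
      _ = q * (v τ' * q * (v τ')⁻¹) := by rw [e]
      _ = _ := (habN q hq _ hq').eq
  set β := π b with hβ
  have hβ3 : β * β * β = 1 := by
    rw [hβ, ← map_mul, ← map_mul, show b * b * b = 1 from Subtype.ext (by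
      show C.θ jB * C.θ jB * C.θ jB = 1
      rw [← pow_three']; exact C.cube_θ (by decide +kernel)), map_one]
  have hvb : ∀ τ ∈ Vl, ∀ hmem : Six.C0⁻¹ * τ * Six.C0 ∈ Vl, v τ * β = β * v (Six.C0⁻¹ * τ * Six.C0) := by
    intro τ hτ hmem'
    rw [hv τ hτ, hv _ hmem', hβ, ← map_mul, ← map_mul]
    refine congrArg π (Subtype.ext ?_)
    show F.f 2 τ * C.θ jB = C.θ jB * F.f 2 (Six.C0⁻¹ * τ * Six.C0)
    rw [F.f_agree 2 _ _ wW_facts.2.1, ← map_mul, ← map_mul]
    congr 1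
    group
  have hrot : ∀ τ ∈ Vl, τ ≠ 1 → Six.C0⁻¹ * τ * Six.C0 ∈ Vl ∧ Six.C0⁻¹ * τ * Six.C0 ≠ 1 ∧
      Six.C0⁻¹ * τ * Six.C0 ≠ τ ∧ Six.C0⁻¹ * (Six.C0⁻¹ * τ * Six.C0) * Six.C0 ∈ Vl ∧
      Six.C0⁻¹ * (Six.C0⁻¹ * τ * Six.C0) * Six.C0 ≠ 1 ∧
      Six.C0⁻¹ * (Six.C0⁻¹ * τ * Six.C0) * Six.C0 ≠ τ := by decide +kernel
  have hfix : ∀ τ ∈ Vl, τ ≠ 1 → ∀ q ∈ N, Commute (v τ) q → q = 1 := by
    intro τ hτ h1 q hq hc
    obtain ⟨m1, n1, d1, m2, n2, d2⟩ := hrot τ hτ h1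
    set q1 := β * q * β⁻¹ with hq1
    set q2 := β * q1 * β⁻¹ with hq2
    have hq1N : q1 ∈ N := hNn.conj_mem q hq β
    have hq2N : q2 ∈ N := hNn.conj_mem q1 hq1N β
    have e1 : v τ * q1 * (v τ)⁻¹ = q1⁻¹ := by
      rw [hq1, show v τ * (β * q * β⁻¹) * (v τ)⁻¹ = (v τ * β) * q * (v τ * β)⁻¹ by group,
        hvb τ hτ m1, show β * v (Six.C0⁻¹ * τ * Six.C0) * q * (β * v (Six.C0⁻¹ * τ * Six.C0))⁻¹ =
          β * (v (Six.C0⁻¹ * τ * Six.C0) * q * (v (Six.C0⁻¹ * τ * Six.C0))⁻¹) * β⁻¹ by group,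
        hinvert q hq τ hτ h1 hc _ m1 n1 d1]
      group
    have e2 : v τ * q2 * (v τ)⁻¹ = q2⁻¹ := by
      set τ1 := Six.C0⁻¹ * τ * Six.C0
      have e1' : v τ1 * q1 * (v τ1)⁻¹ = q1⁻¹ := by
        rw [hq1, show v τ1 * (β * q * β⁻¹) * (v τ1)⁻¹ = (v τ1 * β) * q * (v τ1 * β)⁻¹ by group,
          hvb τ1 m1 m2, show β * v (Six.C0⁻¹ * τ1 * Six.C0) * q * (β * v (Six.C0⁻¹ * τ1 * Six.C0))⁻¹ =
            β * (v (Six.C0⁻¹ * τ1 * Six.C0) * q * (v (Six.C0⁻¹ * τ1 * Six.C0))⁻¹) * β⁻¹ by group,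
          hinvert q hq τ hτ h1 hc _ m2 n2 d2]
        group
      rw [hq2, show v τ * (β * q1 * β⁻¹) * (v τ)⁻¹ = (v τ * β) * q1 * (v τ * β)⁻¹ by group,
        hvb τ hτ m1, show β * v τ1 * q1 * (β * v τ1)⁻¹ = β * (v τ1 * q1 * (v τ1)⁻¹) * β⁻¹ by group,
        e1']
      group
    have hq3 : β * q2 * β⁻¹ = q := by
      rw [hq2, hq1, show β * (β * (β * q * β⁻¹) * β⁻¹) * β⁻¹ =
        (β * β * β) * q * (β * β * β)⁻¹ by group, hβ3, one_mul, inv_one, mul_one]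
    have hprod : q * q1 * q2 = 1 := by
      refine hb1 _ (mul_mem (mul_mem hq hq1N) hq2N) (mul_inv_eq_iff_eq_mul.1 ?_)
      calc β * (q * q1 * q2) * β⁻¹ = β * q * β⁻¹ * (β * q1 * β⁻¹) * (β * q2 * β⁻¹) := by group
        _ = q1 * q2 * q := by rw [← hq1, ← hq2, hq3]
        _ = q * q1 * q2 := by
          rw [← (habN q hq _ (mul_mem hq1N hq2N)).eq, ← mul_assoc]
    have hconj : q * q1⁻¹ * q2⁻¹ = 1 := by
      rw [← e1, ← e2]
      calc q * (v τ * q1 * (v τ)⁻¹) * (v τ * q2 * (v τ)⁻¹) =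
          v τ * ((v τ)⁻¹ * q * v τ * q1 * q2) * (v τ)⁻¹ := by group
        _ = 1 := by
          rw [show (v τ)⁻¹ * q * v τ = q by rw [mul_assoc, ← hc.eq, inv_mul_cancel_left], hprod,
            mul_one, mul_inv_cancel]
    refine hoddN q hq ?_
    have h12 : q1⁻¹ * q2⁻¹ = q := by
      rw [← _root_.mul_inv_rev, (habN q2 hq2N q1 hq1N).eq]
      refine inv_eq_of_mul_eq_one_left ?_
      rw [← mul_assoc]; exact hprod
    rw [← hconj, mul_assoc, h12]
  intro q hq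
  have hinvall : ∀ τ ∈ Vl, τ ≠ 1 → v τ * q * (v τ)⁻¹ = q⁻¹ := by
    intro τ hτ h1
    have hq' : v τ * q * (v τ)⁻¹ ∈ N := hNn.conj_mem q hq _
    refine eq_inv_of_mul_eq_one_left (hfix τ hτ h1 _ (mul_mem hq' hq) (mul_inv_eq_iff_eq_mul.1 ?_))
    calc v τ * (v τ * q * (v τ)⁻¹ * q) * (v τ)⁻¹ =
        (v τ * v τ) * q * (v τ * v τ)⁻¹ * (v τ * q * (v τ)⁻¹) := by group
      _ = q * (v τ * q * (v τ)⁻¹) := by rw [hvv τ hτ, one_mul, inv_one, mul_one]
      _ = _ := (habN q hq _ hq').eq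
  have hmul : v (v1 * v2) = v v1 * v v2 := by
    rw [hv _ (mem_Vl.2 (by simp)), hv v1 (mem_Vl.2 (by simp)), hv v2 (mem_Vl.2 (by simp)), ← map_mul]
    exact congrArg π (Subtype.ext (map_mul (F.f 2) v1 v2))
  refine hoddN q hq ?_
  have h12 := hinvall (v1 * v2) (mem_Vl.2 (by simp)) (by decide +kernel)
  rw [hmul, show v v1 * v v2 * q * (v v1 * v v2)⁻¹ = v v1 * (v v2 * q * (v v2)⁻¹) * (v v1)⁻¹ by group,
    hinvall v2 (mem_Vl.2 (by simp)) (by decide +kernel),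
    show v v1 * q⁻¹ * (v v1)⁻¹ = (v v1 * q * (v v1)⁻¹)⁻¹ by group,
    hinvall v1 (mem_Vl.2 (by simp)) (by decide +kernel), inv_inv] at h12
  nth_rewrite 1 [h12]
  exact inv_mul_cancel q

end Ext

end Ctx.Frame

end Cfsg.Agent.Recog.AltNine
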