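import Cfsg.Agent.Lib.Recog.AltNine.Model

/-!
Finite facts about the code group.
-/

set_option autoImplicit false
set_option maxRecDepth 100000

namespace Cfsg.Agent.Recog.AltNine.Code

open Cfsg.Agent.Recog.MonoCube Cfsg.Agent.Recog.MonoCube.W

/-- The product of the first two cycles. -/
def jAB : W := ⟨0, 0, 1, 1, 0⟩
/-- The product of the last two cycles. -/
def jBC : W := ⟨0, 0, 0, 1, 1⟩

/-- The three powers. -/
def pw3 (s : W) (n : Fin 3) : W := (![1, s, s * s] : Fin 3 → W) n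

theorem basic : inJ jA = true ∧ inJ jB = true ∧ inJ jC = true ∧ inJ jAB = true ∧ inJ jBC = true ∧
    wt jA = 1 ∧ wt jB = 1 ∧ wt jC = 1 ∧ wt jAB = 2 ∧ wt jBC = 2 ∧
    jA ≠ 1 ∧ jB ≠ 1 ∧ jC ≠ 1 ∧ jAB ≠ 1 ∧ jA * jB = jAB ∧ jB * jC = jBC := by decide +kernel

theorem inJ_pw3 : ∀ s, inJ s = true → ∀ n, inJ (pw3 s n) = true := by decide +kernel

theorem cent_AB : ∀ w : W, w * jA = jA * w → w * jB = jB * w → inJ w = true := by decide +kernel

theorem wide : ∀ j : W, inJ j = true → j.z ≠ 0 →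
    ∃ m n : Fin 3, wt (pw3 j m * pw3 jAB n) = 3 := by decide +kernel

theorem span : ∀ j : W, inJ j = true → j.z = 0 → ∃ m n : Fin 3, j = pw3 jA m * pw3 jAB n := by
  decide +kernel

theorem span_z : ∀ m n : Fin 3, (pw3 jA m * pw3 jAB n).z = 0 := by decide +kernel

theorem stab_AB : ∀ w : W, w * jAB = jAB * w → ∀ j : W, inJ j = true → ∀ n,
    w * j * w⁻¹ = j * pw3 jAB n → w * j = j * w := by decide +kernel

theorem cent_ABj : ∀ w : W, w * jAB = jAB * w → ∀ j : W, inJ j = true → j.z ≠ 0 →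
    w * j = j * w → inJ w = true := by decide +kernel

theorem invert_AB : ∀ w : W, w * jAB = jAB * w → inJ w = true ∨
    ∀ j : W, inJ j = true → ∃ n, w * j * w⁻¹ = j⁻¹ * pw3 jAB n := by decide +kernel

theorem swap_AB : ∃ w : W, w * jAB = jAB * w ∧ inJ w = false := by decide +kernel

theorem stab_A : ∀ w : W, w * jA = jA * w → ∀ j : W, inJ j = true → ∀ n,
    w * j * w⁻¹ = j * pw3 jA n → w * j = j * w := by decide +kernel

theorem wide_A : ∀ j : W, inJ j = true → (∀ n, j ≠ pw3 jA n) →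
    ∃ m n : Fin 3, wt (pw3 j m * pw3 jA n) = 2 ∨ wt (pw3 j m * pw3 jA n) = 3 := by decide +kernel

theorem cent_Aj : ∀ w : W, w * jA = jA * w → ∀ j : W, inJ j = true → (∀ n, j ≠ pw3 jA n) →
    w * j = j * w → inJ w = true := by decide +kernel

theorem two_classes : ∀ w : W, w * jA = jA * w → ∀ n,
    w * jB * w⁻¹ ≠ jBC * pw3 jA n := by decide +kernel

theorem indep : (∀ n, jB ≠ pw3 jA n) ∧ (∀ n, jBC ≠ pw3 jA n) := by decide +kernel

theorem pw3_line : ∀ n, (pw3 jAB n).z = 0 ∧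
    ((pw3 jA n).z = 0 ∧ (pw3 jA n = 1 ∨ ∀ m, pw3 jA n ≠ pw3 jAB m)) := by decide +kernel

end Cfsg.Agent.Recog.AltNine.Code
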