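import Cfsg.Agent.Lib.Recog.AltNine.Local
import Cfsg.Agent.Lib.Recog.AltNine.Code

/-!
The quotient of the centralizer of an element of the core by that element.
-/

set_option autoImplicit false
set_option linter.style.haveILetI false
set_option linter.unusedSectionVars false

namespace Cfsg.Agent.Recog.AltNine

open Cfsg Subgroup Cfsg.Agent.Recog.MonoCube Cfsg.Agent.Recog.MonoCube.W

universe u

/-- A central subgroup of order three of a group with trivial core leaves a trivial core. -/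
theorem core_quotient {X : Type u} [Group X] [Finite X] (Z : Subgroup X) [Z.Normal]
    (hZc : ∀ z ∈ Z, ∀ x : X, z * x = x * z) (hZ : Nat.card Z = 3)
    (hcore : pPrimeCore 3 X = ⊥) (N : Subgroup (X ⧸ Z)) [N.Normal] (hN : ¬ 3 ∣ Nat.card N) :
    N = ⊥ := by
  haveI : Fact (Nat.Prime 3) := ⟨by norm_num⟩
  set P0 := N.comap (QuotientGroup.mk' Z) with hP0
  have hZP : Z ≤ P0 := fun z hz => by
    rw [hP0, mem_comap, QuotientGroup.mk'_apply, (QuotientGroup.eq_one_iff z).2 hz]
    exact one_mem N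
  have hmap : P0.map (QuotientGroup.mk' Z) = N :=
    Subgroup.map_comap_eq_self_of_surjective (QuotientGroup.mk'_surjective Z) N
  have hidx : ¬ 3 ∣ (Z.subgroupOf P0).index := by
    have e : (Z.subgroupOf P0).index = Nat.card N := by
      rw [← Subgroup.relIndex, ← hmap, Subgroup.relIndex]
      have h1 : ((QuotientGroup.mk' Z).comp P0.subtype).ker = Z.subgroupOf P0 := by
        rw [← MonoidHom.comap_ker, QuotientGroup.ker_mk']
        rfl
      rw [← h1, Subgroup.index_ker, MonoidHom.range_comp, Subgroup.range_subtype]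
    rwa [e]
  let S : Sylow 3 P0 := ((IsPGroup.of_card (n := 1) (by
    rw [Nat.card_congr (subgroupOfEquivOfLe hZP).toEquiv, hZ, pow_one]) :
    IsPGroup 3 (Z.subgroupOf P0))).toSylow hidx
  have hSm : ∀ x : P0, x ∈ (S : Subgroup P0) ↔ (x : X) ∈ Z := fun x => Iff.rfl
  have hle : normalizer ((S : Subgroup P0) : Set P0) ≤ centralizer ((S : Subgroup P0) : Set P0) :=
    fun g _ => mem_centralizer_iff.2 fun z hz => Subtype.ext (hZc z ((hSm z).1 hz) g)
  have hc := MonoidHom.ker_transferSylow_isComplement' S hle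
  set K := (MonoidHom.transferSylow S hle).ker
  have hK : ¬ 3 ∣ Nat.card K := MonoidHom.not_dvd_card_ker_transferSylow S hle
  haveI : K.Characteristic := by
    refine Subgroup.characteristic_iff_map_le.2 fun f x hx => ?_
    rw [← QuotientGroup.eq_one_iff (N := K), ← orderOf_eq_one_iff]
    refine Nat.eq_one_of_dvd_coprimes (a := Nat.card K) (b := K.index) ?_ ?_ ?_
    · rw [hc.symm.index_eq_card, show Nat.card (S : Subgroup P0) = 3 from
        (Nat.card_congr (subgroupOfEquivOfLe hZP).toEquiv).trans hZ]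
      exact Nat.coprime_comm.1 ((Nat.Prime.coprime_iff_not_dvd Nat.prime_three).2 hK)
    · refine (orderOf_map_dvd (QuotientGroup.mk' K) x).trans ?_
      rw [← Subgroup.card_map_of_injective (f := f.toMonoidHom) f.injective]
      exact Subgroup.orderOf_dvd_natCard _ hx
    · rw [Subgroup.index_eq_card]
      exact orderOf_dvd_natCard _
  haveI : (K.map P0.subtype).Normal := ConjAct.normal_of_characteristic_of_normal
  have hbot : K = ⊥ := by
    refine Subgroup.map_injective P0.subtype_injective ?_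
    rw [Subgroup.map_bot, eq_bot_iff, ← hcore]
    refine Grp.le_pPrimeCore inferInstance ?_
    rw [Subgroup.card_map_of_injective P0.subtype_injective, Nat.coprime_comm]
    exact (Nat.Prime.coprime_iff_not_dvd Nat.prime_three).2 hK
  rw [hbot, isComplement'_bot_left] at hc
  rw [← hmap, eq_bot_iff]
  rintro _ ⟨x, hx, rfl⟩
  rw [mem_bot, QuotientGroup.mk'_apply, QuotientGroup.eq_one_iff]
  exact (hSm ⟨x, hx⟩).1 (hc ▸ Subgroup.mem_top _)

namespace Ctx

open Code

variable {G : Type u} [Group G] [Finite G] (C : Ctx G)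

theorem cube_θ {w : W} (hw : inJ w = true) : C.θ w ^ 3 = 1 := by
  rw [← map_pow, inJ_pow_three hw, map_one]

theorem θ_pw3 (s : W) (hs : inJ s = true) (n : ℤ) :
    ∃ m : Fin 3, C.θ s ^ n = C.θ (pw3 s m) := by
  obtain ⟨k, hk⟩ : ∃ k : ℕ, C.θ s ^ n = C.θ s ^ k := by
    obtain ⟨k, hk⟩ := (isOfFinOrder_of_finite (C.θ s)).mem_powers_iff_mem_zpowers.2 ⟨n, rfl⟩
    exact ⟨k, hk.symm⟩
  rw [hk, pow_eq_pow_mod k (C.cube_θ hs)]
  have h3 : k % 3 < 3 := Nat.mod_lt _ (by norm_num)
  interval_cases k % 3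
  · exact ⟨0, by rw [pow_zero, show pw3 s 0 = 1 from rfl, map_one]⟩
  · exact ⟨1, by rw [pow_one]; rfl⟩
  · exact ⟨2, by rw [pow_two, show pw3 s 2 = s * s from rfl, map_mul]⟩

/-- The centralizer of the element with code `s`. -/
abbrev cen (s : W) : Subgroup G := centralizer ({C.θ s} : Set G)

/-- The subgroup generated by that element, in its centralizer. -/
def line (s : W) : Subgroup (C.cen s) :=
  zpowers ⟨C.θ s, mem_centralizer_singleton_iff.2 rfl⟩

theorem line_central (s : W) : ∀ z ∈ C.line s, ∀ x : C.cen s, z * x = x * z := by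
  rintro _ ⟨n, rfl⟩ x
  refine (Commute.zpow_left (Subtype.ext ?_ : Commute (_ : C.cen s) x) n).eq
  exact (mem_centralizer_singleton_iff.1 x.2).symm

instance line_normal (s : W) : (C.line s).Normal :=
  ⟨fun z hz x => by rw [← C.line_central s z hz x, mul_inv_cancel_right]; exact hz⟩

theorem mem_line {s : W} (hs : inJ s = true) {x : C.cen s} (hx : x ∈ C.line s) :
    ∃ m : Fin 3, (x : G) = C.θ (pw3 s m) := by
  obtain ⟨n, rfl⟩ := hx
  obtain ⟨m, hm⟩ := C.θ_pw3 s hs n
  exact ⟨m, by rw [← hm]; simp⟩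

theorem θ_mem_line {s : W} {x : C.cen s} {m : Fin 3} (hx : (x : G) = C.θ (pw3 s m)) :
    x ∈ C.line s := by
  refine ⟨(m : ℕ), Subtype.ext ?_⟩
  rw [hx]
  fin_cases m
  · simp [pw3]
  · simp [pw3]
  · simp [pw3, map_mul, pow_two]

theorem card_line {s : W} (hs : inJ s = true) (h1 : s ≠ 1) : Nat.card (C.line s) = 3 := by
  rw [line, Nat.card_zpowers]
  exact (orderOf_injective (C.cen s).subtype (Subgroup.subtype_injective _) _).symm.trans
    (C.orderOf_θ hs h1)

theorem J_le_cen {s : W} (hs : inJ s = true) : C.J ≤ C.cen s := by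
  rintro _ ⟨w, hw, rfl⟩
  exact mem_centralizer_singleton_iff.2 (C.inJ_commute hw hs).eq

theorem core_cen {s : W} (hs : inJ s = true) (h1 : s ≠ 1) : pPrimeCore 3 (C.cen s) = ⊥ :=
  C.core _ (C.mem_H s) (C.orderOf_θ hs h1)

/-- The image of the core in the quotient of the centralizer is a Sylow subgroup of order nine. -/
theorem exists_sylow_quot {s : W} (hs : inJ s = true) (h1 : s ≠ 1) (hw : wt s = 1 ∨ wt s = 2) :
    ∃ T : Sylow 3 (C.cen s ⧸ C.line s),
      (T : Subgroup (C.cen s ⧸ C.line s)) =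
        (C.J.subgroupOf (C.cen s)).map (QuotientGroup.mk' (C.line s)) ∧
      Nat.card (T : Subgroup (C.cen s ⧸ C.line s)) = 9 ∧
      (∀ q ∈ (T : Subgroup (C.cen s ⧸ C.line s)),
        ∃ (j : W) (hj : inJ j = true),
          q = QuotientGroup.mk' (C.line s) ⟨C.θ j, C.J_le_cen hs (C.mem_J hj)⟩) ∧
      (∀ q ∈ (T : Subgroup (C.cen s ⧸ C.line s)), q ^ 3 = 1) ∧
      (∀ q ∈ (T : Subgroup (C.cen s ⧸ C.line s)), ∀ r ∈ (T : Subgroup (C.cen s ⧸ C.line s)),
        q * r = r * q) := by
  haveI : Fact (Nat.Prime 3) := ⟨by norm_num⟩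
  obtain ⟨S, hS⟩ := C.sylow_J hs hw (C.J_le_cen hs) le_rfl
  set π := QuotientGroup.mk' (C.line s) with hπ
  have hπs : Function.Surjective π := QuotientGroup.mk'_surjective _
  have hmem : ∀ q ∈ (S : Subgroup (C.cen s)).map π, ∃ (j : W) (hj : inJ j = true),
      q = π ⟨C.θ j, C.J_le_cen hs (C.mem_J hj)⟩ := by
    rintro _ ⟨x, hx, rfl⟩
    rw [hS] at hx
    obtain ⟨j, hj, hje⟩ := hx
    exact ⟨j, hj, congrArg π (Subtype.ext hje.symm)⟩
  refine ⟨S.mapSurjective hπs, by rw [Sylow.coe_mapSurjective, hS], ?_, hmem, ?_, ?_⟩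
  · rw [Sylow.coe_mapSurjective]
    set f := π.comp (S : Subgroup (C.cen s)).subtype
    have hr : (S : Subgroup (C.cen s)).map π = f.range := by
      rw [MonoidHom.range_comp, Subgroup.range_subtype]
    have hle : C.line s ≤ (S : Subgroup (C.cen s)) := by
      rw [hS, line, zpowers_le]
      exact C.mem_J hs
    have hk : Nat.card f.ker = 3 := by
      rw [show f.ker = (C.line s).subgroupOf (S : Subgroup (C.cen s)) by
        rw [← MonoidHom.comap_ker, QuotientGroup.ker_mk']; rfl,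
        Nat.card_congr (subgroupOfEquivOfLe hle).toEquiv, C.card_line hs h1]
    have h27 : Nat.card (S : Subgroup (C.cen s)) = 27 := by
      rw [hS, Nat.card_congr (subgroupOfEquivOfLe (C.J_le_cen hs)).toEquiv, C.card_J]
    have := f.ker.index_mul_card
    rw [hk, h27, Subgroup.index_ker] at this
    rw [hr]
    omega
  · intro q hq
    obtain ⟨j, hj, rfl⟩ := hmem q hq
    rw [← map_pow, show (⟨C.θ j, C.J_le_cen hs (C.mem_J hj)⟩ : C.cen s) ^ 3 = 1 from
      Subtype.ext (C.cube_θ hj), map_one]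
  · intro q hq r hr
    obtain ⟨j, hj, rfl⟩ := hmem q hq
    obtain ⟨k, hk, rfl⟩ := hmem r hr
    rw [← map_mul, ← map_mul]
    exact congrArg π (Subtype.ext (C.inJ_commute hj hk).eq)

/-- Elements of the centralizer commuting modulo the line with an element of the core. -/
theorem lift_commute {s : W} (hs : inJ s = true)
    (hst : ∀ w : W, w * s = s * w → ∀ j : W, inJ j = true → ∀ n,
      w * j * w⁻¹ = j * pw3 s n → w * j = j * w)
    {x : C.cen s} {j : W} (hj : inJ j = true) (hj1 : j ≠ 1)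
    (hx : x * ⟨C.θ j, C.J_le_cen hs (C.mem_J hj)⟩ * x⁻¹ *
      (⟨C.θ j, C.J_le_cen hs (C.mem_J hj)⟩ : C.cen s)⁻¹ ∈ C.line s) :
    (x : G) * C.θ j = C.θ j * (x : G) := by
  obtain ⟨n, hn⟩ := C.mem_line hs hx
  have hn' : (x : G) * C.θ j * (x : G)⁻¹ * (C.θ j)⁻¹ = C.θ (pw3 s n) := by simpa using hn
  have hp := inJ_pw3 s hs n
  have hxj : (x : G) * C.θ j * (x : G)⁻¹ = C.θ (j * pw3 s n) := by
    rw [map_mul, (C.inJ_commute hj hp).eq, ← hn']
    group
  have hxs : ∀ t ∈ [s], (x : G) * C.θ t = C.θ t * (x : G) := by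
    simp only [List.mem_singleton, forall_eq]
    exact mem_centralizer_singleton_iff.1 x.2
  obtain ⟨w, hws, hwj⟩ := C.fusion hj hj1 (inJ_mul j hj _ hp).1 [s]
    (by simpa using hs) hxs hxj
  have hcomm := hst w (hws s (by simp)) j hj n hwj
  have e : j * pw3 s n = j := by rw [← hwj, hcomm, mul_inv_cancel_right]
  rw [e] at hxj
  exact mul_inv_eq_iff_eq_mul.1 hxj

theorem mk_eq_iff {s : W} (x y : C.cen s) :
    QuotientGroup.mk' (C.line s) x = QuotientGroup.mk' (C.line s) y ↔ x * y⁻¹ ∈ C.line s := by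
  rw [QuotientGroup.mk'_apply, QuotientGroup.mk'_apply, QuotientGroup.eq_iff_div_mem,
    div_eq_mul_inv]

theorem mk_commute {s : W} {x y : C.cen s}
    (h : QuotientGroup.mk' (C.line s) x * QuotientGroup.mk' (C.line s) y =
      QuotientGroup.mk' (C.line s) y * QuotientGroup.mk' (C.line s) x) :
    x * y * x⁻¹ * y⁻¹ ∈ C.line s := by
  rw [← C.mk_eq_iff (x * y * x⁻¹) y, map_mul, map_mul, h, map_inv, mul_inv_cancel_right]

end Ctx

end Cfsg.Agent.Recog.AltNine
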