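import Cfsg.Agent.Lib.Recog.AltNine.Cent
import Cfsg.Agent.Lib.Recog.MonoCubeMain

/-!
If the centralizer of the first cycle lies in `H`, then `H` is the whole group.
-/

set_option autoImplicit false
set_option linter.style.haveILetI false

namespace Cfsg.Agent.Recog.AltNine

open Cfsg Subgroup Cfsg.Agent.Recog.MonoCube Cfsg.Agent.Recog.MonoCube.W

universe u

namespace Ctx

open Code

variable {G : Type u} [Group G] [Finite G] (C : Ctx G)

theorem cent_wt_one_le (hA : centralizer ({C.θ jA} : Set G) ≤ C.H) {v : W} (hv : inJ v = true)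
    (h1 : wt v = 1) : centralizer ({C.θ v} : Set G) ≤ C.H := by
  obtain ⟨hAJ, -, -, -, -, hwA, -, -, -, -, hA1, -⟩ := basic
  have hv1 : v ≠ 1 := fun e => by rw [e] at h1; exact absurd h1 (by decide)
  obtain ⟨p, e, hc⟩ := wt_orbit jA hAJ hA1 v hv hv1 (hwA.trans h1.symm)
  set d := C.θ (⟨p, e, 0, 0, 0⟩ : W) with hd
  have hcd : d * C.θ jA * d⁻¹ = C.θ v := by rw [hd, ← map_inv, ← map_mul, ← map_mul, hc]
  intro x hx
  rw [mem_centralizer_singleton_iff, ← hcd] at hx
  have h2 : d⁻¹ * x * d ∈ C.H := by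
    refine hA (mem_centralizer_singleton_iff.2 ?_)
    calc d⁻¹ * x * d * C.θ jA = d⁻¹ * (x * (d * C.θ jA * d⁻¹)) * d := by group
      _ = C.θ jA * (d⁻¹ * x * d) := by rw [hx]; group
  have h3 := mul_mem (mul_mem (C.mem_H (⟨p, e, 0, 0, 0⟩ : W)) h2)
    (inv_mem (C.mem_H (⟨p, e, 0, 0, 0⟩ : W)))
  rw [← hd] at h3
  simpa [mul_assoc] using h3

/-- The constrained case. -/
theorem eq_top_of_cent_le (hA : centralizer ({C.θ jA} : Set G) ≤ C.H) : C.H = ⊤ := by
  classical
  haveI := Fintype.ofFinite G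
  let e : C.H ≃* W := (MonoidHom.ofInjective C.inj).symm
  have he : ∀ h : C.H, C.θ (e h) = (h : G) := fun h =>
    congrArg Subtype.val ((MonoidHom.ofInjective C.inj).apply_symm_apply h)
  refine MonoCube.Ctx.eq_top (H := C.H) ⟨e, fun h hh => ?_, fun h g hg hi h1 => ?_⟩
  · obtain ⟨hJ, h1⟩ := good_iff.1 hh
    rw [← he h]
    rcases (Code.wt_pos _ hJ).1 h1 with h' | h' | h'
    exacts [C.cent_wt_one_le hA hJ h', C.cent_le hJ (Or.inl h'), C.cent_le hJ (Or.inr h')]
  · refine C.closed_one hi h1 (g := g) ?_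
    rw [he h, he ⟨_, hg⟩]

end Ctx

end Cfsg.Agent.Recog.AltNine
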