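import Cfsg.Agent.Lib.Recog.AltNine.Frame

/-!
The three copies of the alternating group of degree six and their equivariance.
-/

set_option autoImplicit false
set_option linter.style.haveILetI false
set_option linter.unusedSectionVars false

namespace Cfsg.Agent.Recog.AltNine

open Cfsg Subgroup Equiv Cfsg.Agent.Recog.MonoCube Cfsg.Agent.Recog.MonoCube.W

open scoped commutatorElement

universe u

namespace Ctx.Frame

open Code

variable {G : Type u} [Group G] [Finite G] {C : Ctx G} (F : C.Frame)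

/-- The copy of degree six in the centralizer of a cycle. -/
def f (k : Fin 3) : A6 →* G := (MulAut.conj (C.θ (gC k))).toMonoidHom.comp F.ι

theorem f_inj (k : Fin 3) : Function.Injective (F.f k) :=
  (MulAut.conj (C.θ (gC k))).injective.comp F.inj

include F in
theorem jK_eq (k : Fin 3) : C.θ (jK k) = MulAut.conj (C.θ (gC k)) (C.θ jA) := by
  rw [MulAut.conj_apply, ← map_inv, ← map_mul, ← map_mul, gC_facts.2 k]

theorem f_comm (k : Fin 3) (τ : A6) : Commute (C.θ (jK k)) (F.f k τ) := by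
  rw [F.jK_eq k]
  exact (F.comm τ).map (MulAut.conj (C.θ (gC k))).toMonoidHom

theorem f_agree (k : Fin 3) (w : W) (τ : A6) (h : toPerm w = ek k τ) : C.θ w = F.f k τ := by
  have h1 : toPerm ((gC k)⁻¹ * w * gC k) = e0 τ := by
    rw [map_mul, map_mul, map_inv, h]
    show (toPerm (gC k))⁻¹ * (toPerm (gC k) * e0 τ * (toPerm (gC k))⁻¹) * toPerm (gC k) = e0 τ
    group
  show C.θ w = C.θ (gC k) * F.ι τ * (C.θ (gC k))⁻¹
  rw [← F.agree _ _ h1, map_mul, map_mul, map_inv]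
  group

theorem f_conj (k k' : Fin 3) (h : W) (τ τ' : A6)
    (hh : h * jK k * h⁻¹ = jK k' ∨ h * jK k * h⁻¹ = jK k' * jK k')
    (hτ : toPerm h * ek k τ * (toPerm h)⁻¹ = ek k' τ') :
    C.θ h * F.f k τ * (C.θ h)⁻¹ = F.f k' τ' := by
  set h₀ := (gC k')⁻¹ * h * gC k with h₀def
  have hh' : h₀ * jA * h₀⁻¹ = jA ∨ h₀ * jA * h₀⁻¹ = jA * jA := by
    have e : h₀ * jA * h₀⁻¹ = (gC k')⁻¹ * (h * (gC k * jA * (gC k)⁻¹) * h⁻¹) * gC k' := by
      rw [h₀def]; group
    rw [gC_facts.2 k] at e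
    rw [e]
    rcases hh with hh | hh
    · left; rw [hh, ← gC_facts.2 k']; group
    · right; rw [hh, ← gC_facts.2 k']; group
  have hτ' : toPerm h₀ * e0 τ * (toPerm h₀)⁻¹ = e0 τ' := by
    have e : toPerm h₀ * e0 τ * (toPerm h₀)⁻¹ =
        (toPerm (gC k'))⁻¹ * (toPerm h * ek k τ * (toPerm h)⁻¹) * toPerm (gC k') := by
      show _ = (toPerm (gC k'))⁻¹ * (toPerm h * (toPerm (gC k) * e0 τ * (toPerm (gC k))⁻¹) *
        (toPerm h)⁻¹) * toPerm (gC k')
      rw [h₀def, map_mul, map_mul, map_inv]; group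
    rw [e, hτ]
    show (toPerm (gC k'))⁻¹ * (toPerm (gC k') * e0 τ' * (toPerm (gC k'))⁻¹) * toPerm (gC k') = e0 τ'
    group
  have := F.conj h₀ τ τ' hh' hτ'
  show C.θ h * (C.θ (gC k) * F.ι τ * (C.θ (gC k))⁻¹) * (C.θ h)⁻¹ =
    C.θ (gC k') * F.ι τ' * (C.θ (gC k'))⁻¹
  rw [← this, h₀def, map_mul, map_mul, map_inv]
  group

theorem f_cen (k : Fin 3) (x : G) (hx : x ∈ centralizer ({C.θ (jK k)} : Set G)) :
    ∃ m τ, x = C.θ (pw3 (jK k) m) * F.f k τ := by
  rw [mem_centralizer_singleton_iff] at hx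
  have h1 : (C.θ (gC k))⁻¹ * x * C.θ (gC k) ∈ C.cen jA := by
    rw [Ctx.cen, mem_centralizer_singleton_iff]
    have h := (show Commute x (C.θ (jK k)) from hx).map
      (MulAut.conj (C.θ (gC k))⁻¹).toMonoidHom
    rw [F.jK_eq k] at h
    simpa [mul_assoc] using h.eq
  obtain ⟨m, τ, he⟩ := F.cen _ h1
  have hp : gC k * pw3 jA m * (gC k)⁻¹ = pw3 (jK k) m := by
    rw [← gC_facts.2 k]
    fin_cases m
    · simp [pw3]
    · simp [pw3]
    · simp only [pw3, Fin.reduceFinMk, Matrix.cons_val]; group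
  refine ⟨m, τ, ?_⟩
  show x = C.θ (pw3 (jK k) m) * (C.θ (gC k) * F.ι τ * (C.θ (gC k))⁻¹)
  rw [← hp, map_mul, map_mul, map_inv,
    show x = C.θ (gC k) * ((C.θ (gC k))⁻¹ * x * C.θ (gC k)) * (C.θ (gC k))⁻¹ by group, he]
  group

/-- A copy of degree six in the centralizer of a cycle with the standard three values. -/
theorem f_unique (k : Fin 3) (φ : A6 →* G) (hφ : Function.Injective φ)
    (hc : ∀ τ, Commute (C.θ (jK k)) (φ τ)) (hB : φ Six.B0 = F.f k Six.B0)
    (hC : φ Six.C0 = F.f k Six.C0) (hS : φ Six.S0 = F.f k Six.S0) : φ = F.f k := by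
  refine six_rigid (F.f_inj k) ?_ hB hC hS
  set g := C.θ (gC k)
  let φ' : A6 →* C.cen jA := ((MulAut.conj g⁻¹).toMonoidHom.comp φ).codRestrict _ fun τ => by
    rw [Ctx.cen, mem_centralizer_singleton_iff]
    have h := ((hc τ).map (MulAut.conj g⁻¹).toMonoidHom).symm.eq
    rw [F.jK_eq k] at h
    simpa [g, mul_assoc] using h
  rintro _ ⟨τ, rfl⟩
  have h1 : φ' τ ∈ commutator (C.cen jA) := by
    have h : φ'.range ≤ commutator (C.cen jA) := by
      rw [MonoidHom.range_eq_map, ← commutator_A6, _root_.commutator_def, Subgroup.map_commutator,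
        _root_.commutator_def]
      exact Subgroup.commutator_mono le_top le_top
    exact h ⟨τ, rfl⟩
  obtain ⟨σ, hσ⟩ := (F.range_eq.symm ▸ ⟨φ' τ, h1, rfl⟩ : (φ' τ : G) ∈ F.ι.range)
  refine ⟨σ, ?_⟩
  show g * F.ι σ * g⁻¹ = φ τ
  rw [hσ]
  show g * (g⁻¹ * φ τ * g⁻¹⁻¹) * g⁻¹ = φ τ
  group

end Ctx.Frame

end Cfsg.Agent.Recog.AltNine
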