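import Cfsg.Agent.S3331
import Cfsg.Agent.Lib.Grp.CoprimeAbelian
import Cfsg.Agent.Lib.Classical.DicksonSmallQ
import Mathlib

/-!
The centralizer of a four group in which an element of order three is self-centralizing modulo the
four group, under a commuting element of order three acting without fixed points on the four group.
-/

set_option autoImplicit false
set_option linter.style.haveILetI false
set_option linter.unusedSectionVars false

namespace Cfsg.Agent.Recog.AltNine

open Subgroup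

universe u

variable {G : Type u} [Group G] [Finite G]

/-- The hypotheses. -/
structure FourHyp (V : Subgroup G) (z g : G) : Prop where
  card_V : Nat.card V = 4
  comm_V : ∀ v ∈ V, ∀ w ∈ V, v * w = w * v
  z_pow : z ^ 3 = 1
  g_pow : g ^ 3 = 1
  zg : Commute z g
  z_cent : z ∈ centralizer (V : Set G)
  z_ne : z ≠ 1
  g_norm : ∀ v ∈ V, g * v * g⁻¹ ∈ V
  g_fix : ∀ v ∈ V, g * v = v * g → v = 1
  cent_z : ∀ x ∈ centralizer (V : Set G), x * z = z * x → ∃ v ∈ V, ∃ i : ℕ, x = v * z ^ i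
  cent_zg : Nat.card (centralizer ({z * g} : Set G)) ∣ 162
  cent_zzg : Nat.card (centralizer ({z * z * g} : Set G)) ∣ 162
  seven : ¬ 7 ∣ Nat.card (centralizer ({g} : Set G))

namespace FourHyp

variable {V : Subgroup G} {z g : G}

theorem V_le (h : FourHyp V z g) : V ≤ centralizer (V : Set G) := fun v hv =>
  mem_centralizer_iff.2 fun w hw => h.comm_V w hw v hv

theorem g_conj (h : FourHyp V z g) {k : G} (hk : k ∈ centralizer (V : Set G)) :
    g * k * g⁻¹ ∈ centralizer (V : Set G) := by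
  refine mem_centralizer_iff.2 fun w hw => ?_
  have h2 : g * (g * w * g⁻¹) * g⁻¹ ∈ V := h.g_norm _ (h.g_norm w hw)
  have hg : g⁻¹ = g * g := inv_eq_of_mul_eq_one_right (by
    rw [← h.g_pow, pow_succ, pow_two, mul_assoc])
  have e : g⁻¹ * w * g = g * (g * w * g⁻¹) * g⁻¹ := by
    calc g⁻¹ * w * g = (g * g) * w * (g * g)⁻¹ := by rw [← hg, inv_inv]
      _ = _ := by group
  have hc : g⁻¹ * w * g * k = k * (g⁻¹ * w * g) := by
    rw [e]; exact mem_centralizer_iff.1 hk _ h2
  calc w * (g * k * g⁻¹) = g * (g⁻¹ * w * g * k) * g⁻¹ := by group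
    _ = g * k * g⁻¹ * w := by rw [hc]; group

theorem gpow_conj (h : FourHyp V z g) {k : G} (hk : k ∈ centralizer (V : Set G)) (i : ℕ) :
    g ^ i * k * (g ^ i)⁻¹ ∈ centralizer (V : Set G) := by
  induction i with
  | zero => simpa using hk
  | succ i ih =>
    have := h.g_conj ih
    rwa [pow_succ', show g * g ^ i * k * (g * g ^ i)⁻¹ = g * (g ^ i * k * (g ^ i)⁻¹) * g⁻¹ by group]

/-- The extension of the centralizer by the outer element. -/
def ext (h : FourHyp V z g) : Subgroup G where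
  carrier := {x | ∃ k ∈ centralizer (V : Set G), ∃ i : ℕ, x = k * g ^ i}
  one_mem' := ⟨1, one_mem _, 0, by simp⟩
  mul_mem' := by
    rintro _ _ ⟨k, hk, i, rfl⟩ ⟨l, hl, j, rfl⟩
    exact ⟨k * (g ^ i * l * (g ^ i)⁻¹), mul_mem hk (h.gpow_conj hl i), i + j, by
      rw [pow_add]; group⟩
  inv_mem' := by
    rintro _ ⟨k, hk, i, rfl⟩
    refine ⟨g ^ (2 * i) * k⁻¹ * (g ^ (2 * i))⁻¹, h.gpow_conj (inv_mem hk) _, 2 * i, ?_⟩
    have hinv : (g ^ i)⁻¹ = g ^ (2 * i) := inv_eq_of_mul_eq_one_right (by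
      rw [← pow_add, show i + 2 * i = 3 * i by ring, pow_mul, h.g_pow, one_pow])
    rw [_root_.mul_inv_rev, hinv]; group

theorem g_not (h : FourHyp V z g) : ¬ g ∈ centralizer (V : Set G) := by
  intro hg
  have hV : V = ⊥ := (eq_bot_iff_forall _).2 fun v hv =>
    h.g_fix v hv (mem_centralizer_iff.1 hg v hv).symm
  have := h.card_V
  rw [hV, card_bot] at this
  omega

theorem gpow_not (h : FourHyp V z g) {i : ℕ} (hg : g ^ i ∈ centralizer (V : Set G)) :
    g ^ i = 1 := by
  have hi : i % 3 = 0 ∨ i % 3 = 1 ∨ i % 3 = 2 := by omega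
  rw [pow_eq_pow_mod i h.g_pow] at hg ⊢
  rcases hi with e | e | e <;> rw [e] at hg ⊢
  · exact pow_zero g
  · exact absurd (pow_one g ▸ hg) h.g_not
  · refine absurd ?_ h.g_not
    have h4 : (g ^ 2) ^ 2 = g := by rw [← pow_mul, pow_eq_pow_mod _ h.g_pow]; simp
    have := pow_mem hg 2
    rwa [h4] at this

theorem gen_elems (h : FourHyp V z g) {a : G} (ha : a ∈ closure ({z, g} : Set G)) :
    ∃ i j : ℕ, a = z ^ i * g ^ j := by
  induction ha using closure_induction with
  | mem x hx =>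
    rcases hx with rfl | rfl
    · exact ⟨1, 0, by simp⟩
    · exact ⟨0, 1, by simp⟩
  | one => exact ⟨0, 0, by simp⟩
  | mul x y _ _ hx hy =>
    obtain ⟨i, j, rfl⟩ := hx
    obtain ⟨i', j', rfl⟩ := hy
    refine ⟨i + i', j + j', ?_⟩
    have := ((h.zg.pow_pow i' j).symm).eq
    rw [pow_add, pow_add, mul_assoc (z ^ i), ← mul_assoc (g ^ j), this]; group
  | inv x _ hx =>
    obtain ⟨i, j, rfl⟩ := hx
    refine ⟨2 * i, 2 * j, inv_eq_of_mul_eq_one_right ?_⟩
    have := ((h.zg.pow_pow (2 * i) j).symm).eq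
    calc z ^ i * g ^ j * (z ^ (2 * i) * g ^ (2 * j)) =
        z ^ i * (g ^ j * z ^ (2 * i)) * g ^ (2 * j) := by group
      _ = (z ^ i * z ^ (2 * i)) * (g ^ j * g ^ (2 * j)) := by rw [this]; group
      _ = 1 := by
        rw [← pow_add, ← pow_add, show i + 2 * i = 3 * i by ring, show j + 2 * j = 3 * j by ring,
          pow_mul, pow_mul, h.z_pow, h.g_pow, one_pow, one_pow, one_mul]

theorem gen_pow (h : FourHyp V z g) {a : G} (ha : a ∈ closure ({z, g} : Set G)) : a ^ 3 = 1 := by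
  obtain ⟨i, j, rfl⟩ := h.gen_elems ha
  rw [(h.zg.pow_pow i j).mul_pow, ← pow_mul, ← pow_mul, mul_comm i, mul_comm j, pow_mul, pow_mul,
    h.z_pow, h.g_pow, one_pow, one_pow, one_mul]

theorem gen_le (h : FourHyp V z g) : closure ({z, g} : Set G) ≤ h.ext := by
  rw [closure_le]
  rintro x (rfl | rfl)
  exacts [⟨x, h.z_cent, 0, by simp⟩, ⟨1, one_mem _, 1, by simp⟩]

theorem conj_cases (h : FourHyp V z g) {a p : G} (ha : a ∈ closure ({z, g} : Set G))
    (ha1 : a ≠ 1) (hp : Commute a p) :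
    Commute z p ∨ Commute g p ∨ Commute (z * g) p ∨ Commute (z * z * g) p := by
  obtain ⟨i, j, rfl⟩ := h.gen_elems ha
  rw [pow_eq_pow_mod i h.z_pow, pow_eq_pow_mod j h.g_pow] at ha1 hp
  have hsq := hp.mul_left hp
  have hc : ∀ m n : ℕ, z ^ m * g ^ n * (z ^ m * g ^ n) = z ^ (2 * m % 3) * g ^ (2 * n % 3) := by
    intro m n
    rw [← pow_two, (h.zg.pow_pow m n).mul_pow, ← pow_mul, ← pow_mul, mul_comm m, mul_comm n,
      pow_eq_pow_mod (2 * m) h.z_pow, pow_eq_pow_mod (2 * n) h.g_pow]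
  rw [hc] at hsq
  have hi : i % 3 = 0 ∨ i % 3 = 1 ∨ i % 3 = 2 := by omega
  have hj : j % 3 = 0 ∨ j % 3 = 1 ∨ j % 3 = 2 := by omega
  rcases hi with e | e | e <;> rcases hj with e' | e' | e' <;>
    rw [e, e'] at hp hsq ha1 <;> norm_num [pow_two] at hp hsq ha1
  all_goals first
    | exact Or.inl hp
    | exact Or.inl hsq
    | exact Or.inr (Or.inl hp)
    | exact Or.inr (Or.inl hsq)
    | exact Or.inr (Or.inr (Or.inl hp))
    | exact Or.inr (Or.inr (Or.inl hsq))
    | exact Or.inr (Or.inr (Or.inr hp))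
    | exact Or.inr (Or.inr (Or.inr hsq))

/-- The elements of order three outside the centralizer centralizing an element of prime order. -/
theorem outer_commute (h : FourHyp V z g) (hK : ¬ 9 ∣ Nat.card (centralizer (V : Set G)))
    {q : ℕ} (hq : q = 5 ∨ q = 7) {p x : G} (hpK : p ∈ centralizer (V : Set G))
    (hp : orderOf p = q) (hx : x ∈ h.ext) (hx1 : x ≠ 1) {k : ℕ} (hx3 : x ^ (3 ^ k) = 1)
    (hxp : Commute x p) :
    ∃ p' ∈ centralizer (V : Set G), orderOf p' = q ∧ Commute g p' := by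
  haveI : Fact (Nat.Prime 3) := ⟨Nat.prime_three⟩
  set A := closure ({z, g} : Set G) with hA
  have hAp : IsPGroup 3 A := fun a => ⟨1, Subtype.ext (by simpa using h.gen_pow a.2)⟩
  have hmax : ∀ Q : Subgroup G, IsPGroup 3 Q → A ≤ Q → Q ≤ h.ext → Q = A := by
    intro Q hQ hAQ hQe
    set D := Q ⊓ centralizer (V : Set G)
    have hz : zpowers z ≤ D :=
      zpowers_le.2 ⟨hAQ (subset_closure (by simp)), h.z_cent⟩
    have hD : D = zpowers z := by
      refine (eq_of_le_of_card_ge hz ?_).symm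
      obtain ⟨n, hn⟩ := IsPGroup.iff_card.1 ((hQ.to_le inf_le_left) : IsPGroup 3 D)
      rw [Nat.card_zpowers, orderOf_eq_prime h.z_pow h.z_ne, hn]
      have : 3 ^ n ∣ Nat.card (centralizer (V : Set G)) := hn ▸ card_dvd_of_le inf_le_right
      match n with
      | 0 => norm_num
      | 1 => norm_num
      | n + 2 => exact absurd ((pow_dvd_pow 3 (show 2 ≤ n + 2 by omega)).trans this) hK
    refine le_antisymm (fun y hy => ?_) hAQ
    obtain ⟨l, hl, i, rfl⟩ := hQe hy
    have hg : g ^ i ∈ Q := pow_mem (hAQ (subset_closure (by simp))) i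
    have hlD : l ∈ D := ⟨(mul_mem_cancel_right hg).1 hy, hl⟩
    rw [hD] at hlD
    exact mul_mem (zpowers_le.2 (subset_closure (by simp) : z ∈ A) hlD)
      (pow_mem (subset_closure (by simp)) i)
  let T : Sylow 3 h.ext := ⟨A.subgroupOf h.ext, hAp.comap_subtype, fun {Q} hQ hle => by
    have h1 : A ≤ Q.map h.ext.subtype := fun a ha => ⟨⟨a, h.gen_le ha⟩, hle ha, rfl⟩
    refine le_antisymm (fun y hy => ?_) hle
    show (y : G) ∈ A
    rw [← hmax _ (hQ.map _) h1 (map_subtype_le Q)]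
    exact ⟨y, hy, rfl⟩⟩
  obtain ⟨R, hR⟩ := (show IsPGroup 3 (zpowers (⟨x, hx⟩ : h.ext)) from IsPGroup.of_card (n :=
      (Nat.dvd_prime_pow Nat.prime_three).1 (orderOf_dvd_of_pow_eq_one hx3) |>.choose) (by
      rw [Nat.card_zpowers, orderOf_mk]
      exact ((Nat.dvd_prime_pow Nat.prime_three).1 (orderOf_dvd_of_pow_eq_one hx3)).choose_spec.2)).exists_le_sylow
  obtain ⟨c, hc⟩ := MulAction.exists_smul_eq h.ext R T
  have ha : c * ⟨x, hx⟩ * c⁻¹ ∈ (T : Subgroup h.ext) := by
    rw [← hc, Sylow.coe_subgroup_smul]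
    exact smul_mem_pointwise_smul _ (MulAut.conj c) _ (hR (mem_zpowers _))
  obtain ⟨l, hl, i, hci⟩ := c.2
  set p' := MulAut.conj (c : G) p with hp'
  have hp'K : p' ∈ centralizer (V : Set G) := by
    rw [hp', MulAut.conj_apply, hci,
      show l * g ^ i * p * (l * g ^ i)⁻¹ = l * (g ^ i * p * (g ^ i)⁻¹) * l⁻¹ by group]
    exact mul_mem (mul_mem hl (h.gpow_conj hpK i)) (inv_mem hl)
  have hp'o : orderOf p' = q := by rw [hp', MulEquiv.orderOf_eq, hp]
  have hne : MulAut.conj (c : G) x ≠ 1 := fun e => hx1 ((MulAut.conj (c : G)).injective (by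
    rw [e, map_one]))
  have hcomm : Commute (MulAut.conj (c : G) x) p' := hxp.map (MulAut.conj (c : G)).toMonoidHom
  have hq3 : Nat.Prime q ∧ ¬ q ∣ 162 ∧ ¬ q ∣ 3 ∧ ¬ q ∣ 4 := by
    rcases hq with rfl | rfl <;> norm_num
  have hbad : ∀ y : G, Nat.card (centralizer ({y} : Set G)) ∣ 162 → ¬ Commute y p' := by
    intro y hy hc'
    refine hq3.2.1 (dvd_trans ?_ hy)
    rw [← hp'o]
    exact orderOf_dvd_natCard _ (mem_centralizer_singleton_iff.2 hc'.symm.eq)
  rcases h.conj_cases (a := MulAut.conj (c : G) x) ha hne hcomm with hz | hg | hy | hy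
  · exfalso
    obtain ⟨v, hv, n, hvn⟩ := h.cent_z p' hp'K hz.symm.eq
    have hcv : Commute v (z ^ n) :=
      (show Commute v z from (mem_centralizer_iff.1 h.z_cent v hv)).pow_right n
    have h12 : orderOf p' ∣ 12 := by
      rw [hvn]
      refine (hcv.orderOf_mul_dvd_lcm).trans (Nat.lcm_dvd ?_ ?_)
      · exact (h.card_V ▸ orderOf_dvd_natCard V hv : orderOf v ∣ 4).trans (by norm_num)
      · exact (orderOf_pow_dvd n).trans ((orderOf_eq_prime h.z_pow h.z_ne) ▸ by norm_num)
    rw [hp'o] at h12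
    rcases hq with rfl | rfl <;> norm_num at h12
  · exact ⟨p', hp'K, hp'o, hg⟩
  · exact absurd hy (hbad _ h.cent_zg)
  · exact absurd hy (hbad _ h.cent_zzg)

/-- An element of a prime order in the centralizer which commutes with the outer element, when the
prime divides the order of the centralizer exactly. -/
theorem exists_prime_commute (h : FourHyp V z g) (hK : ¬ 9 ∣ Nat.card (centralizer (V : Set G)))
    {q : ℕ} (hq : q = 5 ∨ q = 7) (hdvd : q ∣ Nat.card (centralizer (V : Set G)))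
    (hq2 : ¬ q * q ∣ Nat.card (centralizer (V : Set G)))
    (h7 : q = 7 → ∀ n, n ∣ Nat.card (centralizer (V : Set G)) → n % 7 = 1 → ¬ 3 ∣ n)
    (h3 : 3 ∣ Nat.card (centralizer (V : Set G))) :
    ∃ p' ∈ centralizer (V : Set G), orderOf p' = q ∧ Commute g p' := by
  classical
  set K := centralizer (V : Set G) with hKdef
  have hqp : Nat.Prime q := by rcases hq with rfl | rfl <;> norm_num
  haveI : Fact q.Prime := ⟨hqp⟩
  haveI : Fact (Nat.Prime 3) := ⟨Nat.prime_three⟩
  obtain ⟨P⟩ := (inferInstance : Nonempty (Sylow q K))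
  have hPc : Nat.card (P : Subgroup K) = q := by
    obtain ⟨n, hn⟩ := IsPGroup.iff_card.1 P.isPGroup'
    have h1 : q ∣ Nat.card (P : Subgroup K) := P.dvd_card_of_dvd_card hdvd
    have h2 := (P : Subgroup K).card_subgroup_dvd_card
    match n with
    | 0 => rw [hn, pow_zero] at h1; exact absurd (Nat.dvd_one.1 h1) hqp.one_lt.ne'
    | 1 => rw [hn, pow_one]
    | n + 2 =>
      rw [hn] at h2
      exact absurd (((pow_two q) ▸ pow_dvd_pow q (show 2 ≤ n + 2 by omega)).trans h2) hq2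
  set P0 := (P : Subgroup K).map K.subtype with hP0
  have hP0c : Nat.card P0 = q := by rw [hP0, card_map_of_injective K.subtype_injective, hPc]
  haveI : IsCyclic P0 := isCyclic_of_prime_card hP0c
  obtain ⟨⟨p, hpP⟩, hp⟩ := exists_prime_orderOf_dvd_card' q (hP0c ▸ dvd_rfl : q ∣ Nat.card P0)
  rw [orderOf_mk] at hp
  have hpK : p ∈ K := map_subtype_le (P : Subgroup K) hpP
  have hgen : zpowers p = P0 := eq_of_le_of_card_ge (zpowers_le.2 hpP) (by
    rw [hP0c, Nat.card_zpowers, hp])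
  -- a normalizing element in the outer coset
  let gK : K ≃* K :=
    { toFun := fun k => ⟨g * k * g⁻¹, h.g_conj k.2⟩
      invFun := fun k => ⟨g ^ 2 * k * (g ^ 2)⁻¹, h.gpow_conj k.2 2⟩
      left_inv := fun k => Subtype.ext (by
        show g ^ 2 * (g * k * g⁻¹) * (g ^ 2)⁻¹ = (k : G)
        calc g ^ 2 * (g * k * g⁻¹) * (g ^ 2)⁻¹ = g ^ 3 * (k : G) * (g ^ 3)⁻¹ := by group
          _ = (k : G) := by rw [h.g_pow, inv_one, one_mul, mul_one])
      right_inv := fun k => Subtype.ext (by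
        show g * (g ^ 2 * k * (g ^ 2)⁻¹) * g⁻¹ = (k : G)
        calc g * (g ^ 2 * k * (g ^ 2)⁻¹) * g⁻¹ = g ^ 3 * (k : G) * (g ^ 3)⁻¹ := by group
          _ = (k : G) := by rw [h.g_pow, inv_one, one_mul, mul_one])
      map_mul' := fun a b => Subtype.ext (by
        show g * (a * b : G) * g⁻¹ = g * a * g⁻¹ * (g * b * g⁻¹)
        group) }
  obtain ⟨k, hk⟩ := MulAction.exists_smul_eq K
    (P.comapOfInjective gK.symm.toMonoidHom gK.symm.injective (fun x _ => gK.symm.surjective x)) P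
  set y := (k : G) * g with hy
  have hyP : ∀ x ∈ P0, y * x * y⁻¹ ∈ P0 := by
    rintro _ ⟨x, hx, rfl⟩
    refine ⟨k * gK x * k⁻¹, ?_, by simp [hy, gK, mul_assoc]⟩
    show k * gK x * k⁻¹ ∈ (P : Subgroup K)
    rw [← hk, Sylow.coe_subgroup_smul]
    refine smul_mem_pointwise_smul _ (MulAut.conj k) _ ?_
    show gK.symm (gK x) ∈ (P : Subgroup K)
    rw [MulEquiv.symm_apply_apply]; exact hx
  have hyext : y ∈ h.ext := ⟨k, k.2, 1, by rw [pow_one]⟩
  -- the action on the prime order subgroup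
  set N := normalizer (P0 : Set G) ⊓ h.ext
  have hyN : y ∈ N := ⟨mem_normalizer_fintype hyP, hyext⟩
  let act : N →* MulAut P0 :=
    (MulAut.conjNormal (H := P0.subgroupOf (normalizer (P0 : Set G)))).comp
      (inclusion inf_le_left) |> fun f => (MulAut.congr (subgroupOfEquivOfLe le_normalizer)).toMonoidHom.comp f
  have hact : ∀ n : N, act n = 1 → Commute (n : G) p := by
    intro n hn
    have h1 := congrArg Subtype.val (DFunLike.congr_fun hn ⟨p, hpP⟩)
    change (n : G) * p * (n : G)⁻¹ = p at h1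
    exact mul_inv_eq_iff_eq_mul.1 h1
  have hcard : Nat.card (MulAut P0) = q - 1 := by
    rw [IsCyclic.card_mulAut, hP0c, Nat.totient_prime hqp]
  -- three-parts
  have hthree : ∀ n : N, ∀ i : ℕ, (∃ l ∈ K, (n : G) = l * g ^ i) → g ^ i ≠ 1 →
      ∃ m : N, ∃ l ∈ K, (m : G) = l * g ^ i ∧ ∃ a : ℕ, (m : G) ^ (3 ^ a) = 1 ∧ ∃ e, m = n ^ e := by
    intro n i hn hgi
    obtain ⟨a, b, hb, hab⟩ := Nat.exists_eq_pow_mul_and_not_dvd (orderOf_pos (n : G)).ne' 3 (by norm_num)
    obtain ⟨e, he1, he2⟩ : ∃ e, b ∣ e ∧ e % 3 = 1 := by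
      have : b % 3 = 1 ∨ b % 3 = 2 := by omega
      rcases this with h' | h'
      · exact ⟨b, dvd_rfl, h'⟩
      · exact ⟨b * 2, dvd_mul_right b 2, by omega⟩
    obtain ⟨l, hl, hne⟩ := hn
    have hpw : ∀ e : ℕ, ∃ l' ∈ K, (n : G) ^ e = l' * g ^ (i * e) := by
      intro e
      induction e with
      | zero => exact ⟨1, one_mem K, by simp⟩
      | succ e ih =>
        obtain ⟨l', hl', he⟩ := ih
        refine ⟨l' * (g ^ (i * e) * l * (g ^ (i * e))⁻¹), mul_mem hl' (h.gpow_conj hl _), ?_⟩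
        rw [pow_succ, he, hne, Nat.mul_succ, pow_add]; group
    obtain ⟨l', hl', he⟩ := hpw e
    refine ⟨n ^ e, l', hl', ?_, a, ?_, e, rfl⟩
    · rw [Subgroup.coe_pow, he, pow_eq_pow_mod (i * e) h.g_pow, Nat.mul_mod, he2, mul_one,
        Nat.mod_mod, ← pow_eq_pow_mod i h.g_pow]
    · rw [Subgroup.coe_pow, ← pow_mul, ← orderOf_dvd_iff_pow_eq_one, hab, mul_comm e]
      exact mul_dvd_mul_left _ he1
  have hext1 : ∀ m : N, ∀ i : ℕ, g ^ i ≠ 1 → (∃ l ∈ K, (m : G) = l * g ^ i) → (m : G) ≠ 1 := by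
    rintro m i hgi ⟨l, hl, he⟩ hm
    rw [hm, eq_comm, mul_eq_one_iff_inv_eq] at he
    exact hgi (h.gpow_not (he ▸ inv_mem hl))
  obtain ⟨m, l, hl, hme, a, hma, -⟩ := hthree ⟨y, hyN⟩ 1 ⟨k, k.2, by rw [pow_one]⟩
    (by rw [pow_one]; exact fun e => h.g_not (e ▸ one_mem _))
  by_cases ham : act m = 1
  · exact h.outer_commute hK hq hpK hp m.2.2
      (hext1 m 1 (by rw [pow_one]; exact fun e => h.g_not (e ▸ one_mem _)) ⟨l, hl, hme⟩) hma
      (hact m ham)
  rcases hq with rfl | rfl
  · exfalso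
    refine ham (orderOf_eq_one_iff.1 (Nat.eq_one_of_dvd_coprimes (a := 3 ^ a) (b := 4) ?_ ?_ ?_))
    · exact Nat.Coprime.pow_left _ (by norm_num)
    · exact (orderOf_map_dvd act m).trans (orderOf_dvd_of_pow_eq_one (Subtype.ext (by simpa using hma)))
    · exact (orderOf_dvd_natCard (act m)).trans (by rw [hcard])
  -- an element of order three normalizing inside
  have hn3 : 3 ∣ Nat.card (normalizer ((P : Subgroup K) : Set K)) := by
    have h1 := (normalizer ((P : Subgroup K) : Set K)).index_mul_card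
    rw [show (normalizer ((P : Subgroup K) : Set K)).index = Nat.card (Sylow 7 K) from
      P.card_eq_index_normalizer.symm] at h1
    refine (Nat.prime_three.dvd_mul.1 (h1.symm ▸ h3 : 3 ∣ _)).resolve_left ?_
    refine h7 rfl _ (Dvd.intro _ h1) ?_
    have := card_sylow_modEq_one 7 K
    simpa [Nat.ModEq] using this
  obtain ⟨⟨t, htN⟩, ht⟩ := exists_prime_orderOf_dvd_card' 3 hn3
  rw [orderOf_mk] at ht
  have ht' : (t : G) ∈ N := by
    refine ⟨mem_normalizer_fintype ?_, t, t.2, 0, by simp⟩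
    rintro _ ⟨x, hx, rfl⟩
    exact ⟨t * x * t⁻¹, (mem_normalizer_iff.1 htN x).1 hx, rfl⟩
  set tN : N := ⟨(t : G), ht'⟩
  have htG : orderOf (t : G) = 3 := by rw [orderOf_coe, ht]
  have ht3 : (t : G) ^ 3 = 1 := htG ▸ pow_orderOf_eq_one _
  have h6 : ∀ u v : MulAut P0, orderOf u ∣ 3 ^ a → v ^ 3 = 1 → u ≠ 1 → ∃ i : ℕ, i < 3 ∧ v = u ^ i := by
    intro u v hu hv hu1
    have hu6 : orderOf u ∣ 6 := (orderOf_dvd_natCard u).trans (by rw [hcard])
    have hu3 : orderOf u = 3 := by
      have h1 : orderOf u ∣ Nat.gcd (3 ^ a) 6 := Nat.dvd_gcd hu hu6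
      have h2 : Nat.gcd (3 ^ a) 6 ∣ 3 := by
        have : Nat.Coprime (3 ^ a) 2 := Nat.Coprime.pow_left _ (by norm_num)
        rw [show (6 : ℕ) = 3 * 2 from rfl, Nat.Coprime.gcd_mul_right_cancel_right 3 this.symm]
        exact Nat.gcd_dvd_right _ _
      exact ((Nat.dvd_prime Nat.prime_three).1 (h1.trans h2)).resolve_left
        fun e => hu1 (orderOf_eq_one_iff.1 e)
    haveI : IsCyclic (ZMod (Nat.card P0))ˣ := by rw [hP0c]; exact ZMod.isCyclic_units_prime hqp
    haveI : IsCyclic (MulAut P0) := isCyclic_of_surjective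
      (IsCyclic.mulAutMulEquiv P0).symm.toMonoidHom (IsCyclic.mulAutMulEquiv P0).symm.surjective
    have hmem : v ∈ zpowers u := by
      haveI := Fintype.ofFinite (MulAut P0)
      have hs := IsCyclic.card_pow_eq_one_le (α := MulAut P0) (n := 3) (by norm_num)
      by_contra hv'
      have hsub : insert v (Finset.image (fun i : Fin 3 => u ^ (i : ℕ)) Finset.univ) ⊆
          Finset.univ.filter fun x : MulAut P0 => x ^ 3 = 1 := by
        intro x hx
        simp only [Finset.mem_insert, Finset.mem_image, Finset.mem_univ, true_and] at hx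
        simp only [Finset.mem_filter, Finset.mem_univ, true_and]
        rcases hx with rfl | ⟨i, rfl⟩
        · exact hv
        · rw [← pow_mul, mul_comm, pow_mul, show u ^ 3 = 1 from hu3 ▸ pow_orderOf_eq_one u, one_pow]
      have hnot : v ∉ Finset.image (fun i : Fin 3 => u ^ (i : ℕ)) Finset.univ := by
        simp only [Finset.mem_image, Finset.mem_univ, true_and, not_exists]
        exact fun i he => hv' (he ▸ pow_mem (mem_zpowers u) _)
      have := (Finset.card_le_card hsub).trans hs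
      rw [Finset.card_insert_of_notMem hnot, Finset.card_image_of_injective _ (fun i j hij =>
        Fin.ext (pow_injOn_Iio_orderOf (by simp [hu3]) (by simp [hu3]) hij))] at this
      simp at this
    obtain ⟨i, hi⟩ := mem_powers_iff_mem_zpowers.2 hmem
    exact ⟨i % 3, Nat.mod_lt _ (by norm_num), by rw [← hu3, pow_mod_orderOf]; exact hi.symm⟩
  obtain ⟨i, hi3, hi⟩ := h6 (act m) (act tN)
    ((orderOf_map_dvd act m).trans (orderOf_dvd_of_pow_eq_one (Subtype.ext (by simpa using hma))))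
    (by rw [← map_pow, show tN ^ 3 = 1 from Subtype.ext (by simpa [tN] using ht3), map_one]) ham
  have hg2 : g ^ 2 ≠ 1 := fun e => h.g_not (by
    rw [show g = (g ^ 2) ^ 2 by rw [← pow_mul, pow_eq_pow_mod _ h.g_pow]; simp, e, one_pow]
    exact one_mem _)
  have hg1 : g ^ 1 ≠ 1 := by rw [pow_one]; exact fun e => h.g_not (e ▸ one_mem _)
  have hfin : ∀ (x : N) (j : ℕ), g ^ j ≠ 1 → (∃ l ∈ K, (x : G) = l * g ^ j) → act x = 1 →
      ∃ p' ∈ K, orderOf p' = 7 ∧ Commute g p' := by
    intro x j hj hx hx1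
    obtain ⟨x', l', hl', hx', a', ha', e, rfl⟩ := hthree x j hx hj
    exact h.outer_commute hK (Or.inr rfl) hpK hp (x ^ e).2.2
      (hext1 _ j hj ⟨l', hl', hx'⟩) ha' (hact _ (by rw [map_pow, hx1, one_pow]))
  interval_cases i
  · -- the inner element centralizes
    rw [pow_zero] at hi
    have htne : (t : G) ≠ 1 := fun e => by rw [e, orderOf_one] at htG; omega
    exact h.outer_commute hK (Or.inr rfl) hpK hp ht'.2 htne (k := 1) (by simpa using ht3) (hact _ hi)
  · refine hfin (m * tN⁻¹) 1 hg1 ⟨l * (g ^ 1 * (t : G)⁻¹ * (g ^ 1)⁻¹),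
      mul_mem hl (h.gpow_conj (inv_mem t.2) _), ?_⟩ (by rw [map_mul, map_inv, hi, pow_one, mul_inv_cancel])
    show (m : G) * (t : G)⁻¹ = _
    rw [hme]; group
  · refine hfin (m * m * tN⁻¹) 2 hg2 ⟨l * (g * l * g⁻¹) * (g ^ 2 * (t : G)⁻¹ * (g ^ 2)⁻¹),
      mul_mem (mul_mem hl (h.g_conj hl)) (h.gpow_conj (inv_mem t.2) _), ?_⟩
      (by rw [map_mul, map_mul, map_inv, hi, pow_two, mul_inv_cancel])
    show (m : G) * m * (t : G)⁻¹ = _
    rw [hme]; group

set_option maxRecDepth 10000 in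
theorem seven_divisors : ∀ n < 673, n ∣ 672 → n % 7 = 1 → ¬ 3 ∣ n := by decide +kernel

theorem no_core_of_small {Q : Type*} [Group Q] [Finite Q]
    (hQ : Nat.card Q = 3 ∨ Nonempty (Q ≃* Equiv.Perm (Fin 3)) ∨ Nonempty (Q ≃* alternatingGroup (Fin 5)))
    (D : Subgroup Q) [D.Normal] (hD : (Nat.card D).Coprime 3) : D = ⊥ := by
  rcases hQ with h | ⟨⟨e⟩⟩ | ⟨⟨e⟩⟩
  · refine card_eq_one.1 (Nat.eq_one_of_dvd_coprimes hD dvd_rfl ?_)
    exact h ▸ D.card_subgroup_dvd_card
  · rw [← map_eq_bot_iff_of_injective (f := e.toMonoidHom) D e.injective]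
    set E := D.map e.toMonoidHom
    haveI : E.Normal := Subgroup.Normal.map inferInstance _ e.surjective
    have hc : (Nat.card E).Coprime 3 := by rwa [card_map_of_injective e.injective]
    have h2 : Nat.card E ∣ 2 := by
      have := E.card_subgroup_dvd_card
      rw [Nat.card_perm, Nat.card_fin, show Nat.factorial 3 = 2 * 3 from rfl] at this
      exact hc.dvd_of_dvd_mul_right this
    refine (eq_bot_iff_forall _).2 fun d hd => ?_
    by_contra hd1
    have hcen : ∀ x : Equiv.Perm (Fin 3), x * d = d * x := fun x => by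
      have hxd : x * d * x⁻¹ ∈ E := Subgroup.Normal.conj_mem inferInstance d hd x
      have hle : Nat.card E ≤ 2 := Nat.le_of_dvd (by norm_num) h2
      haveI := Fintype.ofFinite E
      rw [Nat.card_eq_fintype_card] at hle
      have key : (⟨x * d * x⁻¹, hxd⟩ : E) = ⟨d, hd⟩ := by
        by_contra hne
        have h3 : ({1, ⟨d, hd⟩, ⟨x * d * x⁻¹, hxd⟩} : Finset E).card = 3 := by
          rw [Finset.card_insert_of_notMem, Finset.card_pair]
          · exact Ne.symm hne
          · simp only [Finset.mem_insert, Finset.mem_singleton, not_or]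
            exact ⟨fun e => hd1 (congrArg Subtype.val e).symm, fun e => hd1 (conj_eq_one_iff.1
              (congrArg Subtype.val e).symm)⟩
        have := Finset.card_le_univ ({1, ⟨d, hd⟩, ⟨x * d * x⁻¹, hxd⟩} : Finset E)
        omega
      exact mul_inv_eq_iff_eq_mul.1 (congrArg Subtype.val key)
    exact hd1 ((by decide : ∀ d : Equiv.Perm (Fin 3), (∀ x, x * d = d * x) → d = 1) d hcen)
  · haveI := alternatingGroup.isSimpleGroup (α := Fin 5) (by simp)
    rw [← map_eq_bot_iff_of_injective (f := e.toMonoidHom) D e.injective]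
    haveI : (D.map e.toMonoidHom).Normal := Subgroup.Normal.map inferInstance _ e.surjective
    refine (Subgroup.Normal.eq_bot_or_eq_top inferInstance).resolve_right fun ht => ?_
    have := congrArg (fun H : Subgroup (alternatingGroup (Fin 5)) => Nat.card H) ht
    simp only [card_top, card_map_of_injective (f := e.toMonoidHom) e.injective] at this
    rw [this, nat_card_alternatingGroup, Nat.card_fin] at hD
    exact absurd hD (by decide)

/-- The structure of the centralizer of the four group. -/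
theorem main (h : FourHyp V z g) :
    ∃ R : Subgroup G, R ≤ centralizer (V : Set G) ∧ V ≤ R ∧
      (∀ k ∈ centralizer (V : Set G), ∀ r ∈ R, k * r * k⁻¹ ∈ R) ∧ (Nat.card R).Coprime 3 ∧
      R ≤ V ⊔ (R ⊓ centralizer ({g} : Set G)) ∧
      (Nat.card (centralizer (V : Set G)) ∣ 6 * Nat.card R ∨
        Nat.card (centralizer (V : Set G)) = 60 * Nat.card R ∧ IsPGroup 2 R ∧
          (∃ p ∈ centralizer (V : Set G), orderOf p = 5 ∧ Commute g p) ∧
          ∃ φ : centralizer (V : Set G) →* alternatingGroup (Fin 5),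
            ∀ x, φ x = 1 ↔ (x : G) ∈ R) := by
  classical
  haveI : Fact (Nat.Prime 3) := ⟨Nat.prime_three⟩
  set K := centralizer (V : Set G) with hK
  set V' := V.subgroupOf K with hV'
  haveI hVn : V'.Normal := ⟨fun v hv k => by
    show (k : G) * (v : G) * (k : G)⁻¹ ∈ V
    rw [← mem_centralizer_iff.1 k.2 v hv, mul_inv_cancel_right]
    exact hv⟩
  have hV'c : Nat.card V' = 4 :=
    (Nat.card_congr (subgroupOfEquivOfLe h.V_le).toEquiv).trans h.card_V
  set π := QuotientGroup.mk' V' with hπ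
  have hπs : Function.Surjective π := QuotientGroup.mk'_surjective _
  set zK : K := ⟨z, h.z_cent⟩
  have hzbar : orderOf (π zK) = 3 := by
    refine orderOf_eq_prime (by rw [← map_pow, show zK ^ 3 = 1 from Subtype.ext h.z_pow, map_one]) ?_
    intro hz
    have hzV : z ∈ V := (QuotientGroup.eq_one_iff zK).1 hz
    have := h.card_V ▸ orderOf_dvd_natCard V hzV
    rw [orderOf_eq_prime h.z_pow h.z_ne] at this
    norm_num at this
  have hself : centralizer ((zpowers (π zK) : Subgroup (K ⧸ V')) : Set (K ⧸ V')) = zpowers (π zK) := by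
    refine le_antisymm (fun q hq => ?_) (le_centralizer _)
    obtain ⟨x, rfl⟩ := hπs q
    have hc := mem_centralizer_iff.1 hq _ (mem_zpowers _)
    have hm : (x * zK * x⁻¹ * zK⁻¹ : K) ∈ V' := by
      rw [← QuotientGroup.eq_one_iff (N := V') (x * zK * x⁻¹ * zK⁻¹)]
      show π (x * zK * x⁻¹ * zK⁻¹) = 1
      rw [map_mul, map_mul, map_mul, map_inv, map_inv, ← hc]
      group
    set v : G := (x : G) * z * (x : G)⁻¹ * z⁻¹
    have hvV : v ∈ V := hm
    have hxz : (x : G) * z * (x : G)⁻¹ = v * z := (inv_mul_cancel_right _ z).symm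
    have hvz : Commute v z := mem_centralizer_iff.1 h.z_cent v hvV
    have hv3 : v ^ 3 = 1 := by
      have := congrArg (· ^ 3) hxz
      simp only [conj_pow, hvz.mul_pow, h.z_pow, mul_one, mul_inv_cancel] at this
      exact this.symm
    have hv1 : v = 1 := by
      refine orderOf_eq_one_iff.1 (Nat.eq_one_of_dvd_coprimes (a := 3) (b := 4) (by norm_num)
        (orderOf_dvd_of_pow_eq_one hv3) (h.card_V ▸ orderOf_dvd_natCard V hvV))
    rw [hv1, one_mul, mul_inv_eq_iff_eq_mul] at hxz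
    obtain ⟨u, hu, i, hxu⟩ := h.cent_z x x.2 hxz
    have : π x = π zK ^ i := by
      rw [← map_pow, hπ, QuotientGroup.mk'_apply, QuotientGroup.mk'_apply, QuotientGroup.eq_iff_div_mem]
      show (x : G) / ((zK ^ i : K) : G) ∈ V
      rw [hxu, Subgroup.coe_pow, show ((zK : K) : G) = z from rfl, mul_div_cancel_right]
      exact hu
    rw [this]
    exact pow_mem (mem_zpowers _) i
  have hQc : Nat.card K = 4 * Nat.card (K ⧸ V') := by
    rw [card_eq_card_quotient_mul_card_subgroup V', hV'c, mul_comm]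
  -- from a normal subgroup of the quotient
  have build : ∀ (N : Subgroup (K ⧸ V')) [N.Normal], (Nat.card N).Coprime 3 →
      (Nat.card ((K ⧸ V') ⧸ N) = 3 ∨ Nonempty ((K ⧸ V') ⧸ N ≃* Equiv.Perm (Fin 3)) ∨
        Nonempty ((K ⧸ V') ⧸ N ≃* alternatingGroup (Fin 5))) →
      ∃ R : Subgroup G, R ≤ K ∧ V ≤ R ∧ (∀ k ∈ K, ∀ r ∈ R, k * r * k⁻¹ ∈ R) ∧
        (Nat.card R).Coprime 3 ∧ R ≤ V ⊔ (R ⊓ centralizer ({g} : Set G)) ∧
        Nat.card R = 4 * Nat.card N ∧
        ∀ x : K, QuotientGroup.mk' N (π x) = 1 ↔ (x : G) ∈ R := by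
    intro N _ hN hQ
    set R0 := N.comap π with hR0
    set R := R0.map K.subtype with hR
    have hVR0 : V' ≤ R0 := fun v hv => by
      rw [hR0, mem_comap, hπ, QuotientGroup.mk'_apply, (QuotientGroup.eq_one_iff v).2 hv]
      exact one_mem N
    have hR0c : Nat.card R0 = 4 * Nat.card N := by
      have e1 := R0.card_mul_index
      rw [hR0, index_comap_of_surjective _ hπs, ← hR0, hQc, ← N.card_mul_index, ← mul_assoc] at e1
      exact Nat.eq_of_mul_eq_mul_right (Nat.pos_of_ne_zero N.index_ne_zero_of_finite) e1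
    have hRc : Nat.card R = 4 * Nat.card N := by
      rw [hR, card_map_of_injective K.subtype_injective, hR0c]
    have hcop : (Nat.card R).Coprime 3 := by rw [hRc]; exact Nat.Coprime.mul_left (by norm_num) hN
    have hmem : ∀ x : K, QuotientGroup.mk' N (π x) = 1 ↔ (x : G) ∈ R := fun x => by
      rw [QuotientGroup.mk'_apply, QuotientGroup.eq_one_iff, hR]
      exact ⟨fun hx => ⟨x, hx, rfl⟩, fun ⟨x', hx', he⟩ => K.subtype_injective he ▸ hx'⟩
    have hRK : R ≤ K := map_subtype_le R0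
    have hconj : ∀ k ∈ K, ∀ r ∈ R, k * r * k⁻¹ ∈ R := by
      rintro k hk _ ⟨r, hr, rfl⟩
      exact ⟨⟨k, hk⟩ * r * ⟨k, hk⟩⁻¹,
        Subgroup.Normal.conj_mem (Subgroup.Normal.comap inferInstance π) r hr _, rfl⟩
    have hmax : ∀ D : Subgroup G, ∀ hDK : D ≤ K, (∀ k ∈ K, ∀ r ∈ D, k * r * k⁻¹ ∈ D) →
        (Nat.card D).Coprime 3 → D ≤ R := by
      intro D hDK hDn hDc
      haveI : (D.subgroupOf K).Normal := ⟨fun d hd k => hDn k k.2 d hd⟩
      set ρ := (QuotientGroup.mk' N).comp π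
      haveI : ((D.subgroupOf K).map ρ).Normal :=
        Subgroup.Normal.map inferInstance _ ((QuotientGroup.mk'_surjective N).comp hπs)
      have hb := no_core_of_small hQ ((D.subgroupOf K).map ρ) (Nat.Coprime.coprime_dvd_left
        ((card_map_dvd _ _).trans (Nat.card_congr (subgroupOfEquivOfLe hDK).toEquiv ▸ dvd_rfl)) hDc)
      intro d hd
      refine (hmem ⟨d, hDK hd⟩).1 ?_
      have : ρ ⟨d, hDK hd⟩ ∈ (D.subgroupOf K).map ρ := mem_map_of_mem ρ hd
      rwa [hb, mem_bot] at this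
    have hgR : ∀ r ∈ R, g * r * g⁻¹ ∈ R := by
      intro r hr
      have hle : R.map (MulAut.conj g).toMonoidHom ≤ R := by
        refine hmax _ ?_ ?_ ?_
        · rintro _ ⟨r, hr, rfl⟩
          exact h.g_conj (hRK hr)
        · rintro k hk _ ⟨r, hr, rfl⟩
          have hk' : g⁻¹ * k * g ∈ K := by
            have := h.gpow_conj hk 2
            have hg2 : g ^ 2 = g⁻¹ := eq_inv_of_mul_eq_one_left (by rw [← pow_succ, h.g_pow])
            rwa [hg2, inv_inv] at this
          refine ⟨(g⁻¹ * k * g) * r * (g⁻¹ * k * g)⁻¹, hconj _ hk' r hr, ?_⟩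
          show g * ((g⁻¹ * k * g) * r * (g⁻¹ * k * g)⁻¹) * g⁻¹ = k * (g * r * g⁻¹) * k⁻¹
          group
        · rwa [card_map_of_injective (MulAut.conj g).injective]
      exact hle ⟨r, hr, rfl⟩
    have hVR : V ≤ R := fun v hv => ⟨⟨v, h.V_le hv⟩, hVR0 hv, rfl⟩
    refine ⟨R, hRK, hVR, hconj, hcop, ?_, hRc, hmem⟩
    -- generation by centralizers
    set A := closure ({z, g} : Set G) with hA
    letI : IsMulCommutative A := ⟨⟨fun a b => by
      obtain ⟨i, j, hi⟩ := h.gen_elems a.2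
      obtain ⟨i', j', hj⟩ := h.gen_elems b.2
      refine Subtype.ext ?_
      show (a : G) * b = b * a
      rw [hi, hj]
      exact (((Commute.refl z).pow_pow i i').mul_right (h.zg.pow_pow i j')).mul_left
        (((h.zg.symm).pow_pow j i').mul_right ((Commute.refl g).pow_pow j j'))⟩⟩
    have hAc : ¬ IsCyclic A := by
      intro hcyc
      obtain ⟨⟨a, ha⟩, hgen⟩ := hcyc.exists_generator
      have hz := mem_powers_iff_mem_zpowers.2 (hgen ⟨z, subset_closure (by simp)⟩)
      have hg' := mem_powers_iff_mem_zpowers.2 (hgen ⟨g, subset_closure (by simp)⟩)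
      obtain ⟨m, hm⟩ := hz
      obtain ⟨n, hn⟩ := hg'
      have hm' : a ^ m = z := congrArg Subtype.val hm
      have hn' : a ^ n = g := congrArg Subtype.val hn
      have ha3 := h.gen_pow ha
      rw [pow_eq_pow_mod m ha3] at hm'
      have hmk : m % 3 = 0 ∨ m % 3 = 1 ∨ m % 3 = 2 := by omega
      have haK : a ∈ K := by
        rcases hmk with e | e | e <;> rw [e] at hm'
        · exact absurd (hm'.symm.trans (pow_zero a)) h.z_ne
        · rw [pow_one] at hm'; exact hm' ▸ h.z_cent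
        · have : a = z ^ 2 := by
            rw [← hm', ← pow_mul, pow_eq_pow_mod _ ha3]; simp
          rw [this]; exact pow_mem h.z_cent 2
      exact h.g_not (hn' ▸ pow_mem haK n)
    have hAR : A ≤ normalizer (R : Set G) := by
      rw [hA, closure_le]
      rintro x (rfl | rfl)
      · exact mem_normalizer_fintype fun r hr => hconj x h.z_cent r hr
      · exact mem_normalizer_fintype hgR
    have hAcop : (Nat.card A).Coprime (Nat.card R) := by
      obtain ⟨n, hn⟩ := IsPGroup.iff_card.1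
        (fun a => ⟨1, Subtype.ext (by simpa using h.gen_pow a.2)⟩ : IsPGroup 3 A)
      rw [hn]
      exact Nat.Coprime.pow_left n hcop.symm
    intro r hr
    have hr' := hr
    rw [← Grp.generated_by_centralizers A R hAc hAR hAcop] at hr'
    refine (iSup₂_le fun a ha => ?_ :
      (⨆ a ∈ {a : G | a ∈ A ∧ a ≠ 1}, R ⊓ centralizer {a}) ≤ _) hr'
    rintro s ⟨hsR, hsa⟩
    have hzcase : ∀ s ∈ R, Commute z s → s ∈ V := by
      intro s hs hc
      obtain ⟨v, hv, i, hvi⟩ := h.cent_z s (hRK hs) hc.symm.eq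
      have hzi : z ^ i ∈ R := by
        rw [show z ^ i = v⁻¹ * s by rw [hvi, inv_mul_cancel_left]]
        exact mul_mem (inv_mem (hVR hv)) hs
      have : z ^ i = 1 := orderOf_eq_one_iff.1 (Nat.eq_one_of_dvd_coprimes (a := 3)
        hcop.symm ((orderOf_pow_dvd i).trans (orderOf_dvd_of_pow_eq_one h.z_pow))
        (orderOf_dvd_natCard R hzi))
      rw [hvi, this, mul_one]; exact hv
    have hycase : ∀ y, Nat.card (centralizer ({y} : Set G)) ∣ 162 → Commute z y → ∀ s ∈ R,
        Commute y s → Commute z s := by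
      intro y hy hzy s hs hc
      set D := R ⊓ centralizer ({y} : Set G)
      have hD : Nat.card D ∣ 2 := by
        refine (Nat.Coprime.dvd_of_dvd_mul_right (Nat.Coprime.pow_right 4
          (Nat.Coprime.coprime_dvd_left (card_dvd_of_le inf_le_left) hcop)) ?_)
        exact (card_dvd_of_le inf_le_right).trans (hy.trans (by norm_num))
      have hsD : s ∈ D := ⟨hs, mem_centralizer_singleton_iff.2 hc.symm.eq⟩
      have hzsD : z * s * z⁻¹ ∈ D := ⟨hconj z h.z_cent s hs, mem_centralizer_singleton_iff.2 (by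
        calc z * s * z⁻¹ * y = z * s * (z⁻¹ * y) := by group
          _ = z * s * (y * z⁻¹) := by rw [(hzy.inv_left).eq]
          _ = z * (s * y) * z⁻¹ := by group
          _ = z * (y * s) * z⁻¹ := by rw [hc.eq]
          _ = z * y * (s * z⁻¹) := by group
          _ = y * z * (s * z⁻¹) := by rw [hzy.eq]
          _ = y * (z * s * z⁻¹) := by group)⟩
      by_contra hne
      have hs1 : s ≠ 1 := fun e => hne (e ▸ Commute.one_right z)
      have hle : Nat.card D ≤ 2 := Nat.le_of_dvd (by norm_num) hD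
      haveI := Fintype.ofFinite D
      rw [Nat.card_eq_fintype_card] at hle
      have h3 : ({1, ⟨s, hsD⟩, ⟨z * s * z⁻¹, hzsD⟩} : Finset D).card = 3 := by
        rw [Finset.card_insert_of_notMem, Finset.card_pair]
        · exact fun e => hne (mul_inv_eq_iff_eq_mul.1 (congrArg Subtype.val e).symm)
        · simp only [Finset.mem_insert, Finset.mem_singleton, not_or]
          exact ⟨fun e => hs1 (congrArg Subtype.val e).symm, fun e => hs1 (conj_eq_one_iff.1
            (congrArg Subtype.val e).symm)⟩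
      have := Finset.card_le_univ ({1, ⟨s, hsD⟩, ⟨z * s * z⁻¹, hzsD⟩} : Finset D)
      omega
    rcases h.conj_cases ha.1 ha.2 (mem_centralizer_singleton_iff.1 hsa).symm with hc | hc | hc | hc
    · exact mem_sup_left (hzcase s hsR hc)
    · exact mem_sup_right ⟨hsR, mem_centralizer_singleton_iff.2 hc.symm.eq⟩
    · exact mem_sup_left (hzcase s hsR (hycase _ h.cent_zg ((Commute.refl z).mul_right h.zg) s hsR hc))
    · exact mem_sup_left (hzcase s hsR (hycase _ h.cent_zzg
        (((Commute.refl z).mul_right (Commute.refl z)).mul_right h.zg) s hsR hc))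
  rcases S3331.result (zpowers (π zK)) (by rw [Nat.card_zpowers, hzbar]) hself with
    ⟨N, hNn, -, hN, hQ⟩ | ⟨N, hNn, -, hN2, ⟨e⟩⟩ | ⟨⟨e⟩⟩
  · haveI := hNn
    obtain ⟨R, h1, h2, h3, h4, h5, hRc, -⟩ := build N hN (hQ.imp id Or.inl)
    refine ⟨R, h1, h2, h3, h4, h5, Or.inl ?_⟩
    rw [hQc, hRc, card_eq_card_quotient_mul_card_subgroup N]
    have hd : Nat.card ((K ⧸ V') ⧸ N) ∣ 6 := by
      rcases hQ with h3 | ⟨⟨e⟩⟩
      · rw [h3]; norm_num
      · rw [Nat.card_congr e.toEquiv, Nat.card_perm, Nat.card_fin]; rfl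
    calc 4 * (Nat.card ((K ⧸ V') ⧸ N) * Nat.card N) = Nat.card ((K ⧸ V') ⧸ N) * (4 * Nat.card N) := by ring
      _ ∣ 6 * (4 * Nat.card N) := mul_dvd_mul_right hd _
  · haveI := hNn
    have hNp : IsPGroup 2 N := fun n => ⟨1, Subtype.ext (by simpa using hN2 n n.2)⟩
    obtain ⟨n, hn⟩ := IsPGroup.iff_card.1 hNp
    have hN : (Nat.card N).Coprime 3 := hn ▸ Nat.Coprime.pow_left n (by norm_num)
    obtain ⟨R, h1, h2, h3, h4, h5, hRc, hmem⟩ := build N hN (Or.inr (Or.inr ⟨e⟩))
    have hKc : Nat.card K = 60 * Nat.card R := by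
      rw [hQc, hRc, card_eq_card_quotient_mul_card_subgroup N, Nat.card_congr e.toEquiv,
        nat_card_alternatingGroup, Nat.card_fin, show Nat.factorial 5 / 2 = 60 from rfl]
      ring
    have hR2 : IsPGroup 2 R := IsPGroup.of_card (n := n + 2) (by rw [hRc, hn]; ring)
    have hRd : Nat.card R = 2 ^ (n + 2) := by rw [hRc, hn]; ring
    obtain ⟨p, hpK, hp, hgp⟩ := h.exists_prime_commute (q := 5) (by
        rw [hKc, hRd]
        intro h9
        have : 3 ∣ 20 * 2 ^ (n + 2) := Nat.dvd_of_mul_dvd_mul_left (k := 3) (by norm_num)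
          (by rwa [show 60 * 2 ^ (n + 2) = 3 * (20 * 2 ^ (n + 2)) by ring] at h9)
        rcases Nat.prime_three.dvd_mul.1 this with h' | h'
        · norm_num at h'
        · exact absurd (Nat.prime_three.dvd_of_dvd_pow h') (by norm_num))
      (Or.inl rfl) (by rw [hKc]; exact Dvd.dvd.mul_right (by norm_num) _) (by
        rw [hKc, hRd]
        intro h25
        have : 5 ∣ 12 * 2 ^ (n + 2) := Nat.dvd_of_mul_dvd_mul_left (k := 5) (by norm_num)
          (by rwa [show 60 * 2 ^ (n + 2) = 5 * (12 * 2 ^ (n + 2)) by ring] at h25)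
        rcases (by norm_num : Nat.Prime 5).dvd_mul.1 this with h' | h'
        · norm_num at h'
        · exact absurd ((by norm_num : Nat.Prime 5).dvd_of_dvd_pow h') (by norm_num))
      (fun h' => absurd h' (by norm_num)) (by rw [hKc]; exact Dvd.dvd.mul_right (by norm_num) _)
    refine ⟨R, h1, h2, h3, h4, h5, Or.inr ⟨hKc, hR2, ⟨p, hpK, hp, hgp⟩,
      e.toMonoidHom.comp ((QuotientGroup.mk' N).comp π), fun x => ?_⟩⟩
    rw [← hmem x]
    exact ⟨fun he => e.injective (he.trans (map_one e).symm), fun he => by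
      show e (QuotientGroup.mk' N (π x)) = 1
      rw [he, map_one]⟩
  · exfalso
    haveI : Fact (Nat.Prime 7) := ⟨by norm_num⟩
    have hKc : Nat.card K = 672 := by
      have := Dickson.card_psl_odd (F := ZMod 7) (by rw [ZMod.card]; decide)
      rw [ZMod.card] at this
      rw [hQc, Nat.card_congr e.toEquiv]
      omega
    obtain ⟨p, -, hp, hgp⟩ := h.exists_prime_commute (q := 7) (by rw [hKc]; norm_num) (Or.inr rfl)
      (by rw [hKc]; norm_num) (by rw [hKc]; norm_num) (fun _ n hn => by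
        rw [hKc] at hn
        exact seven_divisors n (Nat.lt_succ_of_le (Nat.le_of_dvd (by norm_num) hn)) hn) (by rw [hKc]; norm_num)
    exact h.seven (hp ▸ orderOf_dvd_natCard _ (mem_centralizer_singleton_iff.2 hgp.symm.eq))

end FourHyp

end Cfsg.Agent.Recog.AltNine
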