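import Cfsg.Agent.Lib.Recog.AltNine.FoursData

/-!
Searches in the alternating group of degree six.
-/

set_option autoImplicit false
set_option maxRecDepth 100000

namespace Cfsg.Agent.Recog.AltNine

open Equiv Cfsg.Agent.Recog.MonoCube Cfsg.Agent.Recog.MonoCube.W

namespace Fours

/-- Words detecting an element of order three. -/
def probe (m : A6) : List A6 :=
  let a := m; let b := Six.B0 * m * Six.B0⁻¹; let c := Six.B0⁻¹ * m * Six.B0; let d := wl * m * wl⁻¹
  [a * a * b * c, a * a * c * b, a * b * a * c, c * d, b * d, a * d]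

theorem small_m : ∀ m : A6, m ∈ Ml ∨ ∃ x ∈ probe m, x * (x * x) = 1 ∧ x ≠ 1 := by decide +kernel

theorem Ml_closed : ∀ m ∈ Ml, m ≠ 1 → ∀ x ∈ Ml,
    x ∈ [1, m, Six.B0 * m * Six.B0⁻¹, Six.B0⁻¹ * m * Six.B0] := by decide +kernel

theorem five_not_norm : ∀ p : A6, p * p * (p * p) * p = 1 → p ≠ 1 →
    ∃ m ∈ Ml, p * m * p⁻¹ ∉ Ml := by decide +kernel

theorem five_fix : ∀ p : A6, p * p * (p * p) * p = 1 → p ≠ 1 →
    (p : Perm (Fin 6)) 5 = 5 ∨
      ∃ x ∈ [p * Six.B0, p * wl, p * Six.B0 * wl, p * p * Six.B0, p * p * wl, p * p * Six.B0 * wl,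
        p * Six.B0 * p * wl, p * Six.B0 * p * Six.B0, p * wl * p * wl, p * Six.B0 * p * p * wl],
        x * x * (x * x) = 1 ∧ x * x ≠ 1 := by decide +kernel

theorem five_unique : ∀ p : A6, p * p * (p * p) * p = 1 → p ≠ 1 → ∀ i : Fin 6,
    (p : Perm (Fin 6)) 5 = 5 → (p : Perm (Fin 6)) i = i → i = 5 := by decide +kernel

theorem stab_card : (Finset.univ.filter fun σ : A6 => (σ : Perm (Fin 6)) 5 = 5).card = 60 := by
  decide +kernel

theorem five_orders : ∀ x : alternatingGroup (Fin 5), x * x * (x * x) = 1 → x * x = 1 := by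
  decide +kernel

end Fours

end Cfsg.Agent.Recog.AltNine
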