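import Cfsg.Agent.Lib.Recog.AltNine.Inv
import Cfsg.Agent.Lib.Recog.AltNine.FoursSearch

/-!
The centralizer of a regular four group is either small or the product of the four group with the
alternating group of degree five on the other points.
-/

set_option autoImplicit false
set_option linter.style.haveILetI false
set_option linter.unusedSectionVars false

namespace Cfsg.Agent.Recog.AltNine

open Cfsg Subgroup Equiv Cfsg.Agent.Recog.MonoCube Cfsg.Agent.Recog.MonoCube.W Fours

universe u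

namespace Ctx.Frame

open Code

variable {G : Type u} [Group G] [Finite G] {C : Ctx G} (F : C.Frame)

/-- The regular four group of the last copy. -/
def Vc : Subgroup G := Vl.map (F.f 2)

theorem card_Vc : Nat.card F.Vc = 4 := by
  rw [Vc, card_map_of_injective (F.f_inj 2)]
  exact card_four _ _ _ cards.1

theorem wW_cent_Vc : C.θ wW ∈ centralizer (F.Vc : Set G) := by
  refine mem_centralizer_iff.2 ?_
  rintro _ ⟨τ, hτ, rfl⟩
  have h := F.f_conj 2 2 wW τ τ (Or.inr (by
    show wW * jC * wW⁻¹ = jC * jC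
    exact wW_facts.2.2.2.2.2.2.2.1.1)) (wW_facts.2.2.2.2.2.2.2.2 τ hτ)
  exact (mul_inv_eq_iff_eq_mul.1 h).symm

theorem fourHyp_Vc : FourHyp F.Vc (C.θ jC) (C.θ jB) := by
  obtain ⟨hn1, hn2⟩ := norm_Vl
  have hjC : inJ jC = true := by decide +kernel
  have hjB : inJ jB = true := by decide +kernel
  have hb : C.θ jB = F.f 2 Six.C0 := F.f_agree 2 _ _ wW_facts.2.1
  have hc : ∀ τ, Commute (C.θ jC) (F.f 2 τ) := fun τ => F.f_comm 2 τ
  refine ⟨F.card_Vc, ?_, C.cube_θ hjC, C.cube_θ hjB, (C.inJ_commute hjC hjB), ?_, ?_, ?_, ?_, ?_, ?_,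
    ?_, F.not_seven 1⟩
  · rintro _ ⟨σ₁, h1, rfl⟩ _ ⟨σ₂, h2, rfl⟩
    rw [← map_mul, ← map_mul, commutes.1 σ₁ h1 σ₂ h2]
  · refine mem_centralizer_iff.2 ?_
    rintro _ ⟨τ, -, rfl⟩
    exact (hc τ).symm.eq
  · exact fun e => absurd (C.inj (e.trans (map_one C.θ).symm)) (by decide +kernel)
  · rintro _ ⟨τ, hτ, rfl⟩
    exact ⟨Six.C0 * τ * Six.C0⁻¹, hn1 τ hτ, by rw [hb, map_mul, map_mul, map_inv]⟩
  · rintro _ ⟨τ, hτ, rfl⟩ he
    rw [hn2 τ hτ (F.f_inj 2 (by rw [map_mul, map_mul, ← hb, he])), map_one]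
  · intro x hx hxz
    obtain ⟨m, τ, rfl⟩ := F.f_cen 2 x (mem_centralizer_singleton_iff.2 hxz)
    have hcm : ∀ τ', Commute (C.θ (pw3 (jK 2) m)) (F.f 2 τ') := fun τ' => by
      fin_cases m
      · simp [pw3]
      · simpa [pw3] using F.f_comm 2 τ'
      · simpa [pw3, map_mul] using (F.f_comm 2 τ').mul_left (F.f_comm 2 τ')
    have hmem : ∀ v ∈ Vl, τ * v = v * τ := fun v hv => F.f_inj 2 (by
      rw [map_mul, map_mul]
      have h1 : F.f 2 v * (C.θ (pw3 (jK 2) m) * F.f 2 τ) =
          C.θ (pw3 (jK 2) m) * F.f 2 τ * F.f 2 v := mem_centralizer_iff.1 hx _ ⟨v, hv, rfl⟩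
      rw [← mul_assoc, ← (hcm v).eq, mul_assoc, mul_assoc] at h1
      exact (mul_left_cancel h1).symm)
    have hτV : τ ∈ Vl := cent_Vl τ (hmem v1 (by decide +kernel)) (hmem v2 (by decide +kernel))
    refine ⟨F.f 2 τ, ⟨τ, hτV, rfl⟩, (m : ℕ), ?_⟩
    rw [(hcm τ).eq]
    fin_cases m
    · simp [pw3]
    · simp [pw3, jK]
    · simp [pw3, jK, pow_two]
  · rw [← map_mul]
    exact C.card_cent_dvd (by decide +kernel) (Or.inl (by decide +kernel))
  · rw [← map_mul, ← map_mul]
    exact C.card_cent_dvd (by decide +kernel) (Or.inl (by decide +kernel))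

/-- The centralizer of the regular four group is the product with degree five. -/
def Full : Prop :=
  (∀ τ ∈ Vl, ∀ σ : A6, (σ : Perm (Fin 6)) 5 = 5 → Commute (F.f 2 τ) (F.f 1 σ)) ∧
    ∀ x ∈ centralizer (F.Vc : Set G), ∃ τ ∈ Vl, ∃ σ : A6, (σ : Perm (Fin 6)) 5 = 5 ∧
      x = F.f 2 τ * F.f 1 σ

/-- The centralizer of the regular four group is small or full. -/
theorem cent_Vc_cases : Nat.card (centralizer (F.Vc : Set G)) ∣ 24 ∨ F.Full := by
  classical
  haveI : Fact (Nat.Prime 5) := ⟨by norm_num⟩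
  have hh := F.fourHyp_Vc
  obtain ⟨R, hRK, hVR, hRn, hRc, hRgen, hcases⟩ := hh.main
  set K := centralizer (F.Vc : Set G)
  set M : Subgroup A6 := R.comap (F.f 1) with hM
  obtain ⟨-, -, hc1, -, -, -, -, ⟨hwC, hwB⟩, -⟩ := wW_facts
  have hcK : F.f 1 Six.B0 ∈ K := by rw [← F.f_agree 1 _ _ hc1]; exact hh.z_cent
  have hwK : F.f 1 wl ∈ K := by rw [← F.wW_eq]; exact F.wW_cent_Vc
  have hb : ∀ σ, Commute (C.θ jB) (F.f 1 σ) := fun σ => F.f_comm 1 σ
  have hMcop : ∀ x ∈ M, x * (x * x) = 1 → x = 1 := by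
    intro x hx h3
    refine F.f_inj 1 (orderOf_eq_one_iff.1 (Nat.eq_one_of_dvd_coprimes hRc
      (orderOf_dvd_natCard R hx) (orderOf_dvd_of_pow_eq_one ?_)) |>.trans (map_one _).symm)
    rw [← map_pow, pow_succ, pow_two, mul_assoc, h3, map_one]
  have hMn : ∀ m ∈ M, ∀ k, F.f 1 k ∈ K → k * m * k⁻¹ ∈ M := fun m hm k hk => by
    rw [hM, mem_comap, map_mul, map_mul, map_inv]
    exact hRn _ hk _ hm
  have hMl : M ≤ Ml := by
    intro m hm
    refine (small_m m).resolve_right ?_
    rintro ⟨x, hx, hx3, hx1⟩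
    refine hx1 (hMcop x ?_ hx3)
    have hb' := hMn m hm _ hcK
    have hc' := hMn m hm _ (show F.f 1 Six.B0⁻¹ ∈ K by rw [map_inv]; exact inv_mem hcK)
    rw [inv_inv] at hc'
    have hd' := hMn m hm _ hwK
    simp only [probe, List.mem_cons, List.not_mem_nil, or_false] at hx
    rcases hx with rfl | rfl | rfl | rfl | rfl | rfl
    exacts [mul_mem (mul_mem (mul_mem hm hm) hb') hc', mul_mem (mul_mem (mul_mem hm hm) hc') hb',
      mul_mem (mul_mem (mul_mem hm hb') hm) hc', mul_mem hc' hd', mul_mem hb' hd', mul_mem hm hd']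
  have hRV : M = ⊥ → R = F.Vc := by
    intro hbot
    refine le_antisymm (hRgen.trans (sup_le le_rfl ?_)) hVR
    rintro r ⟨hr, hrg⟩
    obtain ⟨τ, -, rfl⟩ := F.cent_coprime 1 (x := r) (mem_centralizer_singleton_iff.1 hrg).symm
      hRc (orderOf_dvd_iff_pow_eq_one.1 (orderOf_dvd_natCard R hr))
    have : τ ∈ M := hr
    rw [hbot, mem_bot] at this
    rw [this, map_one]
    exact one_mem _
  rcases hcases with hK | ⟨hK, hR2, ⟨p, hpK, hp, hgp⟩, φ, hφ⟩
  · left
    by_cases hbot : M = ⊥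
    · rwa [hRV hbot, hh.card_V] at hK
    exfalso
    obtain ⟨m, hm, hm1⟩ : ∃ m ∈ M, m ≠ 1 := by
      by_contra hne
      push Not at hne
      exact hbot ((eq_bot_iff_forall _).2 hne)
    have hall : ∀ x ∈ Ml, F.f 1 x ∈ K := by
      intro x hx
      have h := Ml_closed m (hMl hm) hm1 x hx
      simp only [List.mem_cons, List.not_mem_nil, or_false] at h
      refine hRK ?_
      rcases h with rfl | rfl | rfl | rfl
      · rw [map_one]; exact one_mem R
      · exact hm
      · exact hMn m hm _ hcK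
      · have := hMn m hm _ (show F.f 1 Six.B0⁻¹ ∈ K by rw [map_inv]; exact inv_mem hcK)
        rwa [inv_inv] at this
    -- both four groups lie in the centralizer of the four group of the second kind
    have hdlK : F.f 1 dl ∈ K := by
      rw [show dl = wl * ml from by decide +kernel, map_mul]
      exact mul_mem hwK (hall ml (by decide +kernel))
    have hWK : F.Wd ≤ K := by
      rintro _ ⟨τ, hτ, rfl⟩
      rw [SetLike.mem_coe, mem_Dl] at hτ
      simp only [List.mem_cons, List.not_mem_nil, or_false] at hτ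
      rcases hτ with rfl | rfl | rfl | rfl
      · rw [map_one]; exact one_mem _
      · exact hwK
      · exact hdlK
      · rw [map_mul]; exact mul_mem hwK hdlK
    have hWW : F.Wd ≤ centralizer (F.Wd : Set G) := by
      rintro _ ⟨σ, hσ, rfl⟩
      refine mem_centralizer_iff.2 ?_
      rintro _ ⟨τ, hτ, rfl⟩
      rw [← map_mul, ← map_mul, commutes.2.2 τ hτ σ hσ]
    have hVW : F.Vc ≤ centralizer (F.Wd : Set G) := fun v hv => mem_centralizer_iff.2 fun w hw =>
      (mem_centralizer_iff.1 (hWK hw) v hv).symm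
    let ψ : F.Vc × F.Wd →* centralizer (F.Wd : Set G) :=
      MonoidHom.noncommCoprod (inclusion hVW) (inclusion hWW) fun v w =>
        Subtype.ext (mem_centralizer_iff.1 (hVW v.2) _ w.2).symm
    have hψ : Function.Injective ψ := by
      rw [injective_iff_map_eq_one]
      rintro ⟨v, w⟩ hvw
      have e : (v : G) * (w : G) = 1 := congrArg Subtype.val hvw
      obtain ⟨σ, hσ, hσe⟩ := w.2
      have hw1 : (w : G) = 1 := by
        have hwv : (w : G) = (v : G)⁻¹ := eq_inv_of_mul_eq_one_right e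
        have hc : Commute (C.θ jC) (w : G) := by
          rw [hwv]
          obtain ⟨τ, -, hτe⟩ := v.2
          rw [← hτe]
          exact (F.f_comm 2 τ).inv_right
        rw [← hσe, F.f_agree 1 _ _ hc1] at hc
        have hσB : σ * Six.B0 = Six.B0 * σ := F.f_inj 1 (by rw [map_mul, map_mul]; exact hc.symm.eq)
        rw [← hσe, norm_Dl.2.2.2 σ hσ hσB, map_one]
      rw [hw1, mul_one] at e
      exact Prod.ext (Subtype.ext e) (Subtype.ext hw1)
    have h16 := Subgroup.card_dvd_of_injective ψ hψ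
    rw [Nat.card_prod, F.card_Vc, Wd, card_map_of_injective (F.f_inj 1), show Nat.card Dl = 4 from card_four _ _ _ cards.2.2.1] at h16
    exact absurd (h16.trans F.card_cent_Wd) (by norm_num)
  right
  obtain ⟨τp, hτp5, hpτ⟩ := F.cent_coprime 1 (x := p) hgp (n := 5) (by norm_num)
    (hp ▸ pow_orderOf_eq_one p)
  subst hpτ
  have hp1 : τp ≠ 1 := fun e => by rw [e, map_one, orderOf_one] at hp; norm_num at hp
  have hτp : τp * τp * (τp * τp) * τp = 1 := by
    rw [← hτp5]; simp only [pow_succ, pow_zero, one_mul, mul_assoc]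
  have hbot : M = ⊥ := by
    refine (eq_bot_iff_forall _).2 fun m hm => ?_
    by_contra hm1
    obtain ⟨x, hx, hxn⟩ := five_not_norm τp hτp hp1
    refine hxn (hMl (hMn x ?_ τp hpK))
    have h := Ml_closed m (hMl hm) hm1 x hx
    simp only [List.mem_cons, List.not_mem_nil, or_false] at h
    rcases h with rfl | rfl | rfl | rfl
    · exact one_mem M
    · exact hm
    · exact hMn m hm _ hcK
    · have := hMn m hm _ (show F.f 1 Six.B0⁻¹ ∈ K by rw [map_inv]; exact inv_mem hcK)
      rwa [inv_inv] at this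
  have hR := hRV hbot
  subst hR
  rw [hh.card_V] at hK
  set U : Subgroup A6 := K.comap (F.f 1) with hU
  set χ : U →* alternatingGroup (Fin 5) := φ.comp
    (((F.f 1).comp U.subtype).codRestrict K fun σ => σ.2) with hχ
  have hχi : Function.Injective χ := by
    rw [injective_iff_map_eq_one]
    intro σ hσ
    have hV : F.f 1 σ ∈ F.Vc := (hφ _).1 hσ
    have h1 : F.f 1 σ = 1 := hh.g_fix _ hV (hb σ).eq
    exact Subtype.ext (F.f_inj 1 (h1.trans (map_one _).symm))
  have hfix : ∀ σ ∈ U, (σ : Perm (Fin 6)) 5 = 5 := by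
    have hp5 : ∀ q ∈ U, q * q * (q * q) * q = 1 → q ≠ 1 → (q : Perm (Fin 6)) 5 = 5 := by
      intro q hq hq5 hq1
      refine (five_fix q hq5 hq1).resolve_right ?_
      rintro ⟨x, hx, hx4, hx2⟩
      have hxU : x ∈ U := by
        have hB : Six.B0 ∈ U := hcK
        have hw : wl ∈ U := hwK
        simp only [List.mem_cons, List.not_mem_nil, or_false] at hx
        rcases hx with rfl | rfl | rfl | rfl | rfl | rfl | rfl | rfl | rfl | rfl <;>
          first
            | exact mul_mem hq hB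
            | exact mul_mem hq hw
            | exact mul_mem (mul_mem hq hB) hw
            | exact mul_mem (mul_mem hq hq) hB
            | exact mul_mem (mul_mem hq hq) hw
            | exact mul_mem (mul_mem (mul_mem hq hq) hB) hw
            | exact mul_mem (mul_mem (mul_mem hq hB) hq) hw
            | exact mul_mem (mul_mem (mul_mem hq hB) hq) hB
            | exact mul_mem (mul_mem (mul_mem hq hw) hq) hw
            | exact mul_mem (mul_mem (mul_mem (mul_mem hq hB) hq) hq) hw
      have e4 : (⟨x, hxU⟩ : U) * ⟨x, hxU⟩ * (⟨x, hxU⟩ * ⟨x, hxU⟩) = 1 := Subtype.ext hx4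
      have h4 := five_orders (χ ⟨x, hxU⟩) (by rw [← map_mul, ← map_mul, e4, map_one])
      rw [← map_mul] at h4
      exact hx2 (congrArg Subtype.val (hχi (h4.trans (map_one χ).symm)))
    intro σ hσ
    have hp' := hp5 τp hpK hτp hp1
    set q := σ * τp * σ⁻¹
    have hq5 := hp5 q (mul_mem (mul_mem hσ hpK) (inv_mem hσ))
      (by rw [show q * q * (q * q) * q = σ * (τp * τp * (τp * τp) * τp) * σ⁻¹ by
            simp only [q]; group, hτp, mul_one, mul_inv_cancel])
      (fun e => hp1 (conj_eq_one_iff.1 e))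
    have h5 : (τp : Perm (Fin 6)) ((σ : Perm (Fin 6))⁻¹ 5) = (σ : Perm (Fin 6))⁻¹ 5 := by
      have h := congrArg ((σ : Perm (Fin 6))⁻¹ : Perm (Fin 6)) hq5
      simp only [q, Subgroup.coe_mul, InvMemClass.coe_inv, Perm.mul_apply] at h
      rwa [Perm.inv_def, Equiv.symm_apply_apply] at h
    have h5' := five_unique τp hτp hp1 _ hp' h5
    rw [Perm.inv_def, Equiv.symm_apply_eq] at h5'
    exact h5'.symm
  have h5U : 5 ∣ Nat.card U := by
    have := orderOf_dvd_natCard U (show τp ∈ U from hpK)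
    rwa [orderOf_injective _ (F.f_inj 1) τp |>.symm.trans hp] at this
  have h3U : 3 ∣ Nat.card U := by
    have := orderOf_dvd_natCard U (show Six.B0 ∈ U from hcK)
    rwa [orderOf_eq_prime (p := 3) (by decide +kernel) (by decide +kernel)] at this
  have h2U : 2 ∣ Nat.card U := by
    have := orderOf_dvd_natCard U (show wl ∈ U from hwK)
    rwa [orderOf_eq_prime (p := 2) (by decide +kernel) (by decide +kernel)] at this
  have hχs : χ.range = ⊤ := by
    have hc : Nat.card χ.range = Nat.card U := Nat.card_congr (MonoidHom.ofInjective hχi).toEquiv.symm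
    have h30 : 30 ∣ Nat.card χ.range := by
      rw [hc]
      exact Nat.Coprime.mul_dvd_of_dvd_of_dvd (by norm_num : Nat.Coprime 6 5)
        (Nat.Coprime.mul_dvd_of_dvd_of_dvd (by norm_num : Nat.Coprime 2 3) h2U h3U) h5U
    haveI := alternatingGroup.isSimpleGroup (α := Fin 5) (by simp)
    have h60 : Nat.card (alternatingGroup (Fin 5)) = 60 := by
      rw [nat_card_alternatingGroup, Nat.card_fin]; rfl
    obtain ⟨k, hk⟩ := h30
    have hmul := χ.range.card_mul_index
    rw [h60, hk, mul_assoc] at hmul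
    have hkj : k * χ.range.index = 2 := by omega
    have hidx : χ.range.index = 1 ∨ χ.range.index = 2 :=
      (Nat.dvd_prime Nat.prime_two).1 (Dvd.intro_left k hkj)
    rcases hidx with h1 | h2
    · exact index_eq_one.1 h1
    · haveI := normal_of_index_eq_two h2
      refine ((inferInstance : χ.range.Normal).eq_bot_or_eq_top).resolve_left fun h0 => ?_
      rw [h0, card_bot] at hk
      omega
  have hUc : Nat.card U = 60 := by
    rw [Nat.card_congr (MonoidHom.ofInjective hχi).toEquiv, hχs, card_top, nat_card_alternatingGroup,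
      Nat.card_fin]
    rfl
  have hUfix : ∀ σ : A6, (σ : Perm (Fin 6)) 5 = 5 → σ ∈ U := by
    intro σ hσ
    haveI := Fintype.ofFinite U
    have hsub : (U : Set A6).toFinset ⊆ Finset.univ.filter fun σ : A6 => (σ : Perm (Fin 6)) 5 = 5 := by
      intro x hx
      simp only [Set.mem_toFinset, SetLike.mem_coe] at hx
      simpa using hfix x hx
    have heq := Finset.eq_of_subset_of_card_le hsub (by
      rw [stab_card, Set.toFinset_card, ← Nat.card_eq_fintype_card]
      exact hUc.ge)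
    have : σ ∈ (U : Set A6).toFinset := by rw [heq]; simpa using hσ
    simpa using this
  have hcomm : ∀ τ ∈ Vl, ∀ σ : A6, (σ : Perm (Fin 6)) 5 = 5 → Commute (F.f 2 τ) (F.f 1 σ) :=
    fun τ hτ σ hσ => mem_centralizer_iff.1 (hUfix σ hσ : F.f 1 σ ∈ K) _ ⟨τ, hτ, rfl⟩
  refine ⟨hcomm, fun x hx => ?_⟩
  let ψ : F.Vc × U →* K := MonoidHom.noncommCoprod (inclusion hh.V_le)
    (((F.f 1).comp U.subtype).codRestrict K fun σ => σ.2)
    fun v σ => Subtype.ext (mem_centralizer_iff.1 (σ.2 : F.f 1 σ ∈ K) v v.2)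
  have hψ : Function.Injective ψ := by
    rw [injective_iff_map_eq_one]
    rintro ⟨v, σ⟩ he
    have e : (v : G) * F.f 1 σ = 1 := congrArg Subtype.val he
    have hV : F.f 1 σ ∈ F.Vc := by rw [eq_inv_of_mul_eq_one_right e]; exact inv_mem v.2
    have h1 : F.f 1 σ = 1 := hh.g_fix _ hV (hb σ).eq
    rw [h1, mul_one] at e
    exact Prod.ext (Subtype.ext e) (Subtype.ext (F.f_inj 1 (h1.trans (map_one _).symm)))
  have hψs : Function.Surjective ψ := (hψ.bijective_of_nat_card_le (by
    rw [hK, Nat.card_prod, F.card_Vc, hUc])).2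
  obtain ⟨⟨⟨_, τ, hτ, rfl⟩, σ⟩, hvσ⟩ := hψs ⟨x, hx⟩
  exact ⟨τ, hτ, σ, hfix σ σ.2, (congrArg Subtype.val hvσ).symm⟩

end Ctx.Frame

end Cfsg.Agent.Recog.AltNine
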