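import Cfsg.Agent.Lib.Recog.AltNine.FoursData

/-!
Finite facts about the code group next to the copies of degree six.
-/

set_option autoImplicit false
set_option maxRecDepth 100000

namespace Cfsg.Agent.Recog.AltNine

open Equiv Cfsg.Agent.Recog.MonoCube Cfsg.Agent.Recog.MonoCube.W

namespace Fours

theorem cent_card : ∀ v : W, inJ v = true → wt v = 2 ∨ wt v = 3 →
    (Finset.univ.filter fun w : W => w * v = v * w).card ∣ 162 := by decide +kernel

theorem wt_conj_aux : ∀ u : W, inJ u = true → ∀ w : W, wt (w * u * w⁻¹) = wt u := by decide +kernel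

theorem wt_conj : ∀ w u : W, inJ u = true → wt (w * u * w⁻¹) = wt u := fun w u hu => wt_conj_aux u hu w

theorem jB_pow : ∀ m : Fin 3, ∀ τ : A6, toPerm (Code.pw3 jB m) = ek 1 τ → m = 0 := by decide +kernel

theorem cent_six : ∀ τ : A6, τ * Six.B0 = Six.B0 * τ → τ * wl = wl * τ → τ = 1 := by decide +kernel

end Fours

end Cfsg.Agent.Recog.AltNine
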