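import Cfsg.Agent.Lib.Recog.AltNine.SixData

/-!
Finite facts about the four groups in the three copies of degree six.
-/

set_option autoImplicit false
set_option maxRecDepth 100000

namespace Cfsg.Agent.Recog.AltNine

open Equiv Cfsg.Agent.Recog.MonoCube Cfsg.Agent.Recog.MonoCube.W

namespace Fours

def v1 : A6 := ⟨swap 2 3 * swap 4 5, Perm.mem_alternatingGroup.2 (by decide)⟩
def v2 : A6 := ⟨swap 2 4 * swap 3 5, Perm.mem_alternatingGroup.2 (by decide)⟩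
def wl : A6 := ⟨swap 1 2 * swap 3 4, Perm.mem_alternatingGroup.2 (by decide)⟩
def wl2 : A6 := ⟨swap 1 3 * swap 2 4, Perm.mem_alternatingGroup.2 (by decide)⟩
def dl : A6 := ⟨swap 3 4 * swap 0 5, Perm.mem_alternatingGroup.2 (by decide)⟩
def ml : A6 := ⟨swap 0 5 * swap 1 2, Perm.mem_alternatingGroup.2 (by decide)⟩
def ml2 : A6 := ⟨swap 0 1 * swap 5 2, Perm.mem_alternatingGroup.2 (by decide)⟩
def gl : A6 := ⟨swap 3 5 * swap 5 1 * (swap 4 0 * swap 0 2), Perm.mem_alternatingGroup.2 (by decide)⟩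

/-- A four group given by two elements. -/
def inFour (a b τ : A6) : Bool := decide (τ = 1) || decide (τ = a) || decide (τ = b) || decide (τ = a * b)

theorem four_closed : ∀ p ∈ [(v1, v2), (wl, wl2), (wl, dl), (ml, ml2)],
    inFour p.1 p.2 1 = true ∧ ∀ σ ∈ [1, p.1, p.2, p.1 * p.2], ∀ τ ∈ [1, p.1, p.2, p.1 * p.2],
      inFour p.1 p.2 (σ * τ) = true ∧ σ⁻¹ = σ ∧ σ * τ = τ * σ := by decide +kernel

/-- The subgroup of a four group. -/
def fourGrp (a b : A6) (h : (a, b) ∈ [(v1, v2), (wl, wl2), (wl, dl), (ml, ml2)]) : Subgroup A6 where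
  carrier := {τ | τ ∈ [1, a, b, a * b]}
  one_mem' := by simp
  mul_mem' {σ τ} hσ hτ := by
    have := ((four_closed (a, b) h).2 σ hσ τ hτ).1
    simpa [inFour, or_assoc] using this
  inv_mem' {σ} hσ := by
    show σ⁻¹ ∈ [1, a, b, a * b]
    rw [((four_closed (a, b) h).2 σ hσ σ hσ).2.1]
    exact hσ

/-- The regular four group of the last copy. -/
def Vl : Subgroup A6 := fourGrp v1 v2 (by simp)
/-- The regular four group of the middle copy. -/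
def Wl : Subgroup A6 := fourGrp wl wl2 (by simp)
/-- The other four group of the middle copy. -/
def Dl : Subgroup A6 := fourGrp wl dl (by simp)
/-- A second regular four group of the middle copy. -/
def Ml : Subgroup A6 := fourGrp ml ml2 (by simp)

theorem mem_Vl {τ : A6} : τ ∈ Vl ↔ τ ∈ [1, v1, v2, v1 * v2] := Iff.rfl
theorem mem_Wl {τ : A6} : τ ∈ Wl ↔ τ ∈ [1, wl, wl2, wl * wl2] := Iff.rfl
theorem mem_Dl {τ : A6} : τ ∈ Dl ↔ τ ∈ [1, wl, dl, wl * dl] := Iff.rfl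
theorem mem_Ml {τ : A6} : τ ∈ Ml ↔ τ ∈ [1, ml, ml2, ml * ml2] := Iff.rfl

instance : DecidablePred (· ∈ Vl) := fun τ => decidable_of_iff' (τ ∈ [1, v1, v2, v1 * v2]) mem_Vl
instance : DecidablePred (· ∈ Wl) := fun τ => decidable_of_iff' (τ ∈ [1, wl, wl2, wl * wl2]) mem_Wl
instance : DecidablePred (· ∈ Dl) := fun τ => decidable_of_iff' (τ ∈ [1, wl, dl, wl * dl]) mem_Dl
instance : DecidablePred (· ∈ Ml) := fun τ => decidable_of_iff' (τ ∈ [1, ml, ml2, ml * ml2]) mem_Ml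

theorem cards : ([1, v1, v2, v1 * v2] : List A6).Nodup ∧ ([1, wl, wl2, wl * wl2] : List A6).Nodup ∧
    ([1, wl, dl, wl * dl] : List A6).Nodup ∧ ([1, ml, ml2, ml * ml2] : List A6).Nodup := by
  decide +kernel

theorem commutes : (∀ σ ∈ Vl, ∀ τ ∈ Vl, σ * τ = τ * σ) ∧ (∀ σ ∈ Wl, ∀ τ ∈ Wl, σ * τ = τ * σ) ∧
    (∀ σ ∈ Dl, ∀ τ ∈ Dl, σ * τ = τ * σ) := by decide +kernel

theorem cent_Vl : ∀ τ : A6, τ * v1 = v1 * τ → τ * v2 = v2 * τ → τ ∈ Vl := by decide +kernel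

theorem cent_Dl : ∀ τ : A6, τ * wl = wl * τ → τ * dl = dl * τ → τ ∈ Dl := by decide +kernel

theorem norm_Vl : (∀ τ ∈ Vl, Six.C0 * τ * Six.C0⁻¹ ∈ Vl) ∧
    ∀ τ ∈ Vl, Six.C0 * τ = τ * Six.C0 → τ = 1 := by decide +kernel

theorem norm_Dl : (∀ τ ∈ Dl, gl * τ * gl⁻¹ ∈ Dl) ∧ (∀ τ ∈ Dl, gl * τ = τ * gl → τ = 1) ∧
    gl * (gl * gl) = 1 ∧ ∀ τ ∈ Dl, τ * Six.B0 = Six.B0 * τ → τ = 1 := by
  decide +kernel

/-- The element of the code group acting as the first involution of the middle four groups. -/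
def wW : W := ⟨0, 1, 1, 0, 0⟩

theorem wW_facts : toPerm wW = ek 1 wl ∧ toPerm jB = ek 2 Six.C0 ∧ toPerm jC = ek 1 Six.B0 ∧
    toPerm jA = ek 1 Six.C0 ∧ toPerm jA = ek 2 Six.B0 ∧ toPerm jB = ek 0 Six.B0 ∧
    toPerm jC = ek 0 Six.C0 ∧
    (wW * jC * wW⁻¹ = jC * jC ∧ wW * jB * wW⁻¹ = jB) ∧
    ∀ τ ∈ Vl, toPerm wW * ek 2 τ * (toPerm wW)⁻¹ = ek 2 τ := by decide +kernel

theorem cent_wl : ∀ τ : A6, τ * wl = wl * τ → τ * τ * (τ * τ) * (τ * τ * (τ * τ)) = 1 := by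
  decide +kernel

theorem involution_conj : ∀ τ : A6, τ * τ = 1 → τ ≠ 1 → ∃ g : A6, g * τ * g⁻¹ = wl := by
  decide +kernel

theorem gl_conj : ∃ σ : A6, ∃ j : W, inJ j = true ∧ wt j = 2 ∧ wt (jB * j) = 3 ∧
    wt (jB * jB * j) = 3 ∧ σ * gl * σ⁻¹ = Six.B0 * Six.C0 ∧
    toPerm j = ek 1 (Six.B0 * Six.C0) := by
  refine ⟨?_, ⟨0, 0, 1, 0, 1⟩, ?_⟩
  · exact ⟨swap 0 3 * swap 3 1 * (swap 2 4 * swap 4 5), Perm.mem_alternatingGroup.2 (by decide)⟩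
  · decide +kernel

end Fours

end Cfsg.Agent.Recog.AltNine
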