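import Cfsg.Agent.Lib.Recog.AltNine.Six
import Cfsg.Agent.Lib.Recog.AltNine.Code

/-!
The data of the normalisation of a copy of the alternating group of degree six and the embeddings
of the three copies in degree nine.
-/

set_option autoImplicit false
set_option maxRecDepth 100000

namespace Cfsg.Agent.Recog.AltNine

open Equiv Cfsg.Agent.Recog.MonoCube Cfsg.Agent.Recog.MonoCube.W

/-- Elements of degree six on the last two blocks. -/
def e0 : A6 →* Perm (Fin 9) where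
  toFun τ := (finSumFinEquiv : Fin 3 ⊕ Fin 6 ≃ Fin 9).permCongr (Equiv.sumCongr 1 (τ : Perm (Fin 6)))
  map_one' := by ext x; simp [Equiv.permCongr_apply]
  map_mul' a b := by
    ext x
    simp only [Equiv.permCongr_apply, Perm.mul_apply, Equiv.symm_apply_apply]
    rcases (finSumFinEquiv : Fin 3 ⊕ Fin 6 ≃ Fin 9).symm x with i | i <;> rfl

/-- The shift of the blocks. -/
def gC (k : Fin 3) : W := ⟨![0, 1, 2] k, 0, 0, 0, 0⟩

/-- The three cycles. -/
def jK (k : Fin 3) : W := ![jA, jB, jC] k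

/-- The copy of degree six avoiding a block. -/
def ek (k : Fin 3) : A6 →* Perm (Fin 9) :=
  (MulAut.conj (toPerm (gC k))).toMonoidHom.comp e0

/-- The element of order four normalizing two blocks. -/
def qA : W := ⟨5, 2, 0, 0, 1⟩

namespace Six

/-- The images of the generators of Carmichael's presentation. -/
def img (B C e : A6) : Fin 4 → A6 := ![B, e, C * e * C⁻¹, C⁻¹ * e * C]

/-- The conditions for a homomorphism. -/
def Good (B C e : A6) : Prop :=
  (∀ i, img B C e i * (img B C e i * img B C e i) = 1) ∧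
    (∀ i j, i ≠ j → img B C e i * img B C e j * (img B C e i * img B C e j) = 1) ∧
      img B C e 1 * img B C e 2 * img B C e 3 * img B C e 1 * img B C e 2 = C

instance (B C e : A6) : Decidable (Good B C e) := inferInstanceAs (Decidable (_ ∧ _))

theorem good_all : Good B0 C0 E0 ∧ Good B0 C0⁻¹ E0 ∧ Good D0 D1 Eout ∧ Good D0 D1⁻¹ Eout := by
  decide +kernel

theorem word_C0 : sixPts.altCongrHom (Cfsg.Agent.Lie.Carmichael.cyc (1 : Fin 4)) *
    sixPts.altCongrHom (Cfsg.Agent.Lie.Carmichael.cyc (2 : Fin 4)) *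
    sixPts.altCongrHom (Cfsg.Agent.Lie.Carmichael.cyc (3 : Fin 4)) *
    sixPts.altCongrHom (Cfsg.Agent.Lie.Carmichael.cyc (1 : Fin 4)) *
    sixPts.altCongrHom (Cfsg.Agent.Lie.Carmichael.cyc (2 : Fin 4)) = C0 := by
  decide +kernel

theorem basicS : S0 * S0 = 1 ∧ S0 * B0 * S0⁻¹ = B0⁻¹ ∧ S0 * C0 * S0⁻¹ = C0⁻¹ ∧ B0 ≠ 1 ∧
    B0 * (B0 * B0) = 1 := by
  decide +kernel

end Six

namespace Code

/-- The element inverting the last two cycles. -/
def sA : W := ⟨0, 2, 0, 1, 1⟩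

theorem sA_facts : sA * sA = 1 ∧ sA * jA = jA * sA ∧ sA * jB * sA⁻¹ = jB⁻¹ ∧
    sA * jC * sA⁻¹ = jC⁻¹ ∧ qA * jA = jA * qA ∧ qA * jB * qA⁻¹ = jC⁻¹ ∧
    qA * qA * (qA * qA) = 1 ∧ jB * jA = jA * jB ∧ jC * jA = jA * jC := by decide +kernel

theorem e0_vals : toPerm jB = e0 Six.B0 ∧ toPerm jC = e0 Six.C0 ∧ toPerm sA = e0 Six.S0 := by
  decide +kernel

theorem qA_perm : ∃ τ : A6, toPerm qA = e0 τ ∧
    τ * Six.B0 * τ⁻¹ = Six.C0⁻¹ := by decide +kernel

theorem fix_words : ∀ w : W, (toPerm w 0 = 0 ∧ toPerm w 1 = 1 ∧ toPerm w 2 = 2) →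
    ∃ i j : Fin 3, ∃ k : Fin 4, w = pw3 jB i * pw3 jC j *
      (![1, qA, qA * qA, qA * qA * qA] : Fin 4 → W) k := by decide +kernel

theorem gC_facts : gC 0 = 1 ∧ ∀ k, gC k * jA * (gC k)⁻¹ = jK k := by decide +kernel

end Code

end Cfsg.Agent.Recog.AltNine
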