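import Cfsg.Agent.Lib.Recog.AltNine.Cent
import Cfsg.Agent.Lib.Recog.AltNine.AltLift
import Cfsg.Agent.Lib.Recog.AltNine.SixData

/-!
When the centralizer of the first cycle is three times the alternating group of degree six, the
latter is embedded in the group compatibly with the code group.
-/

set_option autoImplicit false
set_option linter.style.haveILetI false
set_option linter.unusedSectionVars false

namespace Cfsg.Agent.Recog.AltNine

open Cfsg Subgroup Equiv Cfsg.Agent.Recog.MonoCube Cfsg.Agent.Recog.MonoCube.W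

open scoped commutatorElement

universe u

theorem nat_card_fin_six : 5 ≤ Nat.card (Fin 6) := by simp

theorem commutator_A6 : commutator A6 = ⊤ := by
  haveI := alternatingGroup.isSimpleGroup (α := Fin 6) nat_card_fin_six
  rcases (inferInstance : (commutator A6).Normal).eq_bot_or_eq_top with h | h
  · exfalso
    have hc : ∀ x y : A6, x * y = y * x := fun x y => by
      have : ⁅x, y⁆ ∈ commutator A6 := Subgroup.commutator_mem_commutator (mem_top x) (mem_top y)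
      rw [h, mem_bot, commutatorElement_eq_one_iff_mul_comm] at this
      exact this
    exact absurd (hc Six.B0 Six.S0) (by decide +kernel)
  · exact h

theorem center_A6 {z : A6} (h : ∀ x : A6, x * z = z * x) : z = 1 := by
  have h' : z ∈ center A6 := mem_center_iff.2 h
  rwa [alternatingGroup.center_eq_bot (by simp), mem_bot] at h'

/-- A homomorphism of degree six with prescribed values. -/
theorem exists_endo {B C e : A6} (h : Six.Good B C e) :
    ∃ φ : A6 →* A6, φ Six.B0 = B ∧ φ Six.C0 = C := by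
  obtain ⟨h3, h2, hw⟩ := h
  obtain ⟨f, hf⟩ := exists_lift (x := Six.img B C e)
    (fun i => by rw [pow_succ, pow_two, mul_assoc]; exact h3 i)
    (fun i j hij => by rw [pow_two]; exact h2 i j hij)
  set φ := f.comp sixPts.altCongrHom.symm.toMonoidHom with hφ
  have hv : ∀ i, φ (sixPts.altCongrHom (Agent.Lie.Carmichael.cyc i)) = Six.img B C e i := fun i => by
    rw [← hf i, hφ, MonoidHom.comp_apply]
    exact congrArg f (MulEquiv.symm_apply_apply _ _)
  refine ⟨φ, ?_, ?_⟩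
  · rw [← Six.cyc_vals.1, hv]; rfl
  · rw [← Six.word_C0, map_mul, map_mul, map_mul, map_mul, hv, hv, hv, hw]

/-- Two commuting elements of order three, conjugate up to inversion, are the images of the standard
two under an endomorphism. -/
theorem exists_pair {B C q : A6} (hB : B * (B * B) = 1) (hB1 : B ≠ 1) (hC : C * (C * C) = 1)
    (hC1 : C ≠ 1) (hBC : C * B = B * C) (hne : C ≠ B) (hne' : C ≠ B⁻¹) (hq : q * B * q⁻¹ = C⁻¹) :
    ∃ φ : A6 →* A6, φ Six.B0 = B ∧ φ Six.C0 = C := by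
  obtain ⟨g, hg⟩ := Six.classes B hB hB1
  set C' := g * C * g⁻¹ with hC'
  have h3 : C' * (C' * C') = 1 := by
    rw [show C' * (C' * C') = g * (C * (C * C)) * g⁻¹ by rw [hC']; group, hC, mul_one, mul_inv_cancel]
  have hcomm : C' * (g * B * g⁻¹) = g * B * g⁻¹ * C' := by
    rw [hC', show g * C * g⁻¹ * (g * B * g⁻¹) = g * (C * B) * g⁻¹ by group, hBC]
    group
  have hk : g * q * g⁻¹ * (g * B * g⁻¹) * (g * q * g⁻¹)⁻¹ = C'⁻¹ := by
    rw [show g * q * g⁻¹ * (g * B * g⁻¹) * (g * q * g⁻¹)⁻¹ = g * (q * B * q⁻¹) * g⁻¹ by group, hq,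
      hC']
    group
  have hcancel : ∀ {x y : A6}, g * x * g⁻¹ = g * y * g⁻¹ → x = y := fun h =>
    mul_left_cancel (mul_right_cancel h)
  have m1 : C' ≠ 1 := fun h => hC1 (hcancel (by rw [← hC', h, mul_one, mul_inv_cancel]))
  have m2 : C' ≠ g * B * g⁻¹ := fun h => hne (hcancel h)
  have m3 : C' ≠ (g * B * g⁻¹)⁻¹ := fun h => hne' (hcancel (by rw [← hC', h]; group))
  have back : ∀ {X Y e : A6}, g * B * g⁻¹ = X → C' = Y → Six.Good X Y e →
      ∃ φ : A6 →* A6, φ Six.B0 = B ∧ φ Six.C0 = C := by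
    intro X Y e hX hY hgood
    obtain ⟨φ, h1, h2⟩ := exists_endo hgood
    refine ⟨(MulAut.conj g⁻¹).toMonoidHom.comp φ, ?_, ?_⟩
    · show g⁻¹ * φ Six.B0 * g⁻¹⁻¹ = B
      rw [h1, ← hX]; group
    · show g⁻¹ * φ Six.C0 * g⁻¹⁻¹ = C
      rw [h2, ← hY, hC']; group
  set k := g * q * g⁻¹
  have invs : (Six.B0 * Six.C0)⁻¹ = Six.B0⁻¹ * Six.C0⁻¹ ∧ (Six.B0 * Six.C0⁻¹)⁻¹ = Six.B0⁻¹ * Six.C0 ∧
      (Six.B0⁻¹ * Six.C0)⁻¹ = Six.B0 * Six.C0⁻¹ ∧ (Six.B0⁻¹ * Six.C0⁻¹)⁻¹ = Six.B0 * Six.C0 ∧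
      (Six.D0 * Six.D1)⁻¹ = Six.D0⁻¹ * Six.D1⁻¹ ∧ (Six.D0 * Six.D1⁻¹)⁻¹ = Six.D0⁻¹ * Six.D1 ∧
      (Six.D0⁻¹ * Six.D1)⁻¹ = Six.D0 * Six.D1⁻¹ ∧ (Six.D0⁻¹ * Six.D1⁻¹)⁻¹ = Six.D0 * Six.D1 := by
    decide +kernel
  obtain ⟨i1, i2, i3, i4, j1, j2, j3, j4⟩ := invs
  obtain ⟨g1, g2, g3, g4⟩ := Six.good_all
  rcases hg with hg | hg
  · rw [hg] at hcomm hk m2 m3
    obtain ⟨f1, f2, f3, f4⟩ := Six.fixed_std k
    rcases Six.cent_B0 C' h3 hcomm with h | h | h | h | h | h | h | h | h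
    exacts [absurd h m1, absurd h m2, absurd h m3, back hg h g1, back hg h g2,
      absurd (hk.trans ((congrArg (·⁻¹) h).trans i1)) f4,
      absurd (hk.trans ((congrArg (·⁻¹) h).trans i2)) f3,
      absurd (hk.trans ((congrArg (·⁻¹) h).trans i3)) f2,
      absurd (hk.trans ((congrArg (·⁻¹) h).trans i4)) f1]
  · rw [hg] at hcomm hk m2 m3
    obtain ⟨f1, f2, f3, f4⟩ := Six.fixed_out k
    rcases Six.cent_D0 C' h3 hcomm with h | h | h | h | h | h | h | h | h
    exacts [absurd h m1, absurd h m2, absurd h m3, back hg h g3, back hg h g4,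
      absurd (hk.trans ((congrArg (·⁻¹) h).trans j1)) f4,
      absurd (hk.trans ((congrArg (·⁻¹) h).trans j2)) f3,
      absurd (hk.trans ((congrArg (·⁻¹) h).trans j3)) f2,
      absurd (hk.trans ((congrArg (·⁻¹) h).trans j4)) f1]

/-- Injective homomorphisms of degree six with the same image agreeing on three elements. -/
theorem six_rigid {G : Type*} [Group G] {f g : A6 →* G} (hg : Function.Injective g)
    (hr : f.range ≤ g.range) (hB : f Six.B0 = g Six.B0) (hC : f Six.C0 = g Six.C0)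
    (hS : f Six.S0 = g Six.S0) : f = g := by
  obtain ⟨e, he⟩ := hr ⟨Six.E5, rfl⟩
  obtain ⟨⟨r1, r2, r3⟩, r4⟩ := Six.E5_rel
  have hrel : Six.Rel Six.B0 Six.C0 e := by
    refine ⟨hg ?_, hg ?_, hg ?_⟩
    · simp only [map_mul, map_one, he]
      simp only [← map_mul, r1, map_one]
    · simp only [map_mul, map_one, he, ← hB]
      simp only [← map_mul, r2, map_one]
    · simp only [map_mul, map_inv, he, ← hC, map_one]
      simp only [← map_inv, ← map_mul, r3, map_one]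
  have hinv : Six.S0 * e * Six.S0 = e⁻¹ := hg (by
    simp only [map_mul, map_inv, he, ← hS]
    rw [← map_inv]
    simp only [← map_mul]
    rw [r4])
  have hE : f Six.E5 = g Six.E5 := by rw [← he, Six.unique e hrel hinv]
  refine MonoidHom.eq_of_eqOn_dense six_closure ?_
  intro x hx
  simp only [Set.mem_insert_iff, Set.mem_singleton_iff] at hx
  rcases hx with rfl | rfl | rfl
  exacts [hB, hC, hE]

theorem e0_injective : Function.Injective e0 := by
  intro a b h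
  refine Subtype.ext (Equiv.ext fun i => ?_)
  have := DFunLike.congr_fun h (finSumFinEquiv (Sum.inr i))
  simpa [e0, Equiv.permCongr_apply] using this

theorem e0_fix (τ : A6) (i : Fin 3) : e0 τ (finSumFinEquiv (Sum.inl i : Fin 3 ⊕ Fin 6)) =
    finSumFinEquiv (Sum.inl i : Fin 3 ⊕ Fin 6) := by
  simp [e0, Equiv.permCongr_apply]

/-- The even permutations fixing the first block. -/
theorem e0_range {π : Perm (Fin 9)} (hfix : ∀ i : Fin 3,
    π (finSumFinEquiv (Sum.inl i : Fin 3 ⊕ Fin 6)) = finSumFinEquiv (Sum.inl i : Fin 3 ⊕ Fin 6))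
    (hs : Perm.sign π = 1) :
    ∃ σ : A6, e0 σ = π := by
  set e := (finSumFinEquiv : Fin 3 ⊕ Fin 6 ≃ Fin 9) with he
  obtain ⟨⟨a, b⟩, hab⟩ := Perm.mem_sumCongrHom_range_of_perm_mapsTo_inl
    (σ := e.symm.permCongr π) (by
      rintro _ ⟨i, rfl⟩
      exact ⟨i, (e.eq_symm_apply.2 (by simpa [he] using (hfix i).symm))⟩)
  simp only [Perm.sumCongrHom_apply] at hab
  have ha : a = 1 := Equiv.ext fun i => by
    have h : (Sum.inl (a i) : Fin 3 ⊕ Fin 6) = e.symm (π (e (Sum.inl i))) :=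
      DFunLike.congr_fun hab (Sum.inl i)
    have h' := e.eq_symm_apply.1 h
    rw [hfix i] at h'
    simpa using Sum.inl_injective (e.injective h')
  subst ha
  have hπ : π = e.permCongr (Equiv.sumCongr 1 b) := Equiv.ext fun x => by
    have h := DFunLike.congr_fun hab (e.symm x)
    show π x = e (Equiv.sumCongr 1 b (e.symm x))
    rw [show Equiv.sumCongr 1 b (e.symm x) = e.symm.permCongr π (e.symm x) from h]
    simp [Equiv.permCongr_apply]
  have hb : Perm.sign b = 1 := by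
    rw [hπ, Perm.sign_permCongr, Perm.sign_sumCongr] at hs
    simpa using hs
  exact ⟨⟨b, Perm.mem_alternatingGroup.2 hb⟩, hπ.symm⟩

set_option maxRecDepth 100000 in
theorem block_stable : ∀ h : W, (h * jA * h⁻¹ = jA ∨ h * jA * h⁻¹ = jA * jA) → ∀ i : Fin 3,
    ∃ j : Fin 3, (toPerm h)⁻¹ (finSumFinEquiv (Sum.inl i : Fin 3 ⊕ Fin 6)) =
      finSumFinEquiv (Sum.inl j : Fin 3 ⊕ Fin 6) := by decide +kernel

namespace Ctx

open Code

variable {G : Type u} [Group G] [Finite G]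

/-- A copy of degree six in the centralizer of the first cycle, compatible with the code group. -/
structure Frame (C : Ctx G) where
  ι : A6 →* G
  inj : Function.Injective ι
  range_eq : ι.range = (commutator (C.cen jA)).map (C.cen jA).subtype
  cen : ∀ x ∈ C.cen jA, ∃ m τ, x = C.θ (pw3 jA m) * ι τ
  comm : ∀ τ, Commute (C.θ jA) (ι τ)
  agree : ∀ w τ, toPerm w = e0 τ → C.θ w = ι τ
  conj : ∀ h τ τ', (h * jA * h⁻¹ = jA ∨ h * jA * h⁻¹ = jA * jA) →
    toPerm h * e0 τ * (toPerm h)⁻¹ = e0 τ' → C.θ h * ι τ * (C.θ h)⁻¹ = ι τ'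

variable (C : Ctx G)

theorem exists_iota (hiso : Nonempty ((C.cen jA ⧸ C.line jA) ≃* A6)) : ∃ ι : A6 →* G,
    Function.Injective ι ∧ ι.range = (commutator (C.cen jA)).map (C.cen jA).subtype ∧
      ι Six.B0 = C.θ jB ∧ ι Six.C0 = C.θ jC ∧ ι Six.S0 = C.θ sA ∧ C.θ qA ∈ ι.range ∧
      ∀ x ∈ C.cen jA, ∃ m τ, x = C.θ (pw3 jA m) * ι τ := by
  classical
  haveI : Fact (Nat.Prime 3) := ⟨by norm_num⟩
  obtain ⟨hA, hB, hC, -, -, hwA, -, -, -, -, hA1, hB1, -⟩ := basic
  obtain ⟨eq⟩ := hiso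
  obtain ⟨hs2, hsA, hsB, hsC, hqA, hqB, hq4, hBA, hCA⟩ := sA_facts
  set X := C.cen jA with hX
  set Z := C.line jA with hZdef
  set π := QuotientGroup.mk' Z
  have hπs : Function.Surjective π := QuotientGroup.mk'_surjective _
  set E := commutator X with hEdef
  -- the commutator subgroup is a complement of the line
  have hcomm : commutator (X ⧸ Z) = ⊤ := by
    have h := Subgroup.map_commutator (⊤ : Subgroup A6) ⊤ eq.symm.toMonoidHom
    rw [Subgroup.map_top_of_surjective _ eq.symm.surjective] at h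
    show ⁅(⊤ : Subgroup (X ⧸ Z)), ⊤⁆ = ⊤
    rw [← h, show ⁅(⊤ : Subgroup A6), ⊤⁆ = ⊤ from commutator_A6,
      Subgroup.map_top_of_surjective _ eq.symm.surjective]
  have hEmap : E.map π = ⊤ := by
    rw [hEdef, _root_.commutator_def, Subgroup.map_commutator, Subgroup.map_top_of_surjective π hπs]
    exact hcomm
  have hdec : ∀ x : X, ∃ z ∈ Z, ∃ e ∈ E, x = z * e := by
    intro x
    obtain ⟨e, he, hee⟩ := (hEmap ▸ mem_top (π x) : π x ∈ E.map π)
    exact ⟨x * e⁻¹, (C.mk_eq_iff x e).1 hee.symm, e, he, (inv_mul_cancel_right x e).symm⟩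
  have hint : ∀ z ∈ Z, z ∈ E → z = 1 := by
    intro z hz hzE
    obtain ⟨T, hT⟩ := C.sylow_J hA (Or.inl hwA) (C.J_le_cen hA) le_rfl
    have hTc : ∀ a b : (T : Subgroup X), a * b = b * a := by
      intro a b
      have ha : (a : X) ∈ C.J.subgroupOf X := hT ▸ a.2
      have hb : (b : X) ∈ C.J.subgroupOf X := hT ▸ b.2
      obtain ⟨v, hv, hve⟩ := ha
      obtain ⟨w, hw, hwe⟩ := hb
      refine Subtype.ext (Subtype.ext ?_)
      show ((a : X) : G) * ((b : X) : G) = ((b : X) : G) * ((a : X) : G)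
      have := (C.inJ_commute hv hw).eq
      rw [hve, hwe] at this
      exact this
    letI : CommGroup (T : Subgroup X) :=
      { (inferInstance : Group (T : Subgroup X)) with mul_comm := hTc }
    set tr := MonoidHom.transfer (MonoidHom.id (T : Subgroup X))
    have hker : E ≤ tr.ker := Abelianization.commutator_subset_ker tr
    have h := MonoidHom.transfer_eq_pow (MonoidHom.id (T : Subgroup X)) z (fun k g _ => by
      have hc := C.line_central jA (z ^ k) (pow_mem hz k) g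
      rw [mul_assoc, hc, inv_mul_cancel_left])
    have h1 : z ^ (T : Subgroup X).index = 1 := by
      have := (hker hzE)
      rw [MonoidHom.mem_ker] at this
      exact congrArg Subtype.val (h.symm.trans this)
    have h3 : z ^ 3 = 1 := by
      obtain ⟨m, hm⟩ := C.mem_line hA hz
      exact Subtype.ext (by rw [Subgroup.coe_pow, hm]; exact C.cube_θ (inJ_pw3 jA hA m))
    refine orderOf_eq_one_iff.1 (Nat.eq_one_of_dvd_coprimes (a := 3) ?_ (orderOf_dvd_of_pow_eq_one h3)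
      (orderOf_dvd_of_pow_eq_one h1))
    exact (Nat.Prime.coprime_iff_not_dvd Nat.prime_three).2 T.not_dvd_index
  set ψ := (eq.toMonoidHom.comp π).comp E.subtype with hψ
  have hψi : Function.Injective ψ := by
    rw [injective_iff_map_eq_one]
    intro x hx
    have h1 : π (x : X) = 1 := eq.injective (by rw [map_one]; exact hx)
    exact Subtype.ext (hint _ ((QuotientGroup.eq_one_iff (x : X)).1 h1) x.2)
  have hψs : Function.Surjective ψ := by
    intro y
    obtain ⟨x, hx⟩ := eq.surjective y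
    obtain ⟨e, he, hee⟩ := (hEmap ▸ mem_top x : x ∈ E.map π)
    exact ⟨⟨e, he⟩, by rw [← hx, ← hee]; rfl⟩
  set eE : E ≃* A6 := MulEquiv.ofBijective ψ ⟨hψi, hψs⟩
  set ι₁ : A6 →* G := (X.subtype.comp E.subtype).comp eE.symm.toMonoidHom with hι₁
  have hι₁i : Function.Injective ι₁ :=
    (X.subtype_injective.comp E.subtype_injective).comp eE.symm.injective
  have hι₁r : ι₁.range = E.map X.subtype := by
    rw [hι₁, MonoidHom.range_comp, MonoidHom.range_eq_top.2 eE.symm.surjective,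
      ← Subgroup.map_map, ← MonoidHom.range_eq_map, Subgroup.range_subtype]
  -- elements of the commutator subgroup
  have hcube : ∀ x : X, x ^ 3 ∈ E := by
    intro x
    obtain ⟨z, hz, e, he, rfl⟩ := hdec x
    have hc : Commute z e := C.line_central jA z hz e
    obtain ⟨m, hm⟩ := C.mem_line hA hz
    rw [hc.mul_pow, show z ^ 3 = 1 from Subtype.ext (by
      rw [Subgroup.coe_pow, hm]; exact C.cube_θ (inJ_pw3 jA hA m)), one_mul]
    exact pow_mem he 3
  have hmem : ∀ w : W, w * jA = jA * w → C.θ w ∈ X := fun w hw =>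
    mem_centralizer_singleton_iff.2 (by rw [← map_mul, ← map_mul, hw])
  set xs : X := ⟨C.θ sA, hmem sA hsA⟩
  set xq : X := ⟨C.θ qA, hmem qA hqA⟩
  set xb : X := ⟨C.θ jB, hmem jB hBA⟩
  set xc : X := ⟨C.θ jC, hmem jC hCA⟩
  have hxs : xs ∈ E := by
    have h := hcube xs
    rwa [show xs ^ 3 = xs from Subtype.ext (by
      show C.θ sA ^ 3 = C.θ sA
      rw [← map_pow, pow_succ, pow_two, hs2, one_mul])] at h
  have hxq : xq ∈ E := by
    have h := pow_mem (hcube xq) 3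
    rwa [← pow_mul, show xq ^ (3 * 3) = xq from Subtype.ext (by
      show C.θ qA ^ 9 = C.θ qA
      rw [← map_pow, show qA ^ 9 = qA by decide +kernel])] at h
  have hinvmem : ∀ (j : W) (hj : inJ j = true) (hjX : j * jA = jA * j), sA * j * sA⁻¹ = j⁻¹ →
      (⟨C.θ j, hmem j hjX⟩ : X) ∈ E := by
    intro j hj hjX hsj
    have hj3 : j * j * j = 1 := (inJ_mul j hj j hj).2.2
    have hje : sA * j * sA⁻¹ * j⁻¹ = j := by
      rw [hsj]
      calc j⁻¹ * j⁻¹ = j⁻¹ * j⁻¹ * (j * j * j) := by rw [hj3, mul_one]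
        _ = j := by group
    have h : ⁅xs, (⟨C.θ j, hmem j hjX⟩ : X)⁆ ∈ E :=
      Subgroup.commutator_mem_commutator (mem_top _) (mem_top _)
    rwa [show ⁅xs, (⟨C.θ j, hmem j hjX⟩ : X)⁆ = ⟨C.θ j, hmem j hjX⟩ from Subtype.ext (by
      show C.θ sA * C.θ j * (C.θ sA)⁻¹ * (C.θ j)⁻¹ = C.θ j
      rw [← map_inv, ← map_inv, ← map_mul, ← map_mul, ← map_mul, hje])] at h
  have hxb : xb ∈ E := hinvmem jB hB hBA hsB
  have hxc : xc ∈ E := hinvmem jC hC hCA hsC
  have hι₁v : ∀ (x : X) (hx : x ∈ E), ι₁ (eE ⟨x, hx⟩) = (x : G) := fun x hx =>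
    congrArg (fun y : E => ((y : X) : G)) (eE.symm_apply_apply ⟨x, hx⟩)
  set B' := eE ⟨xb, hxb⟩
  set C' := eE ⟨xc, hxc⟩
  set S' := eE ⟨xs, hxs⟩
  set q' := eE ⟨xq, hxq⟩
  have vB : ι₁ B' = C.θ jB := hι₁v xb hxb
  have vC : ι₁ C' = C.θ jC := hι₁v xc hxc
  have vS : ι₁ S' = C.θ sA := hι₁v xs hxs
  have vq : ι₁ q' = C.θ qA := hι₁v xq hxq
  have kB : B' * (B' * B') = 1 := hι₁i (by
    rw [map_mul, map_mul, vB, map_one, ← map_mul, ← map_mul, ← mul_assoc,
      (inJ_mul jB hB jB hB).2.2, map_one])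
  have kB1 : B' ≠ 1 := fun h => hB1 (C.inj (by rw [← vB, h, map_one, map_one]))
  have kC : C' * (C' * C') = 1 := hι₁i (by
    rw [map_mul, map_mul, vC, map_one, ← map_mul, ← map_mul, ← mul_assoc,
      (inJ_mul jC hC jC hC).2.2, map_one])
  have kBC : C' * B' = B' * C' := hι₁i (by
    rw [map_mul, map_mul, vB, vC, (C.inJ_commute hC hB).eq])
  have kq : q' * B' * q'⁻¹ = C'⁻¹ := hι₁i (by
    rw [map_mul, map_mul, map_inv, map_inv, vB, vC, vq, ← map_inv, ← map_inv, ← map_mul,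
      ← map_mul, hqB])
  have nC : ∀ j : W, inJ j = true → C' ≠ B' ∧ C' ≠ B'⁻¹ ∧ C' ≠ 1 := fun _ _ =>
    ⟨fun h => by
      have := congrArg ι₁ h
      rw [vB, vC] at this
      exact absurd (C.inj this) (by decide +kernel),
     fun h => by
      have := congrArg ι₁ h
      rw [map_inv, vB, vC, ← map_inv] at this
      exact absurd (C.inj this) (by decide +kernel),
     fun h => by
      have := congrArg ι₁ h
      rw [vC, map_one, ← map_one C.θ] at this
      exact absurd (C.inj this) (by decide +kernel)⟩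
  obtain ⟨n1, n2, n3⟩ := nC jB hB
  obtain ⟨φ, hφB, hφC⟩ := exists_pair kB kB1 kC n3 kBC n1 n2 kq
  haveI := alternatingGroup.isSimpleGroup (α := Fin 6) nat_card_fin_six
  have hφi : Function.Injective φ := by
    rw [← MonoidHom.ker_eq_bot_iff]
    refine (φ.normal_ker.eq_bot_or_eq_top).resolve_right fun h => kB1 ?_
    rw [← hφB]
    exact MonoidHom.mem_ker.1 (h ▸ mem_top _)
  have hφs : Function.Surjective φ := Finite.injective_iff_surjective.1 hφi
  obtain ⟨s, hs⟩ := hφs S'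
  obtain ⟨bS2, bSB, bSC, -, -⟩ := Six.basicS
  have hsv : ι₁ (φ s) = C.θ sA := by rw [hs, vS]
  have hbv : ι₁ (φ Six.B0) = C.θ jB := by rw [hφB, vB]
  have hcv : ι₁ (φ Six.C0) = C.θ jC := by rw [hφC, vC]
  obtain ⟨t, ⟨htB, htC⟩, hts⟩ := Six.inverters s
    (hφi (hι₁i (by rw [map_mul, map_mul, hsv, ← map_mul, hs2, map_one, map_one, map_one])))
    (hφi (hι₁i (by
      simp only [map_mul, map_inv, hsv, hbv]
      rw [← map_inv, ← map_inv, ← map_mul, ← map_mul, hsB])))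
    (hφi (hι₁i (by
      simp only [map_mul, map_inv, hsv, hcv]
      rw [← map_inv, ← map_inv, ← map_mul, ← map_mul, hsC])))
  set ι : A6 →* G := ι₁.comp (φ.comp (MulAut.conj t).toMonoidHom) with hιdef
  have hιi : Function.Injective ι := hι₁i.comp (hφi.comp (MulAut.conj t).injective)
  have hιr : ι.range = E.map X.subtype := by
    rw [hιdef, MonoidHom.range_comp, MonoidHom.range_eq_top.2
      (hφs.comp (MulAut.conj t).surjective : Function.Surjective (φ.comp (MulAut.conj t).toMonoidHom)),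
      ← MonoidHom.range_eq_map, hι₁r]
  have iB : ι Six.B0 = C.θ jB := by
    show ι₁ (φ (t * Six.B0 * t⁻¹)) = _
    rw [htB, mul_inv_cancel_right, hbv]
  have iC : ι Six.C0 = C.θ jC := by
    show ι₁ (φ (t * Six.C0 * t⁻¹)) = _
    rw [htC, mul_inv_cancel_right, hcv]
  have iS : ι Six.S0 = C.θ sA := by
    show ι₁ (φ (t * Six.S0 * t⁻¹)) = _
    rw [hts, hsv]
  refine ⟨ι, hιi, hιr, iB, iC, iS, by rw [hιr]; exact ⟨xq, hxq, rfl⟩, fun x hx => ?_⟩
  obtain ⟨z, hz, e, he, hxe⟩ := hdec ⟨x, hx⟩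
  obtain ⟨m, hm⟩ := C.mem_line hA hz
  obtain ⟨σ, hσ⟩ := (hιr ▸ ⟨e, he, rfl⟩ : (e : G) ∈ ι.range)
  exact ⟨m, σ, by rw [← hm, hσ]; exact congrArg Subtype.val hxe⟩

theorem agree_of_iota {ι : A6 →* G} (hιi : Function.Injective ι) (iB : ι Six.B0 = C.θ jB)
    (iC : ι Six.C0 = C.θ jC) (iS : ι Six.S0 = C.θ sA) (hq_in : C.θ qA ∈ ι.range) :
    ∀ w τ, toPerm w = e0 τ → C.θ w = ι τ := by
  obtain ⟨τq, hτq, hτqB⟩ := qA_perm
  obtain ⟨v1, v2, v3⟩ := e0_vals
  obtain ⟨τ₀, hτ₀⟩ := hq_in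
  have hval : ∀ (v : W) (σ : A6), toPerm v = e0 σ → C.θ v = ι σ →
      ∀ v' σ', qA * v * qA⁻¹ = v' → toPerm v' = e0 σ' → τq * σ * τq⁻¹ = σ' := by
    intro v σ hv _ v' σ' hvv hv'
    refine e0_injective ?_
    rw [map_mul, map_mul, map_inv, ← hτq, ← hv, ← hv', ← hvv, map_mul, map_mul, map_inv]
  have hwords : ∀ v : W, (∃ i j : Fin 3, ∃ k : Fin 2,
      v = pw3 jB i * pw3 jC j * (![1, sA] : Fin 2 → W) k) →
      ∃ σ, toPerm v = e0 σ ∧ C.θ v = ι σ := by
    rintro v ⟨i, j, k, rfl⟩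
    have hp : ∀ (u : W) (σ : A6), toPerm u = e0 σ → C.θ u = ι σ → ∀ m : Fin 3,
        ∃ σ', toPerm (pw3 u m) = e0 σ' ∧ C.θ (pw3 u m) = ι σ' := by
      intro u σ h1 h2 m
      fin_cases m
      · exact ⟨1, by simp [pw3], by simp [pw3]⟩
      · exact ⟨σ, by simpa [pw3] using h1, by simpa [pw3] using h2⟩
      · exact ⟨σ * σ, by simp [pw3, map_mul, h1], by simp [pw3, map_mul, h2]⟩
    obtain ⟨σ1, a1, b1⟩ := hp jB _ v1 iB.symm i
    obtain ⟨σ2, a2, b2⟩ := hp jC _ v2 iC.symm j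
    obtain ⟨σ3, a3, b3⟩ : ∃ σ, toPerm ((![1, sA] : Fin 2 → W) k) = e0 σ ∧
        C.θ ((![1, sA] : Fin 2 → W) k) = ι σ := by
      fin_cases k
      · exact ⟨1, by simp, by simp⟩
      · exact ⟨_, v3, iS.symm⟩
    exact ⟨σ1 * σ2 * σ3, by simp [map_mul, a1, a2, a3], by simp [map_mul, b1, b2, b3]⟩
  have hqq : C.θ qA = ι τq := by
    have hφq : (MulAut.conj (C.θ qA)).toMonoidHom.comp ι = ι.comp (MulAut.conj τq).toMonoidHom := by
      refine six_rigid (hιi.comp (MulAut.conj τq).injective) ?_ ?_ ?_ ?_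
      · rintro _ ⟨σ, rfl⟩
        refine ⟨τq⁻¹ * (τ₀ * σ * τ₀⁻¹) * τq, ?_⟩
        show ι (τq * (τq⁻¹ * (τ₀ * σ * τ₀⁻¹) * τq) * τq⁻¹) = C.θ qA * ι σ * (C.θ qA)⁻¹
        rw [show τq * (τq⁻¹ * (τ₀ * σ * τ₀⁻¹) * τq) * τq⁻¹ = τ₀ * σ * τ₀⁻¹ by group, map_mul,
          map_mul, map_inv, hτ₀]
      all_goals
        show C.θ qA * ι _ * (C.θ qA)⁻¹ = ι (τq * _ * τq⁻¹)
      · obtain ⟨σ, s1, s2⟩ := hwords (qA * jB * qA⁻¹) (by decide +kernel)
        rw [hval jB _ v1 iB.symm _ σ rfl s1, iB, ← s2, map_mul, map_mul, map_inv]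
      · obtain ⟨σ, s1, s2⟩ := hwords (qA * jC * qA⁻¹) (by decide +kernel)
        rw [hval jC _ v2 iC.symm _ σ rfl s1, iC, ← s2, map_mul, map_mul, map_inv]
      · obtain ⟨σ, s1, s2⟩ := hwords (qA * sA * qA⁻¹) (by decide +kernel)
        rw [hval sA _ v3 iS.symm _ σ rfl s1, iS, ← s2, map_mul, map_mul, map_inv]
    have hz : τ₀ = τq := by
      refine inv_mul_eq_one.1 (center_A6 fun σ => ?_) |>.symm
      have h := DFunLike.congr_fun hφq σ
      change C.θ qA * ι σ * (C.θ qA)⁻¹ = ι (τq * σ * τq⁻¹) at h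
      rw [← hτ₀, ← map_inv, ← map_mul, ← map_mul] at h
      have h' := hιi h
      calc σ * (τq⁻¹ * τ₀) = τq⁻¹ * (τq * σ * τq⁻¹) * τ₀ := by group
        _ = τq⁻¹ * τ₀ * σ := by rw [← h']; group
    rw [← hτ₀, hz]
  intro w τ hw
  obtain ⟨i, j, k, rfl⟩ := fix_words w ⟨(DFunLike.congr_fun hw 0).trans (e0_fix τ 0),
    (DFunLike.congr_fun hw 1).trans (e0_fix τ 1), (DFunLike.congr_fun hw 2).trans (e0_fix τ 2)⟩
  obtain ⟨σ1, a1, b1⟩ := hwords (pw3 jB i * pw3 jC j) ⟨i, j, 0, by simp⟩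
  obtain ⟨σ2, a2, b2⟩ : ∃ σ, toPerm ((![1, qA, qA * qA, qA * qA * qA] : Fin 4 → W) k) = e0 σ ∧
      C.θ ((![1, qA, qA * qA, qA * qA * qA] : Fin 4 → W) k) = ι σ := by
    fin_cases k
    · exact ⟨1, by simp, by simp⟩
    · exact ⟨τq, hτq, hqq⟩
    · exact ⟨τq * τq, by simp [map_mul, hτq], by simp [map_mul, hqq]⟩
    · exact ⟨τq * τq * τq, by simp [map_mul, hτq], by simp [map_mul, hqq]⟩
  rw [map_mul, a1, a2, ← map_mul] at hw
  rw [map_mul, b1, b2, ← map_mul, e0_injective hw]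

theorem conj_of_iota {ι : A6 →* G} (hιi : Function.Injective ι)
    (hιr : ι.range = (commutator (C.cen jA)).map (C.cen jA).subtype) (iB : ι Six.B0 = C.θ jB)
    (iC : ι Six.C0 = C.θ jC) (iS : ι Six.S0 = C.θ sA)
    (hagree : ∀ w τ, toPerm w = e0 τ → C.θ w = ι τ) {h : W} {τ τ' : A6}
    (hh : h * jA * h⁻¹ = jA ∨ h * jA * h⁻¹ = jA * jA)
    (hτ : toPerm h * e0 τ * (toPerm h)⁻¹ = e0 τ') : C.θ h * ι τ * (C.θ h)⁻¹ = ι τ' := by
  set X := C.cen jA with hX
  set E := commutator X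
  have hn : ∀ x ∈ X, C.θ h * x * (C.θ h)⁻¹ ∈ X := by
    intro x hx
    rw [hX, cen, mem_centralizer_singleton_iff] at hx ⊢
    have hc : Commute (C.θ h * x * (C.θ h)⁻¹) (C.θ (h * jA * h⁻¹)) := by
      rw [map_mul, map_mul, map_inv]
      exact (show Commute x (C.θ jA) from hx).map (MulAut.conj (C.θ h)).toMonoidHom
    rcases hh with hh | hh <;> rw [hh] at hc
    · exact hc.eq
    · have hA3 : jA * jA * (jA * jA) = jA := by decide +kernel
      have h2 := hc.mul_right hc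
      rwa [← map_mul, hA3] at h2
  set ch : X →* X := ((MulAut.conj (C.θ h)).toMonoidHom.comp X.subtype).codRestrict X
    (fun x => hn x x.2)
  have hEinv : ∀ σ, C.θ h * ι σ * (C.θ h)⁻¹ ∈ ι.range := by
    intro σ
    obtain ⟨e, he, hee⟩ := (hιr ▸ ⟨σ, rfl⟩ : ι σ ∈ E.map X.subtype)
    rw [hιr]
    refine ⟨ch e, ?_, by rw [← hee]; rfl⟩
    exact (Subgroup.commutator_le.2 fun a _ b _ => by
      rw [mem_comap, map_commutatorElement]
      exact Subgroup.commutator_mem_commutator (mem_top _) (mem_top _) : E ≤ E.comap ch) he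
  obtain ⟨v1, v2, v3⟩ := e0_vals
  have hex : ∀ σ, ∃ σ', toPerm h * e0 σ * (toPerm h)⁻¹ = e0 σ' := fun σ => by
    obtain ⟨σ', hσ'⟩ := e0_range (π := toPerm h * e0 σ * (toPerm h)⁻¹) (fun i => by
      obtain ⟨j, hj⟩ := block_stable h hh i
      show toPerm h (e0 σ ((toPerm h)⁻¹ _)) = _
      rw [hj, e0_fix, ← hj]
      exact Equiv.apply_symm_apply _ _) (by
      rw [map_mul, map_mul, map_inv, sign_toPerm, one_mul, inv_one, mul_one]
      show Perm.sign ((finSumFinEquiv : Fin 3 ⊕ Fin 6 ≃ Fin 9).permCongr _) = 1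
      rw [Perm.sign_permCongr, Perm.sign_sumCongr, map_one, one_mul]
      exact Perm.mem_alternatingGroup.1 σ.2)
    exact ⟨σ', hσ'.symm⟩
  choose c hc using hex
  let cc : A6 →* A6 :=
    { toFun := c
      map_one' := e0_injective (by rw [← hc, map_one, mul_one, mul_inv_cancel])
      map_mul' := fun a b => e0_injective (by
        rw [← hc, map_mul, map_mul, ← hc, ← hc]; group) }
  have heq : (MulAut.conj (C.θ h)).toMonoidHom.comp ι = ι.comp cc := by
    have hcci : Function.Injective cc := fun a b hab => e0_injective (by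
      have := (hc a).trans ((congrArg e0 hab).trans (hc b).symm)
      exact mul_left_cancel (mul_right_cancel this))
    refine six_rigid (hιi.comp hcci) ?_ ?_ ?_ ?_
    · rintro _ ⟨σ, rfl⟩
      obtain ⟨σ', hσ'⟩ := hEinv σ
      obtain ⟨σ'', rfl⟩ := Finite.injective_iff_surjective.1 hcci σ'
      exact ⟨σ'', hσ'⟩
    all_goals show C.θ h * ι _ * (C.θ h)⁻¹ = ι (c _)
    · rw [iB, ← map_inv, ← map_mul, ← map_mul]
      exact hagree _ _ (by rw [map_mul, map_mul, map_inv, v1, hc])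
    · rw [iC, ← map_inv, ← map_mul, ← map_mul]
      exact hagree _ _ (by rw [map_mul, map_mul, map_inv, v2, hc])
    · rw [iS, ← map_inv, ← map_mul, ← map_mul]
      exact hagree _ _ (by rw [map_mul, map_mul, map_inv, v3, hc])
  rw [show τ' = c τ from e0_injective (hτ.symm.trans (hc τ))]
  exact DFunLike.congr_fun heq τ

theorem exists_frame (hiso : Nonempty ((C.cen jA ⧸ C.line jA) ≃* A6)) : Nonempty C.Frame := by
  obtain ⟨ι, hιi, hιr, iB, iC, iS, hq, hcen⟩ := C.exists_iota hiso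
  have hagree := C.agree_of_iota hιi iB iC iS hq
  refine ⟨⟨ι, hιi, hιr, hcen, fun τ => ?_, hagree, fun h τ τ' hh hτ =>
    C.conj_of_iota hιi hιr iB iC iS hagree hh hτ⟩⟩
  obtain ⟨e, -, he⟩ := (hιr ▸ ⟨τ, rfl⟩ : ι τ ∈ (commutator (C.cen jA)).map (C.cen jA).subtype)
  rw [← he]
  exact (mem_centralizer_singleton_iff.1 e.2).symm

end Ctx

end Cfsg.Agent.Recog.AltNine
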