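import Cfsg.Agent.Lib.Recog.AltNine.SmallData

/-!
Finite facts for the relation between the two outer copies of degree six.
-/

set_option autoImplicit false
set_option maxRecDepth 100000

namespace Cfsg.Agent.Recog.AltNine

open Equiv Cfsg.Agent.Recog.MonoCube Cfsg.Agent.Recog.MonoCube.W

namespace Fours

/-- A three-cycle of the last copy. -/
def ul : A6 := ⟨swap 3 4 * swap 4 2, Perm.mem_alternatingGroup.2 (by decide)⟩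

/-- A three-cycle of the first copy. -/
def xl : A6 := ⟨swap 0 1 * swap 1 3, Perm.mem_alternatingGroup.2 (by decide)⟩

/-- The symmetry exchanging the outer blocks. -/
def hW : W := ⟨4, 2, 2, 1, 1⟩

theorem ul_word : ∃ v ∈ Vl, ∃ c ∈ [Six.C0, Six.C0⁻¹], ul = v * c := by decide +kernel

theorem hW_facts : (hW * jK 2 * hW⁻¹ = jK 0 ∨ hW * jK 2 * hW⁻¹ = jK 0 * jK 0) ∧
    (hW * jK 1 * hW⁻¹ = jK 1 ∨ hW * jK 1 * hW⁻¹ = jK 1 * jK 1) ∧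
    toPerm hW * ek 2 ul⁻¹ * (toPerm hW)⁻¹ = ek 0 xl ∧
    (∀ σ ∈ Wl, ∃ σ' ∈ Wl, toPerm hW * ek 1 σ' * (toPerm hW)⁻¹ = ek 1 σ) := by decide +kernel

theorem s3_inverts : (s3W * jK 2 * s3W⁻¹ = jK 2) ∧ (s3W * jK 0 * s3W⁻¹ = jK 0 * jK 0) ∧
    toPerm s3W * ek 2 ul * (toPerm s3W)⁻¹ = ek 2 ul⁻¹ ∧
    toPerm s3W * ek 0 xl * (toPerm s3W)⁻¹ = ek 0 xl⁻¹ ∧
    (∀ σ ∈ Wl, ∃ σ' ∈ Wl, toPerm s3W * ek 1 σ * (toPerm s3W)⁻¹ = ek 1 σ') ∧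
    Six.C0 * ul * (Six.C0 * ul) = 1 ∧ Six.C0 * ul ≠ 1 ∧ ul * (ul * ul) = 1 ∧ ul ≠ 1 ∧
    Six.B0 * xl * (Six.B0 * xl) = 1 ∧ Six.B0 * xl ≠ 1 ∧ xl * (xl * xl) = 1 ∧ xl ≠ 1 ∧
    xl * Six.C0 ≠ Six.C0 * xl := by decide +kernel

theorem conj_B0 : ∀ b : A6, b * (b * b) = 1 → b ≠ 1 → (b : Perm (Fin 6)) 5 = 5 →
    ∃ g : A6, (g : Perm (Fin 6)) 5 = 5 ∧ g * b * g⁻¹ = Six.B0 := by decide +kernel

/-- Words separating pairs of three-cycles. -/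
def sep (b u x : A6) : List A6 :=
  [b * u⁻¹ * x⁻¹, b * x⁻¹ * u⁻¹, b * u⁻¹ * x * u * x⁻¹, b * x⁻¹ * u * x * u⁻¹]

/-- A three-cycle of degree five forming a four-point alternating group with the standard one. -/
def Cand (u : A6) : Prop := u * (u * u) = 1 ∧ u ≠ 1 ∧ (u : Perm (Fin 6)) 5 = 5 ∧
    Six.B0 * u * (Six.B0 * u) = 1 ∧ Six.B0 * u ≠ 1

instance : DecidablePred Cand := fun _ => inferInstanceAs (Decidable (_ ∧ _))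

theorem pair_sq : ∀ u : A6, Cand u → ∀ x : A6, Cand x → u ≠ x →
    u * x * (u * x) = 1 ∨ ∃ i : Fin 4, (sep Six.B0 u x).getD i 1 = 1 ∧
      (sep Six.B0⁻¹ u⁻¹ x⁻¹).getD i 1 ≠ 1 := by decide +kernel

end Fours

end Cfsg.Agent.Recog.AltNine
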