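import Cfsg.Agent.Lib.Recog.AltNine.Small
import Cfsg.Agent.Lib.Recog.AltNine.GlueData

/-!
The relation between three-cycles of the two outer copies of degree six.
-/

set_option autoImplicit false
set_option linter.style.haveILetI false
set_option linter.unusedSectionVars false

namespace Cfsg.Agent.Recog.AltNine

open Cfsg Subgroup Equiv Cfsg.Agent.Recog.MonoCube Cfsg.Agent.Recog.MonoCube.W Fours

universe u

namespace Ctx.Frame

open Code

variable {G : Type u} [Group G] [Finite G] {C : Ctx G} (F : C.Frame)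

theorem full : F.Full := F.cent_Vc_cases.resolve_left F.cent_Vc_not_small

/-- The elements of order three in the centralizer of the regular four group. -/
theorem three_cent_Vc {x : G} (hx : x ∈ centralizer (F.Vc : Set G)) (hx3 : x ^ 3 = 1) :
    ∃ σ : A6, (σ : Perm (Fin 6)) 5 = 5 ∧ σ * (σ * σ) = 1 ∧ x = F.f 1 σ := by
  obtain ⟨hcomm, hdec⟩ := F.full
  obtain ⟨τ, hτ, σ, hσ, rfl⟩ := hdec x hx
  rw [(hcomm τ hτ σ hσ).mul_pow] at hx3
  have hτ3 : F.f 2 τ ^ 3 = F.f 2 τ := by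
    have h2 : τ * τ = 1 := (by decide +kernel : ∀ τ ∈ Vl, τ * τ = 1) τ hτ
    rw [← map_pow, pow_succ, pow_two, h2, one_mul]
  rw [hτ3] at hx3
  have h1 : F.f 2 τ = 1 := by
    refine F.fourHyp_Vc.g_fix _ ⟨τ, hτ, rfl⟩ ?_
    rw [eq_inv_of_mul_eq_one_left hx3, ← map_pow, ← map_inv]
    exact (F.f_comm 1 _).eq
  rw [h1, one_mul] at hx3
  refine ⟨σ, hσ, F.f_inj 1 ?_, by rw [h1, one_mul]⟩
  rw [map_mul, map_mul, map_one, ← mul_assoc, ← pow_three']
  exact hx3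

theorem ul_cent : ∀ σ ∈ Wl, Commute (F.f 2 ul) (F.f 1 σ) := by
  intro σ hσ
  obtain ⟨v, hv, c, hc, he⟩ := ul_word
  have hσ5 : (σ : Perm (Fin 6)) 5 = 5 :=
    (by decide +kernel : ∀ σ ∈ Wl, (σ : Perm (Fin 6)) 5 = 5) σ hσ
  have hb : Commute (F.f 2 Six.C0) (F.f 1 σ) := by
    rw [← F.f_agree 2 _ _ wW_facts.2.1]; exact F.f_comm 1 σ
  rw [he, map_mul]
  refine Commute.mul_left (F.full.1 v hv σ hσ5) ?_
  simp only [List.mem_cons, List.not_mem_nil, or_false] at hc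
  rcases hc with rfl | rfl
  · exact hb
  · rw [map_inv]; exact hb.inv_left

theorem xl_cent : ∀ σ ∈ Wl, Commute (F.f 0 xl) (F.f 1 σ) := by
  intro σ hσ
  obtain ⟨h20, h11, hx, hmap⟩ := hW_facts
  obtain ⟨σ', hσ', he⟩ := hmap σ hσ
  have e1 := F.f_conj 2 0 hW _ _ h20 hx
  have e2 := F.f_conj 1 1 hW _ _ h11 he
  rw [← e1, ← e2, map_inv]
  exact (F.ul_cent σ' hσ').inv_left.map (MulAut.conj (C.θ hW)).toMonoidHom

set_option maxHeartbeats 1000000 in
/-- The two three-cycles have a product of order two. -/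
theorem relation : F.f 2 ul * F.f 0 xl * (F.f 2 ul * F.f 0 xl) = 1 := by
  obtain ⟨s22, s00, su, sx, sW, q1, q2, u3, u1, q3, q4, x3, x1, xC⟩ := s3_inverts
  obtain ⟨-, -, hjC, -, -, hjB0, hjC0, -⟩ := wW_facts
  have hb2 : C.θ jB = F.f 2 Six.C0 := F.f_agree 2 _ _ wW_facts.2.1
  have hb0 : C.θ jB = F.f 0 Six.B0 := F.f_agree 0 _ _ hjB0
  set t := (MulAut.conj F.kk⁻¹).toMonoidHom with ht
  have htV : ∀ y : G, (∀ σ ∈ Wl, Commute y (F.f 1 σ)) → t y ∈ centralizer (F.Vc : Set G) := by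
    intro y hy
    refine mem_centralizer_iff.2 fun v hv => ?_
    obtain ⟨σ, hσ, hσe⟩ := (F.map_Vc ▸ ⟨v, hv, rfl⟩ : MulAut.conj F.kk v ∈ F.Wc)
    have hv' : v = t (F.f 1 σ) := by
      rw [hσe, ht]; simp [mul_assoc]
    rw [hv', ← map_mul, ← map_mul, (hy σ hσ).eq]
  have hpow : ∀ y : G, y ^ 3 = 1 → t y ^ 3 = 1 := fun y hy => by rw [← map_pow, hy, map_one]
  have hu3 : F.f 2 ul ^ 3 = 1 := by rw [← map_pow, pow_succ, pow_two, mul_assoc, u3, map_one]
  have hx3 : F.f 0 xl ^ 3 = 1 := by rw [← map_pow, pow_succ, pow_two, mul_assoc, x3, map_one]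
  obtain ⟨σb, hb5, hb3, hbe⟩ := F.three_cent_Vc (htV _ fun σ _ => F.f_comm 1 σ)
    (hpow _ (C.cube_θ (by decide +kernel : inJ jB = true)))
  obtain ⟨σu, hu5, hu33, hue⟩ := F.three_cent_Vc (htV _ F.ul_cent) (hpow _ hu3)
  obtain ⟨σx, hx5, hx33, hxe⟩ := F.three_cent_Vc (htV _ F.xl_cent) (hpow _ hx3)
  change t (C.θ jB) = _ at hbe
  have htinj : Function.Injective t := (MulAut.conj F.kk⁻¹).injective
  have hb1 : σb ≠ 1 := fun e => by
    rw [e, map_one] at hbe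
    exact absurd (C.inj ((htinj (hbe.trans (map_one t).symm)).trans (map_one C.θ).symm)) (by decide +kernel)
  obtain ⟨g, hg5, hgb⟩ := conj_B0 σb hb3 hb1 hb5
  set ρ : A6 →* G := (F.f 1).comp (MulAut.conj g⁻¹).toMonoidHom with hρ
  have hρi : Function.Injective ρ := (F.f_inj 1).comp (MulAut.conj g⁻¹).injective
  have hρv : ∀ σ, ρ (g * σ * g⁻¹) = F.f 1 σ := fun σ => by
    rw [hρ]; simp [mul_assoc]
  have rb : ρ Six.B0 = t (C.θ jB) := by rw [← hgb, hρv, hbe]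
  have rfix : ∀ σ : A6, (σ : Perm (Fin 6)) 5 = 5 →
      ((g * σ * g⁻¹ : A6) : Perm (Fin 6)) 5 = 5 := by
    intro σ hσ
    have : (g : Perm (Fin 6))⁻¹ 5 = 5 := by
      rw [Perm.inv_def, Equiv.symm_apply_eq, hg5]
    simp [Perm.mul_apply, this, hσ, hg5]
  set U := g * σu * g⁻¹
  set X := g * σx * g⁻¹
  have rU : ρ U = t (F.f 2 ul) := by rw [hρv, hue]
  have rX : ρ X = t (F.f 0 xl) := by rw [hρv, hxe]
  have key : ∀ (w : A6) (y : G), ρ w = t y → (y * y * y = 1) → y ≠ 1 → C.θ jB * y * (C.θ jB * y) = 1 →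
      C.θ jB * y ≠ 1 → (w : Perm (Fin 6)) 5 = 5 → Cand w := by
    intro w y hw h3 h1 h2 h4 h5
    refine ⟨hρi ?_, fun e => h1 (htinj ?_), h5, hρi ?_, fun e => h4 (htinj ?_)⟩
    · rw [map_mul, map_mul, hw, map_one, ← map_mul, ← map_mul, ← mul_assoc, h3, map_one]
    · rw [← hw, e, map_one, map_one]
    · rw [map_mul, map_mul, rb, hw, map_one, ← map_mul, ← map_mul, h2, map_one]
    · rw [map_mul, ← rb, ← hw, ← map_mul, e, map_one, map_one]
  have cU : Cand U := key U _ rU (by rw [← map_mul, ← map_mul, mul_assoc, u3, map_one])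
    (fun e => u1 (F.f_inj 2 (e.trans (map_one _).symm)))
    (by rw [hb2, ← map_mul, ← map_mul, q1, map_one])
    (fun e => q2 (F.f_inj 2 (by rw [map_mul, ← hb2, e, map_one]))) (rfix _ hu5)
  have cX : Cand X := key X _ rX (by rw [← map_mul, ← map_mul, mul_assoc, x3, map_one])
    (fun e => x1 (F.f_inj 0 (e.trans (map_one _).symm)))
    (by rw [hb0, ← map_mul, ← map_mul, q3, map_one])
    (fun e => q4 (F.f_inj 0 (by rw [map_mul, ← hb0, e, map_one]))) (rfix _ hx5)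
  have hUX : U ≠ X := by
    intro e
    have h : F.f 2 ul = F.f 0 xl := htinj (by rw [← rU, e, rX])
    have hc : Commute (C.θ jC) (F.f 0 xl) := h ▸ F.f_comm 2 ul
    rw [F.f_agree 0 _ _ hjC0] at hc
    exact xC (F.f_inj 0 (by rw [map_mul, map_mul]; exact hc.symm.eq))
  rcases pair_sq U cU X cX hUX with h | ⟨i, hi, hi'⟩
  · refine htinj ?_
    rw [map_mul, map_mul, map_one, ← rU, ← rX, ← map_mul, ← map_mul, h, map_one]
  · exfalso
    set s := (MulAut.conj (t (C.θ s3W))).toMonoidHom with hs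
    have hst : ∀ y, s (t y) = t (C.θ s3W * y * (C.θ s3W)⁻¹) := fun y => by
      rw [map_mul, map_mul, map_inv, hs]; rfl
    have iB : s (ρ Six.B0) = ρ Six.B0⁻¹ := by
      rw [map_inv, rb, hst, ← map_inv t]
      congr 1
      rw [← map_inv, ← map_inv, ← map_mul, ← map_mul]
      congr 1
    have iU : s (ρ U) = ρ U⁻¹ := by
      rw [map_inv, rU, hst, F.f_conj 2 2 s3W _ _ (Or.inl s22) su, map_inv, map_inv]
    have iX : s (ρ X) = ρ X⁻¹ := by
      rw [map_inv, rX, hst, F.f_conj 0 0 s3W _ _ (Or.inr s00) sx, map_inv, map_inv]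
    refine hi' (hρi ?_)
    have e : s (ρ ((sep Six.B0 U X).getD i 1)) = ρ ((sep Six.B0⁻¹ U⁻¹ X⁻¹).getD i 1) := by
      fin_cases i <;> simp [sep, iB, iU, iX]
    rw [← e, hi, map_one, map_one]

end Ctx.Frame

end Cfsg.Agent.Recog.AltNine
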