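import Cfsg.Agent.Lib.Recog.AltNine.Copies
import Cfsg.Agent.Lib.Recog.AltNine.FourCent
import Cfsg.Agent.Lib.Recog.AltNine.FoursData
import Cfsg.Agent.Lib.Recog.AltNine.FoursCode

/-!
An involution centralized by an element of weight two is not conjugate to the involution of weight
two transpositions, and the centralizer of the second kind of four group.
-/

set_option autoImplicit false
set_option linter.style.haveILetI false
set_option linter.unusedSectionVars false

namespace Cfsg.Agent.Recog.AltNine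

open Cfsg Subgroup Equiv Cfsg.Agent.Recog.MonoCube Cfsg.Agent.Recog.MonoCube.W Fours

universe u

theorem card_four (a b : A6) (h : (a, b) ∈ [(v1, v2), (wl, wl2), (wl, dl), (ml, ml2)])
    (hnd : ([1, a, b, a * b] : List A6).Nodup) : Nat.card (fourGrp a b h) = 4 := by
  have e : Nat.card (fourGrp a b h) = Nat.card {τ : A6 // τ ∈ ([1, a, b, a * b] : List A6)} := rfl
  rw [e, Nat.card_eq_fintype_card, Fintype.card_of_subtype ([1, a, b, a * b] : List A6).toFinset
    (by simp), List.toFinset_card_of_nodup hnd]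
  rfl

namespace Ctx

variable {G : Type u} [Group G] [Finite G] (C : Ctx G)

theorem card_cent_dvd {v : W} (hv : inJ v = true) (hw : wt v = 2 ∨ wt v = 3) :
    Nat.card (centralizer ({C.θ v} : Set G)) ∣ 162 := by
  set S : Finset W := Finset.univ.filter fun w : W => w * v = v * w
  let f : S → centralizer ({C.θ v} : Set G) := fun w => ⟨C.θ w, mem_centralizer_singleton_iff.2 (by
    rw [← map_mul, ← map_mul, (Finset.mem_filter.1 w.2).2])⟩
  have hf : Function.Bijective f := by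
    refine ⟨fun a b h => Subtype.ext (C.inj (congrArg Subtype.val h)), fun x => ?_⟩
    obtain ⟨w, hwx⟩ := C.cent_le hv hw x.2
    refine ⟨⟨w, Finset.mem_filter.2 ⟨Finset.mem_univ _, C.inj ?_⟩⟩, Subtype.ext hwx⟩
    rw [map_mul, map_mul, hwx]
    exact mem_centralizer_singleton_iff.1 x.2
  rw [← Nat.card_eq_of_bijective f hf, Nat.card_eq_fintype_card, Fintype.card_coe]
  exact Fours.cent_card v hv hw

theorem card_cent_conj {x y g : G} (h : g * x * g⁻¹ = y) :
    Nat.card (centralizer ({x} : Set G)) = Nat.card (centralizer ({y} : Set G)) := by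
  refine Nat.card_congr ((MulAut.conj g).toEquiv.subtypeEquiv fun c => ?_)
  show c ∈ centralizer ({x} : Set G) ↔ g * c * g⁻¹ ∈ centralizer ({y} : Set G)
  rw [mem_centralizer_singleton_iff, mem_centralizer_singleton_iff, ← h,
    show g * c * g⁻¹ * (g * x * g⁻¹) = g * (c * x) * g⁻¹ by group,
    show g * x * g⁻¹ * (g * c * g⁻¹) = g * (x * c) * g⁻¹ by group]
  exact ⟨fun e => by rw [e], fun e => mul_left_cancel (mul_right_cancel e)⟩

namespace Frame

open Code

variable {C} (F : C.Frame)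

include F in
theorem pw3_pow (k : Fin 3) (m : Fin 3) : C.θ (pw3 (jK k) m) ^ 3 = 1 := by
  have hk : inJ (jK k) = true := by fin_cases k <;> decide +kernel
  exact C.cube_θ (inJ_pw3 _ hk m)

theorem meet (k : Fin 3) {m : Fin 3} {τ : A6} (h : C.θ (pw3 (jK k) m) = F.f k τ) :
    m = 0 ∧ τ = 1 := by
  have h' := congrArg (fun x => x) h
  have hτ : τ = 1 := by
    refine center_A6 fun σ => F.f_inj k ?_
    rw [map_mul, map_mul, ← h]
    have hc := F.f_comm k σ
    fin_cases m
    · simp [pw3]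
    · simpa [pw3] using hc.symm.eq
    · simpa [pw3, map_mul] using (hc.mul_left hc).symm.eq
  refine ⟨?_, hτ⟩
  rw [hτ, map_one, ← map_one C.θ] at h
  exact (by decide +kernel : ∀ k m : Fin 3, pw3 (jK k) m = 1 → m = 0) k m (C.inj h)

/-- An element centralizing a cycle with order prime to three lies in the copy of degree six. -/
theorem cent_coprime (k : Fin 3) {x : G} (hx : Commute (C.θ (jK k)) x) {n : ℕ}
    (hn : n.Coprime 3) (hxn : x ^ n = 1) : ∃ τ, τ ^ n = 1 ∧ x = F.f k τ := by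
  obtain ⟨m, τ, rfl⟩ := F.f_cen k x (mem_centralizer_singleton_iff.2 hx.symm.eq)
  have hc : Commute (C.θ (pw3 (jK k) m)) (F.f k τ) := by
    fin_cases m
    · simp [pw3]
    · simpa [pw3] using F.f_comm k τ
    · simpa [pw3, map_mul] using (F.f_comm k τ).mul_left (F.f_comm k τ)
  rw [hc.mul_pow] at hxn
  obtain ⟨m', hm'⟩ : ∃ m', C.θ (pw3 (jK k) m) ^ n = C.θ (pw3 (jK k) m') := by
    obtain ⟨m', hm'⟩ := C.θ_pw3 (jK k) (by fin_cases k <;> decide +kernel)
      (((m : ℕ) * n : ℕ) : ℤ)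
    refine ⟨m', ?_⟩
    rw [← hm', zpow_natCast, pow_mul]
    fin_cases m <;> simp [pw3, pow_two]
  have h0 : C.θ (pw3 (jK k) m') = F.f k (τ ^ n)⁻¹ := by
    rw [map_inv, map_pow, ← hm']
    exact eq_inv_of_mul_eq_one_left hxn
  obtain ⟨rfl, hτn⟩ := F.meet k h0
  rw [inv_eq_one] at hτn
  have hθ : C.θ (pw3 (jK k) m) = 1 := by
    refine orderOf_eq_one_iff.1 (Nat.eq_one_of_dvd_coprimes hn (orderOf_dvd_of_pow_eq_one ?_)
      (orderOf_dvd_of_pow_eq_one (F.pw3_pow k m)))
    rw [hm']; simp [pw3]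
  exact ⟨τ, hτn, by rw [hθ, one_mul]⟩

include F in
/-- No element of the copies has order seven. -/
theorem not_seven (k : Fin 3) : ¬ 7 ∣ Nat.card (centralizer ({C.θ (jK k)} : Set G)) := by
  intro h
  haveI : Fact (Nat.Prime 7) := ⟨by norm_num⟩
  obtain ⟨⟨x, hx⟩, hxo⟩ := exists_prime_orderOf_dvd_card' 7 h
  rw [orderOf_mk] at hxo
  obtain ⟨τ, hτ, rfl⟩ := F.cent_coprime k (mem_centralizer_singleton_iff.1 hx).symm (n := 7)
    (by norm_num) (by rw [← hxo]; exact pow_orderOf_eq_one _)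
  rw [orderOf_injective _ (F.f_inj k)] at hxo
  have := orderOf_dvd_natCard τ
  rw [hxo, nat_card_alternatingGroup, Nat.card_fin] at this
  exact absurd this (by decide)

theorem wW_eq : C.θ wW = F.f 1 wl := F.f_agree 1 _ _ wW_facts.1

include F in
/-- An involution centralized by an element of weight two is not conjugate to the standard one. -/
theorem not_conj_w {j : W} (hj : inJ j = true) (hw : wt j = 2) {x g : G}
    (hx : Commute (C.θ j) x) : g * C.θ wW * g⁻¹ ≠ x := by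
  intro hg
  haveI : Fact (Nat.Prime 3) := ⟨Nat.prime_three⟩
  set K := centralizer ({C.θ wW} : Set G)
  have hbK : C.θ jB ∈ K := mem_centralizer_singleton_iff.2 (by
    rw [F.wW_eq]; exact (F.f_comm 1 wl).eq)
  set bK : K := ⟨C.θ jB, hbK⟩
  have hbo : orderOf bK = 3 := by rw [orderOf_mk]; exact C.orderOf_θ (by decide +kernel) (by decide +kernel)
  obtain ⟨P, hP⟩ := (IsPGroup.of_card (n := 1) (by rw [Nat.card_zpowers, hbo, pow_one]) :
    IsPGroup 3 (zpowers bK)).exists_le_sylow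
  have hsmall : ∀ y : K, (∃ n, y ^ 3 ^ n = 1) → Commute bK y → y ∈ zpowers bK := by
    rintro ⟨y, hy⟩ ⟨n, hn⟩ hc
    obtain ⟨m, τ, hye⟩ := F.f_cen 1 y (mem_centralizer_singleton_iff.2
      (congrArg Subtype.val hc.symm.eq))
    have hτ : τ * wl = wl * τ := by
      refine F.f_inj 1 ?_
      have hyw : Commute y (C.θ wW) := mem_centralizer_singleton_iff.1 hy
      have hmw : Commute (C.θ (pw3 (jK 1) m)) (C.θ wW) := by
        rw [F.wW_eq]
        fin_cases m
        · simp [pw3]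
        · simpa [pw3] using F.f_comm 1 wl
        · simpa [pw3, map_mul] using (F.f_comm 1 wl).mul_left (F.f_comm 1 wl)
      have h2 : Commute (F.f 1 τ) (C.θ wW) := by
        rw [show F.f 1 τ = (C.θ (pw3 (jK 1) m))⁻¹ * y by rw [hye, inv_mul_cancel_left]]
        exact hmw.inv_left.mul_left hyw
      rw [map_mul, map_mul, ← F.wW_eq]
      exact h2.eq
    have hτ8 : τ ^ 8 = 1 := by
      rw [← Fours.cent_wl τ hτ]; simp only [pow_succ, pow_zero, one_mul, mul_assoc]
    have hcm : Commute (C.θ (pw3 (jK 1) m)) (F.f 1 τ) := by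
      fin_cases m
      · simp [pw3]
      · simpa [pw3] using F.f_comm 1 τ
      · simpa [pw3, map_mul] using (F.f_comm 1 τ).mul_left (F.f_comm 1 τ)
    have hτ1 : τ = 1 := by
      refine orderOf_eq_one_iff.1 (Nat.eq_one_of_dvd_coprimes (a := 3 ^ (n + 1)) (b := 8)
        (Nat.Coprime.pow_left _ (by norm_num)) (orderOf_dvd_of_pow_eq_one (F.f_inj 1 ?_))
        (orderOf_dvd_of_pow_eq_one hτ8))
      have hy3 : y ^ 3 ^ (n + 1) = 1 := by
        rw [pow_succ, pow_mul, show y ^ 3 ^ n = 1 from congrArg Subtype.val hn, one_pow]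
      rw [hye, hcm.mul_pow, pow_succ', pow_mul (C.θ _), F.pw3_pow, one_pow, one_mul] at hy3
      rw [map_pow, map_one, pow_succ']
      exact hy3
    refine ⟨(m : ℕ), Subtype.ext ?_⟩
    simp only [zpow_natCast, Subgroup.coe_pow]
    rw [hye, hτ1, map_one, mul_one]
    show C.θ jB ^ (m : ℕ) = C.θ (pw3 (jK 1) m)
    fin_cases m
    · simp [pw3]
    · simp [pw3, jK]
    · simp [pw3, jK, pow_two]
  have hPb : (P : Subgroup K) = zpowers bK := by
    have hb : bK ∈ (P : Subgroup K) := hP (mem_zpowers bK)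
    haveI : Nontrivial (P : Subgroup K) := ⟨⟨⟨bK, hb⟩, 1, fun e => by
      have e' : bK = 1 := congrArg Subtype.val e
      rw [e', orderOf_one] at hbo
      omega⟩⟩
    haveI := P.isPGroup'.center_nontrivial
    obtain ⟨c, hc1⟩ := exists_ne (1 : center (P : Subgroup K))
    have hcb : ((c : (P : Subgroup K)) : K) ∈ zpowers bK := by
      obtain ⟨n, hn⟩ := P.isPGroup' c.1
      exact hsmall _ ⟨n, congrArg Subtype.val hn⟩
        (congrArg Subtype.val (mem_center_iff.1 c.2 ⟨bK, hb⟩))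
    have hgen : zpowers ((c : (P : Subgroup K)) : K) = zpowers bK := by
      refine eq_of_le_of_card_ge (zpowers_le.2 hcb) ?_
      have h1 := card_dvd_of_le (zpowers_le.2 hcb)
      rw [Nat.card_zpowers, Nat.card_zpowers, hbo, Nat.dvd_prime Nat.prime_three] at h1
      rcases h1 with h1 | h1
      · exact absurd (Subtype.ext (Subtype.ext (orderOf_eq_one_iff.1 h1))) hc1
      · rw [Nat.card_zpowers, Nat.card_zpowers, hbo, h1]
    refine le_antisymm (fun y hy => ?_) hP
    obtain ⟨n, hn⟩ := P.isPGroup' ⟨y, hy⟩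
    refine hsmall y ⟨n, congrArg Subtype.val hn⟩ ?_
    obtain ⟨i, hi⟩ := (hgen ▸ mem_zpowers bK : bK ∈ zpowers ((c : (P : Subgroup K)) : K))
    rw [← hi]
    exact Commute.zpow_left (congrArg Subtype.val (mem_center_iff.1 c.2 ⟨y, hy⟩)).symm i
  -- the weight two element
  have hj1 : j ≠ 1 := fun e => by rw [e] at hw; exact absurd hw (by decide)
  set y0 := g⁻¹ * C.θ j * g with hy0
  have hyK : y0 ∈ K := mem_centralizer_singleton_iff.2 (by
    calc g⁻¹ * C.θ j * g * C.θ wW = g⁻¹ * (C.θ j * (g * C.θ wW * g⁻¹)) * g := by group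
      _ = g⁻¹ * (g * C.θ wW * g⁻¹ * C.θ j) * g := by rw [hg, hx.eq]
      _ = C.θ wW * (g⁻¹ * C.θ j * g) := by group)
  have hy3 : (⟨y0, hyK⟩ : K) ^ 3 = 1 := Subtype.ext (by
    show (g⁻¹ * C.θ j * g) ^ 3 = 1
    rw [show g⁻¹ * C.θ j * g = MulAut.conj g⁻¹ (C.θ j) by simp, ← map_pow, C.cube_θ hj, map_one])
  obtain ⟨R, hR⟩ := (show IsPGroup 3 (zpowers (⟨y0, hyK⟩ : K)) from fun a => ⟨1, by
    obtain ⟨a, n, rfl⟩ := a
    refine Subtype.ext ?_
    show ((⟨y0, hyK⟩ : K) ^ n) ^ (3 ^ 1) = 1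
    rw [pow_one, ← zpow_natCast, ← zpow_mul, mul_comm, zpow_mul, zpow_natCast, hy3, one_zpow]⟩).exists_le_sylow
  obtain ⟨c, hc⟩ := MulAction.exists_smul_eq K R P
  have hcy : c * ⟨y0, hyK⟩ * c⁻¹ ∈ zpowers bK := by
    rw [← hPb, ← hc, Sylow.coe_subgroup_smul]
    exact smul_mem_pointwise_smul _ (MulAut.conj c) _ (hR (mem_zpowers _))
  obtain ⟨i, hi⟩ := hcy
  have hi' : C.θ jB ^ i = (c : G) * g⁻¹ * C.θ j * ((c : G) * g⁻¹)⁻¹ := by
    have := congrArg Subtype.val hi
    simp only [Subgroup.coe_zpow, Subgroup.coe_mul, InvMemClass.coe_inv] at this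
    rw [this, hy0]; group
  obtain ⟨m, hm⟩ := C.θ_pw3 jB (by decide +kernel) i
  rw [hm] at hi'
  obtain ⟨v, -, hv⟩ := C.fusion hj hj1 (inJ_pw3 jB (by decide +kernel) m) [] (by simp)
    (by simp) hi'.symm
  have := Fours.wt_conj v j hj
  rw [hv, hw] at this
  exact (by decide +kernel : ∀ m, wt (pw3 jB m) ≠ 2) m this

/-- The four group of the second kind. -/
def Wd : Subgroup G := Dl.map (F.f 1)

/-- The centralizer of the four group of the second kind has order dividing 24. -/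
theorem card_cent_Wd : Nat.card (centralizer (F.Wd : Set G)) ∣ 24 := by
  obtain ⟨σ, j, hj, hwj, h3a, h3b, hσ, hjp⟩ := gl_conj
  obtain ⟨hn1, hn2, hg3, -⟩ := norm_Dl
  have hjv : C.θ j = F.f 1 (Six.B0 * Six.C0) := F.f_agree 1 _ _ hjp
  have hconj : F.f 1 σ * F.f 1 gl * (F.f 1 σ)⁻¹ = C.θ j := by
    rw [hjv, ← hσ, map_mul, map_mul, map_inv]
  have hB : ∀ τ, Commute (C.θ jB) (F.f 1 τ) := fun τ => F.f_comm 1 τ
  have hjB : inJ jB = true := by decide +kernel
  have hg162 : Nat.card (centralizer ({F.f 1 gl} : Set G)) ∣ 162 :=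
    card_cent_conj hconj ▸ C.card_cent_dvd hj (Or.inl hwj)
  have hh : FourHyp F.Wd (C.θ jB) (F.f 1 gl) := by
    refine ⟨?_, ?_, C.cube_θ hjB, ?_, hB gl, ?_, ?_, ?_, ?_, ?_, ?_, ?_, ?_⟩
    · rw [Wd, card_map_of_injective (F.f_inj 1)]
      exact card_four _ _ _ cards.2.2.1
    · rintro _ ⟨σ₁, h1, rfl⟩ _ ⟨σ₂, h2, rfl⟩
      rw [← map_mul, ← map_mul, commutes.2.2 σ₁ h1 σ₂ h2]
    · rw [← map_pow, pow_succ, pow_two, mul_assoc, hg3, map_one]
    · refine mem_centralizer_iff.2 ?_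
      rintro _ ⟨τ, -, rfl⟩
      exact (hB τ).symm.eq
    · exact fun e => absurd (C.inj (e.trans (map_one C.θ).symm)) (by decide +kernel)
    · rintro _ ⟨τ, hτ, rfl⟩
      exact ⟨gl * τ * gl⁻¹, hn1 τ hτ, by rw [map_mul, map_mul, map_inv]⟩
    · rintro _ ⟨τ, hτ, rfl⟩ he
      rw [hn2 τ hτ (F.f_inj 1 (by rw [map_mul, map_mul, he])), map_one]
    · intro x hx hxz
      obtain ⟨m, τ, rfl⟩ := F.f_cen 1 x (mem_centralizer_singleton_iff.2 hxz)
      have hcm : ∀ τ', Commute (C.θ (pw3 (jK 1) m)) (F.f 1 τ') := fun τ' => by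
        fin_cases m
        · simp [pw3]
        · simpa [pw3] using F.f_comm 1 τ'
        · simpa [pw3, map_mul] using (F.f_comm 1 τ').mul_left (F.f_comm 1 τ')
      have hmem : ∀ v ∈ Dl, τ * v = v * τ := fun v hv => F.f_inj 1 (by
        rw [map_mul, map_mul]
        have h1 : F.f 1 v * (C.θ (pw3 (jK 1) m) * F.f 1 τ) =
            C.θ (pw3 (jK 1) m) * F.f 1 τ * F.f 1 v := mem_centralizer_iff.1 hx _ ⟨v, hv, rfl⟩
        rw [← mul_assoc, ← (hcm v).eq, mul_assoc, mul_assoc] at h1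
        exact (mul_left_cancel h1).symm)
      have hτD : τ ∈ Dl := cent_Dl τ (hmem wl (by decide +kernel)) (hmem dl (by decide +kernel))
      refine ⟨F.f 1 τ, ⟨τ, hτD, rfl⟩, (m : ℕ), ?_⟩
      rw [(hcm τ).eq]
      fin_cases m
      · simp [pw3]
      · simp [pw3, jK]
      · simp [pw3, jK, pow_two]
    · rw [card_cent_conj (y := C.θ (jB * j)) (g := F.f 1 σ) (by
        rw [map_mul, ← hconj, ← mul_assoc, ← mul_assoc, ← mul_assoc, (hB σ).eq])]
      exact C.card_cent_dvd (inJ_mul _ hjB _ hj).1 (Or.inr h3a)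
    · rw [card_cent_conj (y := C.θ (jB * jB * j)) (g := F.f 1 σ) (by
        rw [map_mul, map_mul, ← hconj, ← mul_assoc, ← mul_assoc, ← mul_assoc, ← mul_assoc,
          ← (hB σ).eq, mul_assoc (C.θ jB) (F.f 1 σ) (C.θ jB), ← (hB σ).eq, ← mul_assoc])]
      exact C.card_cent_dvd (inJ_mul _ (inJ_mul _ hjB _ hjB).1 _ hj).1 (Or.inr h3b)
    · exact fun h7 => absurd (h7.trans hg162) (by norm_num)
  obtain ⟨R, hRK, hVR, hRn, hRc, hRgen, hcases⟩ := hh.main
  have hR : R = F.Wd := by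
    refine le_antisymm (hRgen.trans (sup_le le_rfl ?_)) hVR
    intro r hr
    set D := R ⊓ centralizer ({F.f 1 gl} : Set G)
    have hD : Nat.card D ∣ 2 := by
      refine Nat.Coprime.dvd_of_dvd_mul_right (Nat.Coprime.pow_right 4
        (Nat.Coprime.coprime_dvd_left (card_dvd_of_le inf_le_left) hRc)) ?_
      exact (card_dvd_of_le inf_le_right).trans (hg162.trans (by norm_num))
    have hle : Nat.card D ≤ 2 := Nat.le_of_dvd (by norm_num) hD
    have hzr : C.θ jB * r * (C.θ jB)⁻¹ ∈ D := by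
      refine ⟨hRn _ hh.z_cent r hr.1, mem_centralizer_singleton_iff.2 ?_⟩
      have h1 : r * F.f 1 gl = F.f 1 gl * r := mem_centralizer_singleton_iff.1 hr.2
      calc C.θ jB * r * (C.θ jB)⁻¹ * F.f 1 gl = C.θ jB * r * ((C.θ jB)⁻¹ * F.f 1 gl) := by group
        _ = C.θ jB * (r * F.f 1 gl) * (C.θ jB)⁻¹ := by rw [(hB gl).inv_left.eq]; group
        _ = C.θ jB * F.f 1 gl * r * (C.θ jB)⁻¹ := by rw [h1]; group
        _ = F.f 1 gl * C.θ jB * r * (C.θ jB)⁻¹ := by rw [(hB gl).eq]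
        _ = F.f 1 gl * (C.θ jB * r * (C.θ jB)⁻¹) := by group
    have hcz : Commute (C.θ jB) r := by
      classical
      by_contra hne
      have hr1 : r ≠ 1 := fun e => hne (e ▸ Commute.one_right _)
      haveI := Fintype.ofFinite D
      rw [Nat.card_eq_fintype_card] at hle
      have h3 : ({1, ⟨r, hr⟩, ⟨_, hzr⟩} : Finset D).card = 3 := by
        rw [Finset.card_insert_of_notMem, Finset.card_pair]
        · exact fun e => hne (mul_inv_eq_iff_eq_mul.1 (congrArg Subtype.val e).symm)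
        · simp only [Finset.mem_insert, Finset.mem_singleton, not_or]
          exact ⟨fun e => hr1 (congrArg Subtype.val e).symm, fun e => hr1 (conj_eq_one_iff.1
            (congrArg Subtype.val e).symm)⟩
      have := Finset.card_le_univ ({1, ⟨r, hr⟩, ⟨_, hzr⟩} : Finset D)
      omega
    obtain ⟨v, hv, i, hvi⟩ := hh.cent_z r (hRK hr.1) hcz.symm.eq
    have hz : C.θ jB ^ i = 1 := by
      refine orderOf_eq_one_iff.1 (Nat.eq_one_of_dvd_coprimes hRc.symm
        ((orderOf_pow_dvd i).trans (orderOf_dvd_of_pow_eq_one hh.z_pow)) (orderOf_dvd_natCard R ?_))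
      rw [show C.θ jB ^ i = v⁻¹ * r by rw [hvi, inv_mul_cancel_left]]
      exact mul_mem (inv_mem (hVR hv)) hr.1
    rw [hvi, hz, mul_one]
    exact hv
  rcases hcases with h | ⟨-, -, ⟨p, -, hp, hgp⟩, -⟩
  · rwa [hR, hh.card_V] at h
  · have h5 := (orderOf_dvd_natCard _ (mem_centralizer_singleton_iff.2 hgp.symm.eq)).trans hg162
    rw [hp] at h5
    norm_num at h5

end Frame

end Ctx

end Cfsg.Agent.Recog.AltNine
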