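import Cfsg.Agent.Lib.Recog.AltNine.Model
import Cfsg.Agent.Lib.Transfer.HallWielandt

/-!
The three-local structure at the core `3³`: the centralizer of an element of weight three is the
Sylow subgroup, and fusion in the core is controlled by its normalizer.
-/

set_option autoImplicit false
set_option linter.style.haveILetI false
set_option linter.unusedSectionVars false

namespace Cfsg.Agent.Recog.AltNine

open Cfsg Cfsg.Agent.Recog.MonoCube Cfsg.Agent.Recog.MonoCube.W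

namespace Code

set_option maxRecDepth 100000

/-- The element of weight three centred in the Sylow subgroup. -/
def z3 : W := ⟨0, 0, 1, 1, 1⟩

theorem z3_facts : inJ z3 = true ∧ wt z3 = 3 ∧ z3 ≠ 1 ∧ inP z3 = true := by decide +kernel

theorem outside_small : ∀ u : W, inP u = true → inJ u = false →
    (Finset.univ.filter fun v : W => inP v && decide (u * v = v * u)).card = 9 := by decide +kernel

theorem cent_z3 : ∀ w : W, w * z3 = z3 * w → inP w = true := by decide +kernel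
theorem cent_z3' : ∀ w : W, inP w = true → w * z3 = z3 * w := by decide +kernel

theorem cent_core : ∀ w : W, inP w = true → w * jA = jA * w → inJ w = true := by decide +kernel

theorem wt3_commute : ∀ v : W, v * v * v = 1 → inJ v = false →
    ∃ z : W, inJ z = true ∧ wt z = 3 ∧ v * z = z * v := by decide +kernel

theorem three_part : ∀ u : W, inJ u = true → wt u = 1 ∨ wt u = 2 →
    ∀ v : W, v * u = u * v → nine v = true → inJ v = true := by decide +kernel

theorem wt_pos : ∀ u : W, inJ u = true → (u ≠ 1 ↔ wt u = 1 ∨ wt u = 2 ∨ wt u = 3) := by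
  decide +kernel

end Code

open Code

universe u

variable {G : Type u} [Group G] [Finite G]

/-- A copy of the code group which is the normalizer of its core, with the condition on the cores of
centralizers. -/
structure Ctx (G : Type u) [Group G] where
  θ : W →* G
  inj : Function.Injective θ
  norm : Subgroup.normalizer ((jGrp.map θ : Subgroup G) : Set G) = θ.range
  core : ∀ g ∈ θ.range, orderOf g = 3 → pPrimeCore 3 (Subgroup.centralizer ({g} : Set G)) = ⊥

namespace Ctx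

variable (C : Ctx G)

/-- The core in the group. -/
def J : Subgroup G := jGrp.map C.θ

/-- The normalizer of the core. -/
def H : Subgroup G := C.θ.range

/-- The Sylow subgroup. -/
def P : Subgroup G := pGrp.map C.θ

theorem mem_H (w : W) : C.θ w ∈ C.H := ⟨w, rfl⟩

theorem mem_J {w : W} (h : inJ w = true) : C.θ w ∈ C.J := ⟨w, h, rfl⟩

theorem J_le_P : C.J ≤ C.P := by
  rintro _ ⟨w, hw, rfl⟩
  exact ⟨w, inP_of_inJ w hw, rfl⟩

theorem P_le_H : C.P ≤ C.H := by
  rintro _ ⟨w, -, rfl⟩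
  exact C.mem_H w

theorem card_J : Nat.card C.J = 27 := by
  rw [J, Subgroup.card_map_of_injective C.inj, card_jGrp]

theorem card_P : Nat.card C.P = 81 := by
  rw [P, Subgroup.card_map_of_injective C.inj, card_pGrp]

theorem card_H : Nat.card C.H = 648 := by
  rw [H, ← Nat.card_congr (MonoidHom.ofInjective C.inj).toEquiv, Nat.card_eq_fintype_card, card_W]

theorem isPGroup_P : IsPGroup 3 C.P := IsPGroup.of_card (n := 4) (by rw [C.card_P]; norm_num)

theorem isPGroup_J : IsPGroup 3 C.J := IsPGroup.of_card (n := 3) (by rw [C.card_J]; norm_num)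

theorem normalizer_J : Subgroup.normalizer (C.J : Set G) = C.H := C.norm

theorem inJ_commute {v w : W} (hv : inJ v = true) (hw : inJ w = true) :
    Commute (C.θ v) (C.θ w) := by
  show C.θ v * C.θ w = C.θ w * C.θ v
  rw [← map_mul, ← map_mul, (inJ_mul v hv w hw).2.1]

/-- The only abelian subgroup of order 27 of the Sylow subgroup is the core. -/
theorem eq_J_of_le_P {A : Subgroup G} (hA : A ≤ C.P) (hcard : Nat.card A = 27)
    (hcomm : ∀ a ∈ A, ∀ b ∈ A, a * b = b * a) : A = C.J := by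
  classical
  refine Subgroup.eq_of_le_of_card_ge (fun x hx => ?_) (by rw [hcard, C.card_J])
  obtain ⟨u, hu, rfl⟩ := hA hx
  by_contra hne
  have huJ : inJ u = false := Bool.eq_false_iff.2 fun h => hne (C.mem_J h)
  have h9 := outside_small u hu huJ
  have hle : Nat.card A ≤ (Finset.univ.filter fun v : W => inP v && decide (u * v = v * u)).card := by
    rw [← Fintype.card_subtype, ← Nat.card_eq_fintype_card]
    choose f hf hfe using fun a : A => hA a.2
    refine Nat.card_le_card_of_injective (fun a => ⟨f a, ?_⟩) ?_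
    · rw [Bool.and_eq_true, decide_eq_true_eq]
      refine ⟨hf a, C.inj ?_⟩
      rw [map_mul, map_mul, hfe a]
      exact hcomm _ hx _ a.2
    · intro a b h
      have h' : f a = f b := congrArg Subtype.val h
      exact Subtype.ext (by rw [← hfe a, ← hfe b, h'])
  omega

theorem normalizer_P_le : Subgroup.normalizer (C.P : Set G) ≤ C.H := by
  intro g hg
  rw [← C.normalizer_J]
  have hle : C.J.map (MulAut.conj g).toMonoidHom ≤ C.P := by
    rintro _ ⟨x, hx, rfl⟩
    exact (Subgroup.mem_normalizer_iff.1 hg x).1 (C.J_le_P hx)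
  have heq : C.J.map (MulAut.conj g).toMonoidHom = C.J := by
    refine C.eq_J_of_le_P hle ?_ ?_
    · rw [Subgroup.card_map_of_injective (MulAut.conj g).injective, C.card_J]
    · rintro _ ⟨x, hx, rfl⟩ _ ⟨y, hy, rfl⟩
      obtain ⟨v, hv, rfl⟩ := hx
      obtain ⟨w, hw, rfl⟩ := hy
      exact ((C.inJ_commute hv hw).map _).eq
  refine Subgroup.mem_normalizer_fintype fun n hn => ?_
  have h : (MulAut.conj g).toMonoidHom n ∈ C.J.map (MulAut.conj g).toMonoidHom := ⟨n, hn, rfl⟩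
  rwa [heq] at h

/-- A three-subgroup between a given one and the part of `H` equal to it. -/
theorem eq_of_inf_H {R Q : Subgroup G} (hQ : IsPGroup 3 Q) (hle : R ≤ Q)
    (hN : Subgroup.normalizer (R : Set G) ≤ C.H) (hH : Q ⊓ C.H ≤ R) : Q = R := by
  haveI : Fact (Nat.Prime 3) := ⟨by norm_num⟩
  by_contra hne
  haveI : Group.IsNilpotent Q := hQ.isNilpotent
  have hlt : R.subgroupOf Q < ⊤ := lt_top_iff_ne_top.2 fun h => hne
    (le_antisymm (Subgroup.subgroupOf_eq_top.1 h) hle)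
  obtain ⟨x, hx, hxR⟩ := SetLike.exists_of_lt
    (Group.normalizerCondition_of_isNilpotent (R.subgroupOf Q) hlt)
  refine hxR (hH ⟨x.2, hN (Subgroup.mem_normalizer_fintype fun n hn => ?_)⟩)
  exact (Subgroup.mem_normalizer_iff.1 hx ⟨n, hle hn⟩).1 hn

theorem inf_H_le_P {Q : Subgroup G} (hQ : IsPGroup 3 Q) (hle : C.P ≤ Q) : Q ⊓ C.H ≤ C.P := by
  haveI : Fact (Nat.Prime 3) := ⟨by norm_num⟩
  refine (Subgroup.eq_of_le_of_card_ge (le_inf hle C.P_le_H) ?_).ge
  obtain ⟨n, hn⟩ := IsPGroup.iff_card.1 (hQ.to_le (inf_le_left (b := C.H)))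
  have hd : 3 ^ n ∣ 648 := hn ▸ C.card_H ▸ Subgroup.card_dvd_of_le inf_le_right
  have hn4 : n ≤ 4 := by
    by_contra h
    have h5 : 3 ^ 5 ∣ 648 := (pow_dvd_pow 3 (by omega)).trans hd
    norm_num at h5
  rw [C.card_P, hn]
  calc 3 ^ n ≤ 3 ^ 4 := Nat.pow_le_pow_right (by norm_num) hn4
    _ = 81 := by norm_num

/-- The Sylow subgroup of the group. -/
theorem eq_P_of_le {Q : Subgroup G} (hQ : IsPGroup 3 Q) (hle : C.P ≤ Q) : Q = C.P :=
  C.eq_of_inf_H hQ hle C.normalizer_P_le (C.inf_H_le_P hQ hle)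

theorem orderOf_θ {w : W} (h : inJ w = true) (h1 : w ≠ 1) : orderOf (C.θ w) = 3 := by
  haveI : Fact (Nat.Prime 3) := ⟨by norm_num⟩
  rw [orderOf_injective C.θ C.inj]
  exact orderOf_eq_prime (inJ_pow_three h) h1

theorem P_le_cent : C.P ≤ Subgroup.centralizer ({C.θ z3} : Set G) := by
  rintro _ ⟨w, hw, rfl⟩
  rw [Subgroup.mem_centralizer_singleton_iff, ← map_mul, ← map_mul, cent_z3' w hw]

/-- The centralizer of the central element is the Sylow subgroup. -/
theorem centralizer_z3 : Subgroup.centralizer ({C.θ z3} : Set G) = C.P := by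
  haveI : Fact (Nat.Prime 3) := ⟨by norm_num⟩
  set X := Subgroup.centralizer ({C.θ z3} : Set G)
  let T : Sylow 3 X := ⟨C.P.subgroupOf X, C.isPGroup_P.comap_subtype, fun {Q} hQ hle => by
    have h1 : C.P ≤ Q.map X.subtype := fun x hx => ⟨⟨x, C.P_le_cent hx⟩, hle hx, rfl⟩
    refine le_antisymm (fun q hq => ?_) hle
    show (q : G) ∈ C.P
    rw [← C.eq_P_of_le (hQ.map _) h1]
    exact ⟨q, hq, rfl⟩⟩
  set Q := C.J.subgroupOf X with hQdef
  have hJX : C.J ≤ X := C.J_le_P.trans C.P_le_cent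
  have hmap : ∀ g : X, (Q.map (MulAut.conj g).toMonoidHom).map X.subtype =
      C.J.map (MulAut.conj (g : G)).toMonoidHom := fun g => by
    ext y
    constructor
    · rintro ⟨_, ⟨q, hq, rfl⟩, rfl⟩
      exact ⟨q, hq, rfl⟩
    · rintro ⟨q, hq, rfl⟩
      exact ⟨_, ⟨⟨q, hJX hq⟩, hq, rfl⟩, rfl⟩
  have hwc : IsWeaklyClosed Q (T : Subgroup X) := by
    refine ⟨fun x hx => C.J_le_P hx, fun g hg => ?_⟩
    have hle : C.J.map (MulAut.conj (g : G)).toMonoidHom ≤ C.P := by
      rw [← hmap g]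
      rintro _ ⟨x, hx, rfl⟩
      exact hg hx
    refine Subgroup.map_injective X.subtype_injective ?_
    rw [hmap g, hQdef, Subgroup.subgroupOf_map_subtype, inf_eq_left.2 hJX]
    refine C.eq_J_of_le_P hle ?_ ?_
    · rw [Subgroup.card_map_of_injective (MulAut.conj (g : G)).injective, C.card_J]
    · rintro _ ⟨x, ⟨v, hv, rfl⟩, rfl⟩ _ ⟨y, ⟨w, hw, rfl⟩, rfl⟩
      exact ((C.inJ_commute hv hw).map _).eq
  have hstep : ∀ x ∈ (T : Subgroup X), ∀ z ∈ Q,
      (Transfer.HallWielandt.step z)^[3 - 1] x = 1 := by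
    intro x hx z hz
    obtain ⟨u, hu, hue⟩ : (x : G) ∈ C.P := hx
    obtain ⟨v, hv, hve⟩ : (z : G) ∈ C.J := hz
    have hvi : inJ v⁻¹ = true := inJ_inv' v hv
    have hc : inJ (u⁻¹ * v⁻¹ * u * v) = true := by
      have h1 := inJ_conj v⁻¹ hvi u⁻¹
      rw [inv_inv] at h1
      exact (inJ_mul _ h1 v hv).1
    have h2 : C.θ (u⁻¹ * v⁻¹ * u * v) = (x : G)⁻¹ * (z : G)⁻¹ * x * z := by
      simp only [map_mul, map_inv, hue, hve]
    have h3 := (C.inJ_commute hc hv).eq
    rw [h2, hve] at h3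
    refine Subtype.ext ?_
    show ((x : G)⁻¹ * (z : G)⁻¹ * x * z)⁻¹ * (z : G)⁻¹ * ((x : G)⁻¹ * (z : G)⁻¹ * x * z) * z = 1
    rw [mul_assoc _ _ (z : G), h3]
    group
  have hres := Transfer.HallWielandt.pResidual_inf_le T Q hwc hstep
  set N := Subgroup.normalizer (Q : Set X)
  have hNP : N ≤ (T : Subgroup X) := by
    intro g hg
    have hgH : (g : G) ∈ C.H := by
      rw [← C.normalizer_J]
      refine Subgroup.mem_normalizer_fintype fun n hn => ?_
      exact (Subgroup.mem_normalizer_iff.1 hg ⟨n, hJX hn⟩).1 hn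
    obtain ⟨w, hw⟩ := hgH
    refine ⟨w, cent_z3 w (C.inj ?_), hw⟩
    rw [map_mul, map_mul, hw]
    exact Subgroup.mem_centralizer_singleton_iff.1 g.2
  have hbot : pResidual 3 N = ⊥ := by
    rw [eq_bot_iff, pResidual, Subgroup.closure_le]
    intro g hg
    obtain ⟨k, hk⟩ := IsPGroup.iff_orderOf.1 T.isPGroup' ⟨g, hNP g.2⟩
    have hk' : orderOf g = 3 ^ k := by
      rw [← orderOf_injective N.subtype N.subtype_injective g, ← hk,
        ← orderOf_injective (T : Subgroup X).subtype (Subgroup.subtype_injective _) ⟨g, hNP g.2⟩]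
      rfl
    have hg' : Nat.Coprime (orderOf g) 3 := hg
    rw [hk'] at hg'
    rcases k with _ | k
    · exact orderOf_eq_one_iff.1 (by simpa using hk')
    · exact absurd ((Nat.coprime_pow_left_iff (by omega) 3 3).1 hg') (by norm_num)
  rw [hbot, Subgroup.map_bot] at hres
  haveI := Transfer.pResidual_characteristic 3 X
  have hcop : (Nat.card (pResidual 3 X)).Coprime 3 := by
    rw [Nat.coprime_comm, Nat.Prime.coprime_iff_not_dvd (by norm_num)]
    intro hd
    obtain ⟨m, hm⟩ := exists_prime_orderOf_dvd_card' 3 hd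
    obtain ⟨R, hR⟩ := (IsPGroup.of_card (n := 1) (by
      rw [Nat.card_zpowers, Subgroup.orderOf_coe, hm, pow_one]) :
      IsPGroup 3 (Subgroup.zpowers (m : X))).exists_le_sylow
    obtain ⟨c, hc⟩ := MulAction.exists_smul_eq X R T
    have h1 : c * (m : X) * c⁻¹ ∈ (T : Subgroup X) := by
      rw [← hc, Sylow.coe_subgroup_smul]
      exact Subgroup.smul_mem_pointwise_smul _ (MulAut.conj c) _ (hR (Subgroup.mem_zpowers _))
    have h2 := hres ⟨Subgroup.Normal.conj_mem inferInstance _ m.2 c, h1⟩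
    rw [Subgroup.mem_bot, conj_eq_one_iff, OneMemClass.coe_eq_one] at h2
    rw [h2, orderOf_one] at hm
    omega
  have hres1 : pResidual 3 X = ⊥ := by
    refine le_bot_iff.1 ?_
    rw [← C.core _ (C.mem_H z3) (C.orderOf_θ z3_facts.1 z3_facts.2.2.1)]
    exact Grp.le_pPrimeCore inferInstance hcop
  refine le_antisymm (fun x hx => ?_) C.P_le_cent
  have htop : (⊤ : Subgroup X) = T := by
    rw [← Transfer.sylow_sup_pResidual T, hres1, sup_bot_eq]
  exact (show (⟨x, hx⟩ : X) ∈ (T : Subgroup X) from htop ▸ Subgroup.mem_top _)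

theorem cent_wt3 {v : W} (hv : inJ v = true) (h3 : wt v = 3) :
    Subgroup.centralizer ({C.θ v} : Set G) ≤ C.H := by
  obtain ⟨p, e, hc⟩ := wt_orbit z3 z3_facts.1 z3_facts.2.2.1 v hv
    (fun h => by rw [h] at h3; exact absurd h3 (by decide)) (z3_facts.2.1.trans h3.symm)
  set d := C.θ (⟨p, e, 0, 0, 0⟩ : W) with hd
  have hcd : d * C.θ z3 * d⁻¹ = C.θ v := by
    rw [hd, ← map_inv, ← map_mul, ← map_mul, hc]
  intro x hx
  rw [Subgroup.mem_centralizer_singleton_iff, ← hcd] at hx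
  have h1 : d⁻¹ * x * d ∈ C.P := by
    rw [← C.centralizer_z3, Subgroup.mem_centralizer_singleton_iff]
    calc d⁻¹ * x * d * C.θ z3 = d⁻¹ * (x * (d * C.θ z3 * d⁻¹)) * d := by group
      _ = C.θ z3 * (d⁻¹ * x * d) := by rw [hx]; group
  have h2 : d * (d⁻¹ * x * d) * d⁻¹ ∈ C.H :=
    mul_mem (mul_mem (C.mem_H _) (C.P_le_H h1)) (inv_mem (C.mem_H _))
  simpa [mul_assoc] using h2

/-- The core is the largest three-subgroup through it in the centralizer of an element of weight one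
or two. -/
theorem eq_J_of_le {u : W} (hu : inJ u = true) (hw : wt u = 1 ∨ wt u = 2) {Q : Subgroup G}
    (hQ : IsPGroup 3 Q) (hle : C.J ≤ Q) (hc : Q ≤ Subgroup.centralizer ({C.θ u} : Set G)) :
    Q = C.J := by
  refine C.eq_of_inf_H hQ hle C.normalizer_J.le ?_
  rintro _ ⟨hxQ, ⟨w, rfl⟩⟩
  refine C.mem_J (three_part u hu hw w (C.inj ?_) ?_)
  · rw [map_mul, map_mul]
    exact Subgroup.mem_centralizer_singleton_iff.1 (hc hxQ)
  · obtain ⟨k, hk⟩ := hQ ⟨C.θ w, hxQ⟩
    refine nine_of_pow (k := k) (C.inj ?_)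
    rw [map_pow, map_one]
    exact congrArg Subtype.val hk

/-- The core is a Sylow subgroup of a group between it and the centralizer of an element of weight
one or two. -/
theorem sylow_J {u : W} (hu : inJ u = true) (hw : wt u = 1 ∨ wt u = 2) {X : Subgroup G}
    (hJ : C.J ≤ X) (hX : X ≤ Subgroup.centralizer ({C.θ u} : Set G)) :
    ∃ T : Sylow 3 X, (T : Subgroup X) = C.J.subgroupOf X :=
  ⟨⟨C.J.subgroupOf X, C.isPGroup_J.comap_subtype, fun {Q} hQ hle => by
    have h1 : C.J ≤ Q.map X.subtype := fun x hx => ⟨⟨x, hJ hx⟩, hle hx, rfl⟩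
    refine le_antisymm (fun q hq => ?_) hle
    show (q : G) ∈ C.J
    rw [← C.eq_J_of_le hu hw (hQ.map _) h1 (by
      rintro _ ⟨x, -, rfl⟩
      exact hX x.2)]
    exact ⟨q, hq, rfl⟩⟩, rfl⟩

/-- Elements of weight three are fused only with themselves. -/
theorem wt_three_of_fused {u v : W} (hu : inJ u = true) (hv : inJ v = true) (hv3 : wt v = 3)
    {g : G} (hg : g * C.θ u * g⁻¹ = C.θ v) : wt u = 3 := by
  have hu1 : u ≠ 1 := by
    rintro rfl
    rw [map_one, mul_one, mul_inv_cancel, ← map_one C.θ] at hg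
    rw [← C.inj hg] at hv3
    exact absurd hv3 (by decide)
  by_contra hne
  have hw : wt u = 1 ∨ wt u = 2 := by
    rcases (wt_pos u hu).1 hu1 with h | h | h
    exacts [Or.inl h, Or.inr h, absurd h hne]
  obtain ⟨p, e, hc⟩ := wt_orbit z3 z3_facts.1 z3_facts.2.2.1 v hv
    (fun h => by rw [h] at hv3; exact absurd hv3 (by decide)) (z3_facts.2.1.trans hv3.symm)
  set d := g⁻¹ * C.θ (⟨p, e, 0, 0, 0⟩ : W) with hd
  have hcd : d * C.θ z3 * d⁻¹ = C.θ u := by
    rw [hd, mul_inv_rev, inv_inv, show C.θ u = g⁻¹ * (g * C.θ u * g⁻¹) * g by group, hg, ← hc,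
      map_mul, map_mul, map_inv]
    group
  have hQ : IsPGroup 3 (C.P.map (MulAut.conj d).toMonoidHom) := C.isPGroup_P.map _
  have hJQ : C.J ≤ C.P.map (MulAut.conj d).toMonoidHom := by
    rintro _ ⟨w, hw', rfl⟩
    refine ⟨d⁻¹ * C.θ w * d, ?_, by simp [mul_assoc]⟩
    rw [SetLike.mem_coe, ← C.centralizer_z3, Subgroup.mem_centralizer_singleton_iff]
    have h := (C.inJ_commute hw' hu).eq
    rw [← hcd] at h
    calc d⁻¹ * C.θ w * d * C.θ z3 = d⁻¹ * (C.θ w * (d * C.θ z3 * d⁻¹)) * d := by group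
      _ = C.θ z3 * (d⁻¹ * C.θ w * d) := by rw [h]; group
  have hc' : C.P.map (MulAut.conj d).toMonoidHom ≤ Subgroup.centralizer ({C.θ u} : Set G) := by
    rintro _ ⟨x, hx, rfl⟩
    rw [Subgroup.mem_centralizer_singleton_iff, ← hcd]
    rw [← C.centralizer_z3, SetLike.mem_coe, Subgroup.mem_centralizer_singleton_iff] at hx
    show d * x * d⁻¹ * (d * C.θ z3 * d⁻¹) = d * C.θ z3 * d⁻¹ * (d * x * d⁻¹)
    calc d * x * d⁻¹ * (d * C.θ z3 * d⁻¹) = d * (x * C.θ z3) * d⁻¹ := by group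
      _ = _ := by rw [hx]; group
  have hcard : Nat.card (C.P.map (MulAut.conj d).toMonoidHom) = Nat.card C.J := by
    rw [C.eq_J_of_le hu hw hQ hJQ hc']
  rw [Subgroup.card_map_of_injective (MulAut.conj d).injective, C.card_P, C.card_J] at hcard
  omega

/-- Fusion in the core is controlled by the normalizer, also relative to elements of the core. -/
theorem fusion {u v : W} (hu : inJ u = true) (hu1 : u ≠ 1) (hv : inJ v = true) (S : List W)
    (hS : ∀ s ∈ S, inJ s = true) {g : G} (hgS : ∀ s ∈ S, g * C.θ s = C.θ s * g)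
    (hg : g * C.θ u * g⁻¹ = C.θ v) :
    ∃ w : W, (∀ s ∈ S, w * s = s * w) ∧ w * u * w⁻¹ = v := by
  haveI : Fact (Nat.Prime 3) := ⟨by norm_num⟩
  have hv1 : v ≠ 1 := by
    rintro rfl
    rw [map_one, conj_eq_one_iff, ← map_one C.θ] at hg
    exact hu1 (C.inj hg)
  have hgH : ∀ {x : G}, x ∈ C.H → (∀ s ∈ S, x * C.θ s = C.θ s * x) →
      x * C.θ u * x⁻¹ = C.θ v → ∃ w : W, (∀ s ∈ S, w * s = s * w) ∧ w * u * w⁻¹ = v := by
    rintro _ ⟨w, rfl⟩ h1 h2
    refine ⟨w, fun s hs => C.inj (by rw [map_mul, map_mul, h1 s hs]), C.inj ?_⟩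
    rw [map_mul, map_mul, map_inv, h2]
  by_cases h3 : wt v = 3
  · have hu3 := C.wt_three_of_fused hu hv h3 hg
    obtain ⟨p, e, hc⟩ := wt_orbit v hv hv1 u hu hu1 (h3.trans hu3.symm)
    have h1 : g * C.θ (⟨p, e, 0, 0, 0⟩ : W) ∈ C.H := by
      refine C.cent_wt3 hv h3 (Subgroup.mem_centralizer_singleton_iff.2 ?_)
      set d := C.θ (⟨p, e, 0, 0, 0⟩ : W)
      have hd : d * C.θ v * d⁻¹ = C.θ u := by rw [← map_inv, ← map_mul, ← map_mul, hc]
      calc g * d * C.θ v = g * (d * C.θ v * d⁻¹) * d := by group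
        _ = g * C.θ u * g⁻¹ * (g * d) := by rw [hd]; group
        _ = C.θ v * (g * d) := by rw [hg]
    have h2 : g ∈ C.H := by simpa using mul_mem h1 (inv_mem (C.mem_H (⟨p, e, 0, 0, 0⟩ : W)))
    exact hgH h2 hgS hg
  have hv' : wt v = 1 ∨ wt v = 2 := by
    rcases (wt_pos v hv).1 hv1 with h | h | h
    exacts [Or.inl h, Or.inr h, absurd h h3]
  set X := Subgroup.centralizer ({x : G | x = C.θ v ∨ ∃ s ∈ S, x = C.θ s} : Set G)
  have hXv : X ≤ Subgroup.centralizer ({C.θ v} : Set G) :=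
    Subgroup.centralizer_le (Set.singleton_subset_iff.2 (Or.inl rfl))
  have hJX : C.J ≤ X := by
    rintro _ ⟨w, hw, rfl⟩
    refine Subgroup.mem_centralizer_iff.2 ?_
    rintro _ (rfl | ⟨s, hs, rfl⟩)
    exacts [(C.inJ_commute hv hw).eq, (C.inJ_commute (hS s hs) hw).eq]
  obtain ⟨T, hT⟩ := C.sylow_J hv hv' hJX hXv
  set J' := C.J.map (MulAut.conj g).toMonoidHom with hJ'
  have hJ'X : J' ≤ X := by
    rintro _ ⟨x, ⟨w, hw, rfl⟩, rfl⟩
    refine Subgroup.mem_centralizer_iff.2 ?_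
    show ∀ h, h = C.θ v ∨ (∃ s ∈ S, h = C.θ s) → h * (g * C.θ w * g⁻¹) = g * C.θ w * g⁻¹ * h
    rintro _ (rfl | ⟨s, hs, rfl⟩)
    · rw [← hg]
      calc g * C.θ u * g⁻¹ * (g * C.θ w * g⁻¹) = g * (C.θ u * C.θ w) * g⁻¹ := by group
        _ = g * C.θ w * g⁻¹ * (g * C.θ u * g⁻¹) := by rw [(C.inJ_commute hu hw).eq]; group
    · have hsg : g * C.θ s * g⁻¹ = C.θ s := by rw [hgS s hs, mul_inv_cancel_right]
      nth_rewrite 1 [← hsg]
      nth_rewrite 2 [← hsg]
      calc g * C.θ s * g⁻¹ * (g * C.θ w * g⁻¹) = g * (C.θ s * C.θ w) * g⁻¹ := by group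
        _ = g * C.θ w * g⁻¹ * (g * C.θ s * g⁻¹) := by
          rw [(C.inJ_commute (hS s hs) hw).eq]; group
  obtain ⟨R, hR⟩ := (show IsPGroup 3 (J'.subgroupOf X) from
    (C.isPGroup_J.map _).comap_subtype).exists_le_sylow
  obtain ⟨c, hc⟩ := MulAction.exists_smul_eq X R T
  have hle : C.J.map (MulAut.conj ((c : G) * g)).toMonoidHom ≤ C.J := by
    rintro _ ⟨x, hx, rfl⟩
    have hm : g * x * g⁻¹ ∈ J' := ⟨x, hx, rfl⟩
    have h1 : c * ⟨g * x * g⁻¹, hJ'X hm⟩ * c⁻¹ ∈ (T : Subgroup X) := by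
      rw [← hc, Sylow.coe_subgroup_smul]
      exact Subgroup.smul_mem_pointwise_smul _ (MulAut.conj c) _ (hR hm)
    rw [hT] at h1
    have h2 : (c : G) * (g * x * g⁻¹) * (c : G)⁻¹ ∈ C.J := h1
    show (c : G) * g * x * ((c : G) * g)⁻¹ ∈ C.J
    simpa [mul_assoc] using h2
  have hcgH : (c : G) * g ∈ C.H := by
    rw [← C.normalizer_J]
    exact Subgroup.mem_normalizer_fintype fun n hn => hle ⟨n, hn, rfl⟩
  have hcX := Subgroup.mem_centralizer_iff.1 c.2
  refine hgH hcgH (fun s hs => ?_) ?_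
  · calc (c : G) * g * C.θ s = (c : G) * C.θ s * g := by rw [mul_assoc, hgS s hs, mul_assoc]
      _ = C.θ s * ((c : G) * g) := by rw [← hcX _ (Or.inr ⟨s, hs, rfl⟩), mul_assoc]
  · calc (c : G) * g * C.θ u * ((c : G) * g)⁻¹ = c * (g * C.θ u * g⁻¹) * (c : G)⁻¹ := by group
      _ = C.θ v := by rw [hg, ← hcX _ (Or.inl rfl), mul_inv_cancel_right]

/-- The conjugates in `H` of elements of weight one lie in the core. -/
theorem closed_one {u : W} (hu : inJ u = true) (h1 : wt u = 1) {g : G} {v : W}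
    (hg : g * C.θ u * g⁻¹ = C.θ v) : inJ v = true := by
  haveI : Fact (Nat.Prime 3) := ⟨by norm_num⟩
  by_contra hne
  have hv3 : v * v * v = 1 := C.inj (by
    rw [map_mul, map_mul, map_one, ← hg]
    calc g * C.θ u * g⁻¹ * (g * C.θ u * g⁻¹) * (g * C.θ u * g⁻¹) =
        g * C.θ (u * u * u) * g⁻¹ := by rw [map_mul, map_mul]; group
      _ = 1 := by rw [(inJ_mul u hu u hu).2.2, map_one]; group)
  obtain ⟨z, hz, hz3, hvz⟩ := wt3_commute v hv3 (Bool.eq_false_iff.2 hne)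
  have hu1 : u ≠ 1 := fun h => by rw [h] at h1; exact absurd h1 (by decide)
  have hz1 : z ≠ 1 := fun h => by rw [h] at hz3; exact absurd hz3 (by decide)
  set Y := Subgroup.centralizer ({C.θ u} : Set G)
  have hyY : g⁻¹ * C.θ z * g ∈ Y := by
    rw [Subgroup.mem_centralizer_singleton_iff]
    have h : C.θ v * C.θ z = C.θ z * C.θ v := by rw [← map_mul, ← map_mul, hvz]
    rw [← hg] at h
    calc g⁻¹ * C.θ z * g * C.θ u = g⁻¹ * (C.θ z * (g * C.θ u * g⁻¹)) * g := by group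
      _ = C.θ u * (g⁻¹ * C.θ z * g) := by rw [← h]; group
  have hJY : C.J ≤ Y := by
    rintro _ ⟨w, hw, rfl⟩
    exact Subgroup.mem_centralizer_singleton_iff.2 (C.inJ_commute hw hu).eq
  obtain ⟨T, hT⟩ := C.sylow_J hu (Or.inl h1) hJY le_rfl
  have ho : orderOf (⟨_, hyY⟩ : Y) = 3 := by
    rw [Subgroup.orderOf_mk, show g⁻¹ * C.θ z * g = MulAut.conj g⁻¹ (C.θ z) by simp,
      MulEquiv.orderOf_eq, C.orderOf_θ hz hz1]
  obtain ⟨R, hR⟩ := (IsPGroup.of_card (n := 1) (by rw [Nat.card_zpowers, ho, pow_one]) :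
    IsPGroup 3 (Subgroup.zpowers (⟨_, hyY⟩ : Y))).exists_le_sylow
  obtain ⟨c, hc⟩ := MulAction.exists_smul_eq Y R T
  have h2 : c * ⟨_, hyY⟩ * c⁻¹ ∈ (T : Subgroup Y) := by
    rw [← hc, Sylow.coe_subgroup_smul]
    exact Subgroup.smul_mem_pointwise_smul _ (MulAut.conj c) _ (hR (Subgroup.mem_zpowers _))
  rw [hT] at h2
  obtain ⟨z', hz', hze⟩ : (c : G) * (g⁻¹ * C.θ z * g) * (c : G)⁻¹ ∈ C.J := h2
  have hz'1 : z' ≠ 1 := by
    rintro rfl
    rw [map_one, eq_comm, conj_eq_one_iff] at hze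
    have h : C.θ z = 1 := by
      calc C.θ z = g * (g⁻¹ * C.θ z * g) * g⁻¹ := by group
        _ = 1 := by rw [hze]; group
    exact hz1 (C.inj (h.trans (map_one C.θ).symm))
  set k := g * (c : G)⁻¹ with hk
  have hkz : k * C.θ z' * k⁻¹ = C.θ z := by rw [hk, hze]; group
  have h3 := C.wt_three_of_fused hz' hz hz3 hkz
  obtain ⟨p, e, hpe⟩ := wt_orbit z' hz' hz'1 z hz hz1 (h3.trans hz3.symm)
  have hkH : k ∈ C.H := by
    set d := C.θ (⟨p, e, 0, 0, 0⟩ : W)
    have hd : d * C.θ z' * d⁻¹ = C.θ z := by rw [← map_inv, ← map_mul, ← map_mul, hpe]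
    have h4 : d⁻¹ * k ∈ C.H := C.cent_wt3 hz' h3 (Subgroup.mem_centralizer_singleton_iff.2 (by
      calc d⁻¹ * k * C.θ z' = d⁻¹ * (k * C.θ z' * k⁻¹) * k := by group
        _ = C.θ z' * (d⁻¹ * k) := by rw [hkz, ← hd]; group))
    have h5 := mul_mem (C.mem_H (⟨p, e, 0, 0, 0⟩ : W)) h4
    rwa [show C.θ (⟨p, e, 0, 0, 0⟩ : W) * (d⁻¹ * k) = k from mul_inv_cancel_left d k] at h5
  obtain ⟨w, hw⟩ := hkH
  have hcu : (c : G)⁻¹ * C.θ u * c = C.θ u := by
    rw [mul_assoc, ← Subgroup.mem_centralizer_singleton_iff.1 c.2, inv_mul_cancel_left]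
  have hkv : C.θ (w * u * w⁻¹) = C.θ v := by
    rw [map_mul, map_mul, map_inv, hw, ← hg, hk,
      show g * (c : G)⁻¹ * C.θ u * (g * (c : G)⁻¹)⁻¹ =
        g * ((c : G)⁻¹ * C.θ u * c) * g⁻¹ by group, hcu]
  rw [← C.inj hkv] at hne
  exact hne (inJ_conj u hu w)

end Ctx

end Cfsg.Agent.Recog.AltNine
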