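import Cfsg.Agent.Lib.Recog.MonoCubeMain

/-!
The normalizer in the alternating group of degree nine of the group generated by three disjoint
three-cycles is the code group, and the identification of an abstract copy of it.
-/

set_option autoImplicit false

namespace Cfsg.Agent.Recog.AltNine

open Equiv Cfsg.Agent.Recog.MonoCube Cfsg.Agent.Recog.MonoCube.W

/-- The three cycles in the code. -/
def jA : W := ⟨0, 0, 1, 0, 0⟩
def jB : W := ⟨0, 0, 0, 1, 0⟩
def jC : W := ⟨0, 0, 0, 0, 1⟩

theorem perm_jA : toPerm jA = swap (0 : Fin 9) 1 * swap 1 2 := by decide +kernel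
theorem perm_jB : toPerm jB = swap (3 : Fin 9) 4 * swap 4 5 := by decide +kernel
theorem perm_jC : toPerm jC = swap (6 : Fin 9) 7 * swap 7 8 := by decide +kernel

theorem inJ_word : ∀ w : W, inJ w = true →
    w = (if w.x = 0 then 1 else if w.x = 1 then jA else jA * jA) *
      (if w.y = 0 then 1 else if w.y = 1 then jB else jB * jB) *
      (if w.z = 0 then 1 else if w.z = 1 then jC else jC * jC) := by decide +kernel

/-- The group generated by the three cycles is the image of the core. -/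
theorem closure_three : Subgroup.closure ({swap (0 : Fin 9) 1 * swap 1 2,
    swap (3 : Fin 9) 4 * swap 4 5, swap (6 : Fin 9) 7 * swap 7 8} : Set (Perm (Fin 9))) =
      jGrp.map toPerm := by
  rw [← perm_jA, ← perm_jB, ← perm_jC]
  refine le_antisymm ((Subgroup.closure_le _).2 ?_) ?_
  · intro x hx
    simp only [Set.mem_insert_iff, Set.mem_singleton_iff] at hx
    rcases hx with rfl | rfl | rfl
    exacts [⟨jA, rfl, rfl⟩, ⟨jB, rfl, rfl⟩, ⟨jC, rfl, rfl⟩]
  · rintro _ ⟨w, hw, rfl⟩
    have hm : ∀ g : W, g = jA ∨ g = jB ∨ g = jC → toPerm g ∈ Subgroup.closure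
        ({toPerm jA, toPerm jB, toPerm jC} : Set (Perm (Fin 9))) := by
      intro g hg
      refine Subgroup.subset_closure ?_
      rcases hg with rfl | rfl | rfl <;> simp
    have hp : ∀ g : W, g = jA ∨ g = jB ∨ g = jC → ∀ a : Fin 3,
        toPerm (if a = 0 then 1 else if a = 1 then g else g * g) ∈ Subgroup.closure
          ({toPerm jA, toPerm jB, toPerm jC} : Set (Perm (Fin 9))) := by
      intro g hg a
      split_ifs
      · rw [map_one]; exact one_mem _
      · exact hm g hg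
      · rw [map_mul]; exact mul_mem (hm g hg) (hm g hg)
    rw [inJ_word w hw, map_mul, map_mul]
    exact mul_mem (mul_mem (hp _ (Or.inl rfl) _) (hp _ (Or.inr (Or.inl rfl)) _))
      (hp _ (Or.inr (Or.inr rfl)) _)

theorem toPerm_apply (w : W) (t : Fin 3 × Fin 3) :
    toPerm w (finProdFinEquiv t) = finProdFinEquiv (act w t) := by
  simp [toPerm, Equiv.permCongr_apply]

theorem fixed_six : ∀ w : W, inJ w = true →
    (Finset.univ.filter fun t : Fin 3 × Fin 3 => act w t = t).card = 6 → wt w = 1 := by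
  decide +kernel

/-- A generator of a block, or its inverse. -/
def unit (b : Fin 3) (s : Bool) : W :=
  (![jA, jB, jC] : Fin 3 → W) b * if s then (![jA, jB, jC] : Fin 3 → W) b else 1

theorem wt_one_cases : ∀ w : W, inJ w = true → wt w = 1 → ∃ b s, w = unit b s := by decide +kernel

theorem triples : ∀ b₁ b₂ b₃ : Fin 3, ∀ s₁ s₂ s₃ : Bool, b₁ ≠ b₂ → b₁ ≠ b₃ → b₂ ≠ b₃ → ∃ w : W,
    (w * jA * w⁻¹ = unit b₁ s₁ ∨ w * (jA * jA) * w⁻¹ = unit b₁ s₁) ∧
      w * jB * w⁻¹ = unit b₂ s₂ ∧ w * jC * w⁻¹ = unit b₃ s₃ := by decide +kernel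

theorem unit_inj : ∀ b b' s s', unit b s = unit b' s' ∨ unit b s = unit b' s' * unit b' s' →
    b = b' := by decide +kernel

theorem sign_toPerm (w : W) : Perm.sign (toPerm w) = 1 := by
  let χ : W →* ℤˣ := Perm.sign.comp toPerm
  have h : Subgroup.closure gens ≤ χ.ker := by
    refine (Subgroup.closure_le _).2 ?_
    intro x hx
    simp only [gens, Set.mem_insert_iff, Set.mem_singleton_iff] at hx
    obtain ⟨h1, h2, h3, h4⟩ := toPerm_gens
    rcases hx with rfl | rfl | rfl | rfl <;>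
      simp [χ, MonoidHom.mem_ker, h1, h2, h3, h4]
  rw [closure_gens] at h
  exact h (Subgroup.mem_top w)

theorem fixed_card (w : W) : (Finset.univ.filter fun x : Fin 9 => toPerm w x = x).card =
    (Finset.univ.filter fun t : Fin 3 × Fin 3 => act w t = t).card := by
  refine (Finset.card_equiv (finProdFinEquiv : Fin 3 × Fin 3 ≃ Fin 9) fun t => ?_).symm
  simp only [Finset.mem_filter, Finset.mem_univ, true_and, toPerm_apply]
  exact finProdFinEquiv.injective.eq_iff.symm

theorem central_perm : ∀ x : Fin 9, ∀ y : Fin 9,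
    (toPerm jA x = x ↔ toPerm jA y = y) → (toPerm jB x = x ↔ toPerm jB y = y) →
    x / 3 = y / 3 := by decide +kernel

theorem block_shift : ∀ x y : Fin 9, x / 3 = y / 3 → ∃ i : Fin 3,
    toPerm (⟨0, 0, i, i, i⟩ : W) x = y := by decide +kernel

theorem shift_block : ∀ x : Fin 9, ∀ i j k : Fin 3,
    toPerm (⟨0, 0, i, j, k⟩ : W) x =
      toPerm (⟨0, 0, ![i, j, k] ⟨x / 3, by omega⟩, ![i, j, k] ⟨x / 3, by omega⟩,
        ![i, j, k] ⟨x / 3, by omega⟩⟩ : W) x := by decide +kernel

theorem block_gen : ∀ x y : Fin 9, x / 3 = y / 3 → ∃ n : Fin 3,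
    (toPerm jA * toPerm jB * toPerm jC) ^ (n : ℕ) = toPerm (⟨0, 0, n, n, n⟩ : W) ∧
      toPerm (⟨0, 0, n, n, n⟩ : W) x = y := by decide +kernel

/-- A permutation commuting with the three cycles lies in their product. -/
theorem mem_of_commute {τ : Perm (Fin 9)} (hA : τ * toPerm jA = toPerm jA * τ)
    (hB : τ * toPerm jB = toPerm jB * τ) (hC : τ * toPerm jC = toPerm jC * τ) :
    τ ∈ jGrp.map toPerm := by
  have hfix : ∀ {g : Perm (Fin 9)}, τ * g = g * τ → ∀ x, g x = x ↔ g (τ x) = τ x := by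
    intro g hg x
    have h := DFunLike.congr_fun hg x
    simp only [Perm.mul_apply] at h
    exact ⟨fun e => by rw [← h, e], fun e => τ.injective (h.trans e)⟩
  have hblk : ∀ x, x / 3 = τ x / 3 := fun x => central_perm x (τ x) (hfix hA x) (hfix hB x)
  obtain ⟨i, hi⟩ := block_shift 0 (τ 0) (hblk 0)
  obtain ⟨j, hj⟩ := block_shift 3 (τ 3) (hblk 3)
  obtain ⟨k, hk⟩ := block_shift 6 (τ 6) (hblk 6)
  refine ⟨⟨0, 0, i, j, k⟩, rfl, Equiv.ext fun x => ?_⟩
  have hσ : τ * (toPerm jA * toPerm jB * toPerm jC) = toPerm jA * toPerm jB * toPerm jC * τ := by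
    rw [← mul_assoc, ← mul_assoc, hA, mul_assoc (toPerm jA), hB, ← mul_assoc,
      mul_assoc (toPerm jA * toPerm jB), hC, ← mul_assoc]
  have hpow : ∀ n : Fin 3, ∀ y, τ ((toPerm jA * toPerm jB * toPerm jC) ^ (n : ℕ) $ y) =
      ((toPerm jA * toPerm jB * toPerm jC) ^ (n : ℕ)) (τ y) := fun n y =>
    DFunLike.congr_fun (Commute.pow_right (hσ : Commute τ _) (n : ℕ)).eq y
  have key : ∀ r : Fin 9, r / 3 = x / 3 →
      toPerm (⟨0, 0, i, j, k⟩ : W) r = τ r → toPerm (⟨0, 0, i, j, k⟩ : W) x = τ x := by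
    intro r hr he
    obtain ⟨n, hn, hnx⟩ := block_gen r x hr
    rw [← hnx, ← hn, hpow n, ← he, hn, ← Perm.mul_apply, ← Perm.mul_apply, ← map_mul, ← map_mul]
    congr 1
    congr 1
    exact (shift_comm i j k n).symm
  have hx : ∀ y : Fin 9, y / 3 = 0 ∨ y / 3 = 1 ∨ y / 3 = 2 := by decide
  rcases hx x with h | h | h
  · refine key 0 (by rw [h]; rfl) ?_
    rw [shift_block]; exact hi
  · refine key 3 (by rw [h]; rfl) ?_
    rw [shift_block]; exact hj
  · refine key 6 (by rw [h]; rfl) ?_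
    rw [shift_block]; exact hk
where
  shift_comm : ∀ i j k n : Fin 3, (⟨0, 0, n, n, n⟩ : W) * ⟨0, 0, i, j, k⟩ =
      ⟨0, 0, i, j, k⟩ * ⟨0, 0, n, n, n⟩ := by decide +kernel

theorem flip_jA : swap (1 : Fin 9) 2 * toPerm jA * swap (1 : Fin 9) 2 = toPerm (jA * jA) ∧
    swap (1 : Fin 9) 2 * toPerm jB * swap (1 : Fin 9) 2 = toPerm jB ∧
    swap (1 : Fin 9) 2 * toPerm jC * swap (1 : Fin 9) 2 = toPerm jC := by decide +kernel

/-- The code group is the normalizer in the alternating group. -/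
theorem range_eq : toPerm.range = alternatingGroup (Fin 9) ⊓
    Subgroup.normalizer ((Subgroup.closure ({swap (0 : Fin 9) 1 * swap 1 2,
      swap (3 : Fin 9) 4 * swap 4 5, swap (6 : Fin 9) 7 * swap 7 8} : Set (Perm (Fin 9)))) :
        Set (Perm (Fin 9))) := by
  rw [closure_three]
  refine le_antisymm ?_ ?_
  · rintro _ ⟨w, rfl⟩
    refine ⟨Perm.mem_alternatingGroup.2 (sign_toPerm w), Subgroup.mem_normalizer_fintype ?_⟩
    rintro _ ⟨v, hv, rfl⟩
    exact ⟨w * v * w⁻¹, inJ_conj v hv w, by simp⟩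
  · rintro σ ⟨hs, hn⟩
    have hs' : Perm.sign σ = 1 := Perm.mem_alternatingGroup.1 hs
    have himg : ∀ g : W, g = jA ∨ g = jB ∨ g = jC → ∃ b s,
        σ * toPerm g * σ⁻¹ = toPerm (unit b s) := by
      intro g hg
      have hgJ : inJ g = true := by rcases hg with rfl | rfl | rfl <;> rfl
      obtain ⟨v, hv, hve⟩ := (Subgroup.mem_normalizer_iff.1 hn (toPerm g)).1 ⟨g, hgJ, rfl⟩
      have h6 : (Finset.univ.filter fun x : Fin 9 => toPerm g x = x).card = 6 := by
        rcases hg with rfl | rfl | rfl <;> decide +kernel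
      have hw : wt v = 1 := by
        refine fixed_six v hv ?_
        rw [← fixed_card, ← h6, ← Fintype.card_subtype, ← Fintype.card_subtype]
        refine (Fintype.card_congr (σ.subtypeEquiv fun x => ?_)).symm
        rw [hve]
        simp
      obtain ⟨b, s, hbs⟩ := wt_one_cases v hv hw
      exact ⟨b, s, by rw [← hve, hbs]⟩
    obtain ⟨b₁, s₁, h₁⟩ := himg jA (Or.inl rfl)
    obtain ⟨b₂, s₂, h₂⟩ := himg jB (Or.inr (Or.inl rfl))
    obtain ⟨b₃, s₃, h₃⟩ := himg jC (Or.inr (Or.inr rfl))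
    have hne : ∀ {g g' : W} {b b' : Fin 3} {s s' : Bool},
        σ * toPerm g * σ⁻¹ = toPerm (unit b s) → σ * toPerm g' * σ⁻¹ = toPerm (unit b' s') →
        g ≠ g' → g ≠ g' * g' → b ≠ b' := by
      intro g g' b b' s s' hg hg' n1 n2 hb
      subst hb
      have hs2 : ∀ b s s', unit b s = unit b s' ∨ unit b s = unit b s' * unit b s' := by decide +kernel
      rcases hs2 b s s' with e | e
      · rw [e, ← hg'] at hg
        exact n1 (toPerm_injective (mul_left_cancel (mul_right_cancel hg)))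
      · rw [e, map_mul, ← hg', show σ * toPerm g' * σ⁻¹ * (σ * toPerm g' * σ⁻¹) =
          σ * (toPerm g' * toPerm g') * σ⁻¹ by group] at hg
        exact n2 (toPerm_injective (by
          rw [map_mul]; exact mul_left_cancel (mul_right_cancel hg)))
    obtain ⟨w, hw1, hw2, hw3⟩ := triples b₁ b₂ b₃ s₁ s₂ s₃
      (hne h₁ h₂ (by decide) (by decide)) (hne h₁ h₃ (by decide) (by decide))
      (hne h₂ h₃ (by decide) (by decide))
    have hconj : ∀ {g g' : W} {v : W}, σ * toPerm g * σ⁻¹ = toPerm v → w * g' * w⁻¹ = v →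
        (toPerm w)⁻¹ * σ * toPerm g = toPerm g' * ((toPerm w)⁻¹ * σ) := by
      intro g g' v hg hv
      rw [← hv, map_mul, map_mul, map_inv] at hg
      rw [show toPerm g' * ((toPerm w)⁻¹ * σ) =
        (toPerm w)⁻¹ * (toPerm w * toPerm g' * (toPerm w)⁻¹) * σ by group, ← hg]
      group
    rcases hw1 with hw1 | hw1
    · obtain ⟨v, -, hv⟩ := mem_of_commute (hconj h₁ hw1) (hconj h₂ hw2) (hconj h₃ hw3)
      exact ⟨w * v, by rw [map_mul, hv]; group⟩
    · exfalso
      obtain ⟨f1, f2, f3⟩ := flip_jA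
      set ρ : Perm (Fin 9) := swap 1 2 with hρdef
      have hρ : ρ * ρ = 1 := swap_mul_self _ _
      set τ := (toPerm w)⁻¹ * σ with hτ
      have hc : ∀ {g g' : W}, τ * toPerm g = toPerm g' * τ → ρ * toPerm g' * ρ = toPerm g →
          ρ * τ * toPerm g = toPerm g * (ρ * τ) := by
        intro g g' ht hr
        rw [← hr]
        calc ρ * τ * (ρ * toPerm g' * ρ) = ρ * τ * toPerm g := by rw [hr]
          _ = ρ * (toPerm g' * τ) := by rw [mul_assoc, ht]
          _ = ρ * toPerm g' * (ρ * ρ) * τ := by rw [hρ, mul_one, mul_assoc]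
          _ = ρ * toPerm g' * ρ * (ρ * τ) := by group
      have g1 : ρ * toPerm (jA * jA) * ρ = toPerm jA := by
        rw [← f1]
        calc ρ * (ρ * toPerm jA * ρ) * ρ = (ρ * ρ) * toPerm jA * (ρ * ρ) := by group
          _ = toPerm jA := by rw [hρ, one_mul, mul_one]
      obtain ⟨v, -, hv⟩ := mem_of_commute (hc (hconj h₁ hw1) g1) (hc (hconj h₂ hw2) f2)
        (hc (hconj h₃ hw3) f3)
      have h := congrArg Perm.sign hv
      rw [sign_toPerm, map_mul, hτ, map_mul, map_inv, sign_toPerm, hs', Perm.sign_swap (by decide)]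
        at h
      exact absurd h (by decide)

theorem abelian_normal : ∀ w : W, w * w * w = 1 → w * (jA * w * jA⁻¹) = jA * w * jA⁻¹ * w →
    inJ w = true := by decide +kernel

universe u

/-- A subgroup isomorphic to the normalizer is a copy of the code group carrying `J` to the core. -/
theorem exists_model {G : Type u} [Group G] [Finite G] (J : Subgroup G)
    (hJcomm : IsMulCommutative J) (hJexp : ∀ a ∈ J, a ^ 3 = 1) (hJcard : Nat.card J = 27)
    (H : Subgroup G) (hH : H = Subgroup.normalizer (J : Set G))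
    (J₀ : Subgroup (Perm (Fin 9)))
    (hJ₀ : J₀ = Subgroup.closure {swap (0 : Fin 9) 1 * swap 1 2, swap (3 : Fin 9) 4 * swap 4 5,
      swap (6 : Fin 9) 7 * swap 7 8})
    (eH : H ≃* ↥(alternatingGroup (Fin 9) ⊓ Subgroup.normalizer (J₀ : Set (Perm (Fin 9))))) :
    ∃ θ : W →* G, Function.Injective θ ∧ θ.range = H ∧ jGrp.map θ = J := by
  subst hJ₀
  let e1 : W ≃* ↥(alternatingGroup (Fin 9) ⊓ Subgroup.normalizer
      ((Subgroup.closure {swap (0 : Fin 9) 1 * swap 1 2, swap (3 : Fin 9) 4 * swap 4 5,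
        swap (6 : Fin 9) 7 * swap 7 8} : Subgroup (Perm (Fin 9))) : Set (Perm (Fin 9)))) :=
    (MonoidHom.ofInjective toPerm_injective).trans (MulEquiv.subgroupCongr range_eq)
  let e : W ≃* H := e1.trans eH.symm
  refine ⟨H.subtype.comp e.toMonoidHom, Subtype.val_injective.comp e.injective, ?_, ?_⟩
  · rw [MonoidHom.range_comp, MonoidHom.range_eq_top.2 e.surjective, ← MonoidHom.range_eq_map,
      Subgroup.range_subtype]
  have hle : J ≤ jGrp.map (H.subtype.comp e.toMonoidHom) := by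
    intro x hx
    have hJH : J ≤ H := hH ▸ Subgroup.le_normalizer
    obtain ⟨w, hw⟩ := e.surjective ⟨x, hJH hx⟩
    refine ⟨w, abelian_normal w ?_ ?_, congrArg Subtype.val hw⟩
    · refine e.injective (Subtype.ext ?_)
      rw [map_mul, map_mul, map_one, hw]
      show x * x * x = 1
      rw [← pow_three' x, hJexp x hx]
    · refine e.injective (Subtype.ext ?_)
      simp only [map_mul, map_inv, hw, Subgroup.coe_mul, Subgroup.coe_inv]
      set g : G := ((e jA : H) : G)
      have hg : g ∈ Subgroup.normalizer (J : Set G) := hH ▸ (e jA).2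
      have hy : g * x * g⁻¹ ∈ J := (Subgroup.mem_normalizer_iff.1 hg x).1 hx
      haveI := hJcomm
      exact congrArg Subtype.val (mul_comm' (⟨x, hx⟩ : J) ⟨_, hy⟩)
  refine (Subgroup.eq_of_le_of_card_ge hle ?_).symm
  rw [Subgroup.card_map_of_injective (f := H.subtype.comp e.toMonoidHom)
    (Subtype.val_injective.comp e.injective), card_jGrp, hJcard]

end Cfsg.Agent.Recog.AltNine
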