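import Cfsg.Agent.Lib.Recog.AltNine.GlueData
import Cfsg.Agent.Lib.Recog.AltNine.AltLift

/-!
The generators of the alternating group of degree nine in the copies of degree six.
-/

set_option autoImplicit false
set_option maxRecDepth 100000

namespace Cfsg.Agent.Recog.AltNine

open Equiv Cfsg.Agent.Recog.MonoCube Cfsg.Agent.Recog.MonoCube.W Cfsg.Agent.Lie.Carmichael

/-- The alternating group of degree nine. -/
abbrev A9 := alternatingGroup (Fin 9)

/-- A reordering of the nine points. -/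
def nineShift : Equiv (Fin 9) (Fin 9) :=
  ⟨![3, 4, 0, 1, 2, 5, 6, 7, 8], ![2, 3, 4, 0, 1, 5, 6, 7, 8], by decide, by decide⟩

/-- The points of degree nine, the two fixed ones in the middle block. -/
def midPts : Pt (Fin 7) ≃ Fin 9 := ninePts.trans nineShift

/-- A reordering of the six points. -/
def sixShift : Equiv (Fin 6) (Fin 6) :=
  ⟨![3, 4, 0, 1, 2, 5], ![2, 3, 4, 0, 1, 5], by decide, by decide⟩

/-- The points of degree six, the two fixed ones in the second block. -/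
def lastPts : Pt (Fin 4) ≃ Fin 6 := sixPts.trans sixShift

/-- The code permutation as an element of the alternating group. -/
def perm9 : W →* A9 :=
  toPerm.codRestrict _ fun w => Perm.mem_alternatingGroup.2 (sign_toPerm w)

theorem sign_e0 (τ : A6) : Perm.sign (e0 τ) = 1 := by
  show Perm.sign ((finSumFinEquiv : Fin 3 ⊕ Fin 6 ≃ Fin 9).permCongr _) = 1
  rw [Perm.sign_permCongr, Perm.sign_sumCongr, map_one, one_mul]
  exact Perm.mem_alternatingGroup.1 τ.2

/-- The embeddings of the copies in the alternating group of degree nine. -/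
def ek9 (k : Fin 3) : A6 →* A9 :=
  (ek k).codRestrict _ fun τ => Perm.mem_alternatingGroup.2 (by
    show Perm.sign (toPerm (gC k) * e0 τ * (toPerm (gC k))⁻¹) = 1
    rw [map_mul, map_mul, map_inv, sign_toPerm, sign_e0, one_mul, one_mul, inv_one])

namespace Fours

/-- The generators in the last copy. -/
def cA (i : Fin 4) : A6 := lastPts.altCongrHom (cyc i)

/-- The generators in the first copy. -/
def cC (i : Fin 4) : A6 := sixPts.altCongrHom (cyc i)

theorem cA_vals : cA 2 = ul ∧ cA 3 = Six.C0 ∧ cC 0 = Six.B0 ∧ cC 1 = xl := by decide +kernel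

theorem ek9_cyc : (∀ j : Fin 4, ek9 2 (cA j) = midPts.altCongrHom (cyc (![0, 1, 2, 3] j : Fin 7))) ∧
    ∀ j : Fin 4, ek9 0 (cC j) = midPts.altCongrHom (cyc (![3, 4, 5, 6] j : Fin 7)) := by
  decide +kernel

theorem same_copy : (∀ i, cA i * (cA i * cA i) = 1) ∧ (∀ i, cC i * (cC i * cC i) = 1) ∧
    (∀ i j, i ≠ j → cA i * cA j * (cA i * cA j) = 1) ∧
    ∀ i j, i ≠ j → cC i * cC j * (cC i * cC j) = 1 := by decide +kernel

theorem move_pair : ∀ i ∈ [(0 : Fin 4), 1, 2], ∀ j ∈ [(1 : Fin 4), 2, 3],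
    ∃ a c : Fin 3, (⟨0, 0, a, 0, c⟩ : W) * jK 2 * (⟨0, 0, a, 0, c⟩ : W)⁻¹ = jK 2 ∧
      (⟨0, 0, a, 0, c⟩ : W) * jK 0 * (⟨0, 0, a, 0, c⟩ : W)⁻¹ = jK 0 ∧
      toPerm (⟨0, 0, a, 0, c⟩ : W) * ek 2 ul * (toPerm (⟨0, 0, a, 0, c⟩ : W))⁻¹ = ek 2 (cA i) ∧
      toPerm (⟨0, 0, a, 0, c⟩ : W) * ek 0 xl * (toPerm (⟨0, 0, a, 0, c⟩ : W))⁻¹ = ek 0 (cC j) := by
  decide +kernel

/-- The element of order four exchanging the first two blocks. -/
def qC : W := ⟨3, 1, 0, 1, 0⟩

theorem gens_words : gA = jA ∧ gV = qC * qC ∧ gT = qA * qA * qC ∧ gB = qA * qA * qC * qA := by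
  decide +kernel

theorem gens_copies : toPerm jA = ek 2 Six.B0 ∧ (∃ τ, toPerm qA = ek 0 τ) ∧
    (∃ τ, toPerm qC = ek 2 τ) ∧ ∃ w : W, toPerm w = ek 1 Six.S0 := by
  refine ⟨?_, ?_, ?_, ⟨0, 1, 1, 0, 1⟩, ?_⟩ <;> decide +kernel

theorem ek1_comm : ∀ τ : A6, toPerm jB * ek 1 τ = ek 1 τ * toPerm jB := by decide +kernel

end Fours

end Cfsg.Agent.Recog.AltNine
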