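import Cfsg.Agent.Lib.Recog.AltNine.Glue
import Cfsg.Agent.Lib.Recog.AltNine.PhiData

/-!
The homomorphism of the alternating group of degree nine agreeing with the code group and with the
three copies of degree six.
-/

set_option autoImplicit false
set_option linter.style.haveILetI false
set_option linter.unusedSectionVars false

namespace Cfsg.Agent.Recog.AltNine

open Cfsg Subgroup Equiv Cfsg.Agent.Recog.MonoCube Cfsg.Agent.Recog.MonoCube.W Fours
open Cfsg.Agent.Lie.Carmichael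

universe u

namespace Ctx.Frame

open Code

variable {G : Type u} [Group G] [Finite G] {C : Ctx G} (F : C.Frame)

/-- The images of the generators. -/
def gen9 (i : Fin 7) : G :=
  if i.val < 4 then F.f 2 (cA ⟨i.val % 4, Nat.mod_lt _ (by norm_num)⟩)
  else F.f 0 (cC ⟨(i.val - 3) % 4, Nat.mod_lt _ (by norm_num)⟩)

theorem gen9_A (j : Fin 4) : F.gen9 (![0, 1, 2, 3] j) = F.f 2 (cA j) := by
  fin_cases j <;> rfl

theorem gen9_C (j : Fin 4) : F.gen9 (![3, 4, 5, 6] j) = F.f 0 (cC j) := by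
  fin_cases j
  · show F.f 2 (cA 3) = F.f 0 (cC 0)
    rw [cA_vals.2.1, cA_vals.2.2.1, ← F.f_agree 2 _ _ wW_facts.2.1,
      F.f_agree 0 _ _ wW_facts.2.2.2.2.2.1]
  all_goals rfl

theorem cross {i j : Fin 4} (hi : i ∈ [(0 : Fin 4), 1, 2]) (hj : j ∈ [(1 : Fin 4), 2, 3]) :
    F.f 2 (cA i) * F.f 0 (cC j) * (F.f 2 (cA i) * F.f 0 (cC j)) = 1 := by
  obtain ⟨a, c, h2, h0, hu, hx⟩ := move_pair i hi j hj
  rw [← F.f_conj 2 2 _ _ _ (Or.inl h2) hu, ← F.f_conj 0 0 _ _ _ (Or.inl h0) hx]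
  set d := C.θ (⟨0, 0, a, 0, c⟩ : W)
  calc d * F.f 2 ul * d⁻¹ * (d * F.f 0 xl * d⁻¹) * (d * F.f 2 ul * d⁻¹ * (d * F.f 0 xl * d⁻¹)) =
      d * (F.f 2 ul * F.f 0 xl * (F.f 2 ul * F.f 0 xl)) * d⁻¹ := by group
    _ = 1 := by rw [F.relation, mul_one, mul_inv_cancel]

theorem gen9_cases (i : Fin 7) : (∃ j : Fin 4, i = ![0, 1, 2, 3] j) ∨ ∃ j : Fin 4, i = ![3, 4, 5, 6] j := by
  revert i; decide

theorem exists_Phi : ∃ Φ : A9 →* G, ∀ i, Φ (midPts.altCongrHom (cyc i)) = F.gen9 i := by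
  obtain ⟨s1, s2, s3, s4⟩ := same_copy
  obtain ⟨f, hf⟩ := exists_lift (x := F.gen9) (fun i => by
      rcases gen9_cases i with ⟨j, rfl⟩ | ⟨j, rfl⟩
      · rw [F.gen9_A, ← map_pow, pow_succ, pow_two, mul_assoc, s1, map_one]
      · rw [F.gen9_C, ← map_pow, pow_succ, pow_two, mul_assoc, s2, map_one])
    (fun i i' hne => by
      rw [pow_two]
      rcases gen9_cases i with ⟨j, rfl⟩ | ⟨j, rfl⟩ <;> rcases gen9_cases i' with ⟨k, rfl⟩ | ⟨k, rfl⟩
      · rw [F.gen9_A, F.gen9_A, ← map_mul, ← map_mul, s3 j k (fun e => hne (e ▸ rfl)), map_one]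
      · by_cases hj : j = 3
        · subst hj
          rw [show (![0, 1, 2, 3] : Fin 4 → Fin 7) 3 = (![3, 4, 5, 6] : Fin 4 → Fin 7) 0 from rfl,
            F.gen9_C, F.gen9_C, ← map_mul, ← map_mul, s4 0 k (fun e => hne (e ▸ rfl)), map_one]
        · by_cases hk : k = 0
          · subst hk
            rw [show (![3, 4, 5, 6] : Fin 4 → Fin 7) 0 = (![0, 1, 2, 3] : Fin 4 → Fin 7) 3 from rfl,
              F.gen9_A, F.gen9_A, ← map_mul, ← map_mul, s3 j 3 hj, map_one]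
          · rw [F.gen9_A, F.gen9_C]
            exact F.cross ((by decide : ∀ j : Fin 4, j ≠ 3 → j ∈ [(0 : Fin 4), 1, 2]) j hj)
              ((by decide : ∀ j : Fin 4, j ≠ 0 → j ∈ [(1 : Fin 4), 2, 3]) k hk)
      · by_cases hk : k = 3
        · subst hk
          rw [show (![0, 1, 2, 3] : Fin 4 → Fin 7) 3 = (![3, 4, 5, 6] : Fin 4 → Fin 7) 0 from rfl,
            F.gen9_C, F.gen9_C, ← map_mul, ← map_mul, s4 j 0 (fun e => hne (e ▸ rfl)), map_one]
        · by_cases hj : j = 0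
          · subst hj
            rw [show (![3, 4, 5, 6] : Fin 4 → Fin 7) 0 = (![0, 1, 2, 3] : Fin 4 → Fin 7) 3 from rfl,
              F.gen9_A, F.gen9_A, ← map_mul, ← map_mul, s3 3 k (Ne.symm hk), map_one]
          · rw [F.gen9_A, F.gen9_C]
            have h := F.cross ((by decide : ∀ j : Fin 4, j ≠ 3 → j ∈ [(0 : Fin 4), 1, 2]) k hk)
              ((by decide : ∀ j : Fin 4, j ≠ 0 → j ∈ [(1 : Fin 4), 2, 3]) j hj)
            calc F.f 0 (cC j) * F.f 2 (cA k) * (F.f 0 (cC j) * F.f 2 (cA k)) =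
                F.f 0 (cC j) * (F.f 2 (cA k) * F.f 0 (cC j) * (F.f 2 (cA k) * F.f 0 (cC j))) *
                  (F.f 0 (cC j))⁻¹ := by group
              _ = 1 := by rw [h, mul_one, mul_inv_cancel]
      · rw [F.gen9_C, F.gen9_C, ← map_mul, ← map_mul, s4 j k (fun e => hne (e ▸ rfl)), map_one])
  refine ⟨f.comp midPts.altCongrHom.symm.toMonoidHom, fun i => ?_⟩
  rw [← hf i]
  exact congrArg f (MulEquiv.symm_apply_apply _ _)

theorem alt_hom_ext (π : Pt (Fin 4) ≃ Fin 6) {H : Type*} [Group H] {φ ψ : A6 →* H}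
    (h : ∀ j, φ (π.altCongrHom (cyc j)) = ψ (π.altCongrHom (cyc j))) : φ = ψ := by
  have e : φ.comp π.altCongrHom.toMonoidHom = ψ.comp π.altCongrHom.toMonoidHom := hom_ext h
  refine MonoidHom.ext fun τ => ?_
  obtain ⟨σ, rfl⟩ := π.altCongrHom.surjective τ
  exact DFunLike.congr_fun e σ

/-- The homomorphism extends all three copies and the code group. -/
theorem exists_extension : ∃ Φ : A9 →* G, Function.Injective Φ ∧
    (∀ k τ, Φ (ek9 k τ) = F.f k τ) ∧ ∀ w, Φ (perm9 w) = C.θ w := by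
  obtain ⟨Φ, hΦ⟩ := F.exists_Phi
  have h2 : Φ.comp (ek9 2) = F.f 2 := alt_hom_ext lastPts fun j => by
    show Φ (ek9 2 (cA j)) = F.f 2 (cA j)
    rw [ek9_cyc.1 j, hΦ, F.gen9_A]
  have h0 : Φ.comp (ek9 0) = F.f 0 := alt_hom_ext sixPts fun j => by
    show Φ (ek9 0 (cC j)) = F.f 0 (cC j)
    rw [ek9_cyc.2 j, hΦ, F.gen9_C]
  have hsame : ∀ (k : Fin 3) (w : W) (τ : A6), toPerm w = ek k τ → perm9 w = ek9 k τ :=
    fun k w τ h => Subtype.ext h
  have hθ : ∀ w, Φ (perm9 w) = C.θ w := by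
    have he : Φ.comp perm9 = C.θ := by
      refine MonoidHom.eq_of_eqOn_dense closure_gens ?_
      obtain ⟨hA, ⟨τa, hqA⟩, ⟨τc, hqC⟩, -⟩ := gens_copies
      have eA : Φ (perm9 jA) = C.θ jA := by
        rw [hsame 2 _ _ hA, F.f_agree 2 _ _ hA]; exact DFunLike.congr_fun h2 _
      have eqA : Φ (perm9 qA) = C.θ qA := by
        rw [hsame 0 _ _ hqA, F.f_agree 0 _ _ hqA]; exact DFunLike.congr_fun h0 _
      have eqC : Φ (perm9 qC) = C.θ qC := by
        rw [hsame 2 _ _ hqC, F.f_agree 2 _ _ hqC]; exact DFunLike.congr_fun h2 _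
      obtain ⟨g1, g2, g3, g4⟩ := gens_words
      intro x hx
      simp only [gens, Set.mem_insert_iff, Set.mem_singleton_iff] at hx
      show Φ (perm9 x) = C.θ x
      rcases hx with rfl | rfl | rfl | rfl
      · rw [g1, eA]
      · simp only [g4, map_mul, eqA, eqC]
      · simp only [g2, map_mul, eqC]
      · simp only [g3, map_mul, eqA, eqC]
    exact fun w => DFunLike.congr_fun he w
  haveI := alternatingGroup.isSimpleGroup (α := Fin 9) (by simp)
  have hinj : Function.Injective Φ := by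
    rw [← MonoidHom.ker_eq_bot_iff]
    refine (Φ.normal_ker.eq_bot_or_eq_top).resolve_right fun h => ?_
    have h1 : Φ (perm9 jA) = 1 := MonoidHom.mem_ker.1 (h ▸ mem_top _)
    rw [hθ, ← map_one C.θ] at h1
    exact absurd (C.inj h1) (by decide +kernel)
  refine ⟨Φ, hinj, fun k τ => ?_, hθ⟩
  fin_cases k
  · exact DFunLike.congr_fun h0 τ
  swap
  · exact DFunLike.congr_fun h2 τ
  have hek : Function.Injective (ek9 1) := fun a b h => by
    have h' : ek 1 a = ek 1 b := congrArg Subtype.val h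
    exact e0_injective ((MulAut.conj (toPerm (gC 1))).injective h')
  have h1 : Φ.comp (ek9 1) = F.f 1 := by
    obtain ⟨-, -, hjC, hjA, -⟩ := wW_facts
    obtain ⟨-, -, -, w, hw⟩ := gens_copies
    refine F.f_unique 1 _ (hinj.comp hek) (fun τ => ?_) ?_ ?_ ?_
    · show Commute (C.θ jB) (Φ (ek9 1 τ))
      rw [← hθ jB]
      exact (show Commute (perm9 jB) (ek9 1 τ) from Subtype.ext (ek1_comm τ)).map Φ
    · rw [← F.f_agree 1 _ _ hjC, ← hθ jC, hsame 1 _ _ hjC]; rfl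
    · rw [← F.f_agree 1 _ _ hjA, ← hθ jA, hsame 1 _ _ hjA]; rfl
    · rw [← F.f_agree 1 _ _ hw, ← hθ w, hsame 1 _ _ hw]; rfl
  exact DFunLike.congr_fun h1 τ

end Ctx.Frame

end Cfsg.Agent.Recog.AltNine
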