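import Cfsg.Agent.Lib.Recog.AltNine.FoursData

/-!
Finite facts for the exclusion of small centralizers of regular four groups.
-/

set_option autoImplicit false
set_option maxRecDepth 100000

namespace Cfsg.Agent.Recog.AltNine

open Equiv Cfsg.Agent.Recog.MonoCube Cfsg.Agent.Recog.MonoCube.W

namespace Fours

/-- The even product of transpositions in two blocks, inverting the cycles of both. -/
def s3W : W := ⟨0, 3, 1, 1, 0⟩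

/-- A three-cycle normalizing the regular four group. -/
def el : A6 := ⟨swap 1 2 * swap 2 3, Perm.mem_alternatingGroup.2 (by decide)⟩

/-- The map moving the regular four group of the last copy to the one of the middle copy. -/
def kl : A6 := ⟨swap 1 5 * swap 3 4, Perm.mem_alternatingGroup.2 (by decide)⟩

theorem kl_Vl : ∀ τ ∈ Vl, kl * τ * kl⁻¹ ∈ Wl := by decide +kernel

theorem gC_move : gC 2 * jK 2 * (gC 2)⁻¹ = jK 1 ∧ gC 2 * gC 2 = gC 1 := by decide +kernel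

theorem s3_facts : s3W * s3W = 1 ∧ (s3W * jB * s3W⁻¹ = jB * jB) ∧ s3W * wW = wW * s3W ∧
    jB * jB ≠ jB ∧
    (∀ σ ∈ [1, wl, dl, wl * dl], toPerm s3W * ek 1 σ * (toPerm s3W)⁻¹ = ek 1 σ) ∧
    (∀ σ : A6, σ * wl = wl * σ →
      toPerm s3W * ek 1 (dl * σ * dl⁻¹) * (toPerm s3W)⁻¹ = ek 1 σ) := by decide +kernel

theorem weight_two_fix : ∀ σ ∈ [wl2, wl * wl2], ∃ j ∈ [(⟨0, 0, 1, 0, 1⟩ : W), ⟨0, 0, 2, 0, 1⟩],
    ∃ τ ∈ [Six.B0 * Six.C0, Six.B0 * Six.C0⁻¹], inJ j = true ∧ wt j = 2 ∧ toPerm j = ek 1 τ ∧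
      toPerm s3W * ek 1 (dl * τ * dl⁻¹) * (toPerm s3W)⁻¹ = ek 1 (σ⁻¹ * τ * σ) := by
  decide +kernel

theorem cent_wl_cases : ∀ σ : A6, σ * wl = wl * σ → σ ∈ [1, wl, wl2, wl * wl2, dl, wl * dl] ∨
    σ * σ ≠ 1 := by decide +kernel

theorem dl_swaps : dl * wl2 * dl⁻¹ = wl * wl2 ∧ dl * dl = 1 ∧ dl * wl = wl * dl ∧
    wl2 * dl ≠ dl * wl2 ∧ wl2 * wl = wl * wl2 ∧ wl * wl = 1 ∧ wl2 * wl2 = 1 ∧ wl2 ≠ 1 ∧ wl2 ≠ wl := by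
  decide +kernel

theorem el_facts : el * (el * el) = 1 ∧ (∀ τ ∈ Wl, el * τ * el⁻¹ ∈ Wl) ∧
    el * wl ≠ wl * el ∧ ∃ g : A6, g * el * g⁻¹ = Six.B0 := by decide +kernel

theorem norm_Dl_conj : ∀ τ : A6, τ * (τ * τ) = 1 → τ ≠ 1 → (∀ σ ∈ Dl, τ * σ * τ⁻¹ ∈ Dl) →
    ∃ g : A6, g * τ * g⁻¹ = Six.B0 * Six.C0 ∨ g * τ * g⁻¹ = Six.B0 * Six.C0⁻¹ := by decide +kernel

theorem wt_above : (∀ m : Fin 3, 2 ≤ wt (Code.pw3 jB m * (⟨0, 0, 1, 0, 1⟩ : W))) ∧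
    (∀ m : Fin 3, 2 ≤ wt (Code.pw3 jB m * (⟨0, 0, 2, 0, 1⟩ : W))) ∧ wt jC = 1 ∧
    toPerm (⟨0, 0, 1, 0, 1⟩ : W) = ek 1 (Six.B0 * Six.C0) ∧
    toPerm (⟨0, 0, 2, 0, 1⟩ : W) = ek 1 (Six.B0 * Six.C0⁻¹) := by decide +kernel

end Fours

end Cfsg.Agent.Recog.AltNine
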