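import Cfsg.Agent.Lib.Recog.AltNine.Fours
import Cfsg.Agent.Lib.Recog.AltNine.SmallData

/-!
The centralizer of a regular four group cannot be small.
-/

set_option autoImplicit false
set_option linter.style.haveILetI false
set_option linter.unusedSectionVars false

namespace Cfsg.Agent.Recog.AltNine

open Cfsg Subgroup Equiv Cfsg.Agent.Recog.MonoCube Cfsg.Agent.Recog.MonoCube.W Fours

universe u

variable {G : Type u} [Group G] [Finite G]

/-- The elements of order three in a small group with a four group commuting with an element of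
order three. -/
theorem three_in_small {K W : Subgroup G} (hK : Nat.card K ∣ 24) (hW : W ≤ K) (hWc : Nat.card W = 4)
    {b : G} (hb : b ∈ K) (hb3 : orderOf b = 3) (hWb : ∀ v ∈ W, Commute v b) {x : G} (hx : x ∈ K)
    (hx3 : x ^ 3 = 1) : x ∈ zpowers b := by
  have hbz : ∀ y ∈ zpowers b, ∀ v ∈ W, Commute v y := by
    rintro _ ⟨i, rfl⟩ v hv
    exact (hWb v hv).zpow_right i
  let ψ : W × zpowers b →* G := MonoidHom.noncommCoprod W.subtype (zpowers b).subtype
    fun v y => hbz y y.2 v v.2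
  have hψ : Function.Injective ψ := by
    rw [injective_iff_map_eq_one]
    rintro ⟨v, y⟩ he
    have e : (v : G) * (y : G) = 1 := he
    have hy1 : (y : G) = 1 := by
      refine orderOf_eq_one_iff.1 (Nat.eq_one_of_dvd_coprimes (a := 4) (b := 3) (by norm_num) ?_ ?_)
      · rw [eq_inv_of_mul_eq_one_right e, orderOf_inv, orderOf_coe, ← hWc]
        exact orderOf_dvd_natCard _
      · rw [orderOf_coe, ← hb3, ← Nat.card_zpowers b]
        exact _root_.orderOf_dvd_natCard _
    rw [hy1, mul_one] at e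
    exact Prod.ext (Subtype.ext e) (Subtype.ext hy1)
  set L := ψ.range.subgroupOf K
  have hLK : ψ.range ≤ K := by
    rintro _ ⟨⟨v, y⟩, rfl⟩
    exact mul_mem (hW v.2) (zpowers_le.2 hb y.2)
  have hLc : Nat.card L = 12 := by
    rw [Nat.card_congr (subgroupOfEquivOfLe hLK).toEquiv,
      ← Nat.card_congr (MonoidHom.ofInjective hψ).toEquiv, Nat.card_prod, hWc, Nat.card_zpowers, hb3]
  have hidx : L.index = 1 ∨ L.index = 2 := by
    refine (Nat.dvd_prime Nat.prime_two).1 ?_
    have h := L.card_mul_index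
    rw [hLc] at h
    rw [← h] at hK
    exact Nat.dvd_of_mul_dvd_mul_left (k := 12) (by norm_num) hK
  have hxL : (⟨x, hx⟩ : K) ∈ L := by
    rcases hidx with h1 | h2
    · rw [index_eq_one.1 h1]; exact mem_top _
    · have h := mul_self_mem_of_index_two h2 ((⟨x, hx⟩ : K) ^ 2)
      rwa [show (⟨x, hx⟩ : K) ^ 2 * (⟨x, hx⟩ : K) ^ 2 = ⟨x, hx⟩ from Subtype.ext (by
        show x ^ 2 * x ^ 2 = x
        rw [← pow_add, pow_eq_pow_mod _ hx3]; simp)] at h
  obtain ⟨⟨v, y⟩, hvy⟩ := hxL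
  change (v : G) * (y : G) = x at hvy
  have hv : (v : G) = 1 := by
    refine orderOf_eq_one_iff.1 (Nat.eq_one_of_dvd_coprimes (a := 4) (b := 3) (by norm_num)
      (hWc ▸ orderOf_dvd_natCard W v.2) (orderOf_dvd_of_pow_eq_one ?_))
    have hy3 : (y : G) ^ 3 = 1 := by
      obtain ⟨i, hi⟩ := y.2
      rw [← hi, ← zpow_natCast, ← zpow_mul, mul_comm, zpow_mul, zpow_natCast, ← hb3,
        pow_orderOf_eq_one, one_zpow]
    rw [← hvy, (hbz y y.2 v v.2).mul_pow, hy3, mul_one] at hx3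
    exact hx3
  rw [← hvy, hv, one_mul]
  exact y.2

namespace Ctx.Frame

open Code

variable {C : Ctx G} (F : C.Frame)

/-- The regular four group of the middle copy. -/
def Wc : Subgroup G := Wl.map (F.f 1)

theorem card_Wc : Nat.card F.Wc = 4 := by
  rw [Wc, card_map_of_injective (F.f_inj 1)]
  exact card_four _ _ _ cards.2.1

/-- The element carrying the first regular four group to the second. -/
def kk : G := F.f 1 kl * C.θ (gC 2)

theorem gC_conj (τ : A6) : C.θ (gC 2) * F.f 2 τ * (C.θ (gC 2))⁻¹ = F.f 1 τ := by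
  refine F.f_conj 2 1 (gC 2) τ τ (Or.inl gC_move.1) ?_
  show toPerm (gC 2) * (toPerm (gC 2) * e0 τ * (toPerm (gC 2))⁻¹) * (toPerm (gC 2))⁻¹ =
    toPerm (gC 1) * e0 τ * (toPerm (gC 1))⁻¹
  rw [← gC_move.2, map_mul]
  group

theorem map_Vc : F.Vc.map (MulAut.conj F.kk).toMonoidHom = F.Wc := by
  refine eq_of_le_of_card_ge ?_ (by
    rw [card_map_of_injective (MulAut.conj F.kk).injective, F.card_Vc, F.card_Wc])
  rintro _ ⟨_, ⟨τ, hτ, rfl⟩, rfl⟩
  refine ⟨kl * τ * kl⁻¹, kl_Vl τ hτ, ?_⟩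
  show F.f 1 (kl * τ * kl⁻¹) = F.kk * F.f 2 τ * F.kk⁻¹
  rw [map_mul, map_mul, map_inv, ← F.gC_conj τ, kk]
  group

theorem card_cent_Wc :
    Nat.card (centralizer (F.Wc : Set G)) = Nat.card (centralizer (F.Vc : Set G)) := by
  rw [← F.map_Vc]
  refine (Nat.card_congr ((MulAut.conj F.kk).toEquiv.subtypeEquiv fun c => ?_)).symm
  show c ∈ centralizer (F.Vc : Set G) ↔ F.kk * c * F.kk⁻¹ ∈
    centralizer ((F.Vc.map (MulAut.conj F.kk).toMonoidHom : Subgroup G) : Set G)
  rw [mem_centralizer_iff, mem_centralizer_iff]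
  constructor
  · rintro h _ ⟨v, hv, rfl⟩
    show F.kk * v * F.kk⁻¹ * (F.kk * c * F.kk⁻¹) = F.kk * c * F.kk⁻¹ * (F.kk * v * F.kk⁻¹)
    rw [show F.kk * v * F.kk⁻¹ * (F.kk * c * F.kk⁻¹) = F.kk * (v * c) * F.kk⁻¹ by group, h v hv]
    group
  · intro h v hv
    have h' : F.kk * v * F.kk⁻¹ * (F.kk * c * F.kk⁻¹) = F.kk * c * F.kk⁻¹ * (F.kk * v * F.kk⁻¹) :=
      h _ ⟨v, hv, rfl⟩
    exact mul_left_cancel (mul_right_cancel ((show F.kk * (v * c) * F.kk⁻¹ =
      F.kk * v * F.kk⁻¹ * (F.kk * c * F.kk⁻¹) by group).trans (h'.trans (by group))))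

/-- The involution centralizing the middle four group and inverting the second cycle. -/
def r : G := C.θ s3W * F.f 1 dl

theorem s3_conj {σ σ' : A6} (h : toPerm s3W * ek 1 σ * (toPerm s3W)⁻¹ = ek 1 σ') :
    C.θ s3W * F.f 1 σ * (C.θ s3W)⁻¹ = F.f 1 σ' :=
  F.f_conj 1 1 s3W σ σ' (Or.inr s3_facts.2.1) h

theorem r_comm (σ : A6) (hσ : σ * wl = wl * σ) : Commute F.r (F.f 1 σ) := by
  have h := F.s3_conj (s3_facts.2.2.2.2.2 σ hσ)
  rw [map_mul, map_mul, map_inv] at h
  refine mul_inv_eq_iff_eq_mul.1 (?_ : F.r * F.f 1 σ * F.r⁻¹ = F.f 1 σ)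
  rw [r, show C.θ s3W * F.f 1 dl * F.f 1 σ * (C.θ s3W * F.f 1 dl)⁻¹ =
    C.θ s3W * (F.f 1 dl * F.f 1 σ * (F.f 1 dl)⁻¹) * (C.θ s3W)⁻¹ by group]
  exact h

theorem r_sq : F.r * F.r = 1 := by
  have h := F.r_comm dl dl_swaps.2.2.1
  have h2 : F.f 1 dl * F.f 1 dl = 1 := by rw [← map_mul, dl_swaps.2.1, map_one]
  have hs : C.θ s3W = F.r * F.f 1 dl := by
    rw [r, mul_assoc, h2, mul_one]
  have h3 : C.θ s3W * C.θ s3W = 1 := by rw [← map_mul, s3_facts.1, map_one]
  rw [hs, h.symm.mul_mul_mul_comm, h2, mul_one] at h3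
  exact h3

theorem r_invert : F.r * C.θ jB * F.r⁻¹ = C.θ jB * C.θ jB := by
  have h : F.f 1 dl * C.θ jB * (F.f 1 dl)⁻¹ = C.θ jB :=
    mul_inv_eq_iff_eq_mul.2 (F.f_comm 1 dl).symm.eq
  rw [r, show C.θ s3W * F.f 1 dl * C.θ jB * (C.θ s3W * F.f 1 dl)⁻¹ =
    C.θ s3W * (F.f 1 dl * C.θ jB * (F.f 1 dl)⁻¹) * (C.θ s3W)⁻¹ by group, h, ← map_inv, ← map_mul,
    ← map_mul, s3_facts.2.1, map_mul]

/-- The candidate Sylow subgroup. -/
def S16 : Subgroup G where
  carrier := {x | ∃ σ : A6, σ * wl = wl * σ ∧ (x = F.f 1 σ ∨ x = F.f 1 σ * F.r)}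
  one_mem' := ⟨1, by rw [one_mul, mul_one], Or.inl (map_one _).symm⟩
  mul_mem' := by
    rintro x y ⟨σ, hσ, hx⟩ ⟨τ, hτ, hy⟩
    refine ⟨σ * τ, by rw [mul_assoc, hτ, ← mul_assoc, hσ, mul_assoc], ?_⟩
    have hc := (F.r_comm τ hτ).eq
    rcases hx with rfl | rfl <;> rcases hy with rfl | rfl
    · exact Or.inl (map_mul _ _ _).symm
    · exact Or.inr (by rw [map_mul, mul_assoc])
    · exact Or.inr (by rw [map_mul, mul_assoc, hc, ← mul_assoc])
    · refine Or.inl ?_
      rw [map_mul, mul_assoc, ← mul_assoc F.r, hc, mul_assoc (F.f 1 τ), F.r_sq, mul_one]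
  inv_mem' := by
    rintro x ⟨σ, hσ, hx⟩
    refine ⟨σ⁻¹, (show Commute σ wl from hσ).inv_left.eq, ?_⟩
    have hr : F.r⁻¹ = F.r := inv_eq_of_mul_eq_one_right F.r_sq
    rcases hx with rfl | rfl
    · exact Or.inl (map_inv _ _).symm
    · exact Or.inr (by
        rw [_root_.mul_inv_rev, hr, map_inv, ((F.r_comm σ hσ).inv_right).eq])

theorem cent_Vc_not_small (h24 : Nat.card (centralizer (F.Vc : Set G)) ∣ 24) : False := by
  classical
  haveI : Fact (Nat.Prime 2) := ⟨Nat.prime_two⟩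
  have hW24 : Nat.card (centralizer (F.Wc : Set G)) ∣ 24 := F.card_cent_Wc ▸ h24
  obtain ⟨hd2, hdd, hdw, hdw2, hw2w, hww, hw22, hw21, hw2ne⟩ := dl_swaps
  set K := centralizer ({C.θ wW} : Set G) with hK
  set x₂ := F.f 1 wl2 with hx₂
  have hb : ∀ σ, Commute (C.θ jB) (F.f 1 σ) := fun σ => F.f_comm 1 σ
  have hbo : orderOf (C.θ jB) = 3 := C.orderOf_θ (by decide +kernel) (by decide +kernel)
  have hjB1 : C.θ jB ≠ 1 := fun e => by rw [e, orderOf_one] at hbo; omega
  have hWcmem : ∀ g : G, Commute g (C.θ wW) → Commute g x₂ → g ∈ centralizer (F.Wc : Set G) := by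
    intro g h1 h2
    rw [F.wW_eq] at h1
    refine mem_centralizer_iff.2 ?_
    rintro _ ⟨τ, hτ, rfl⟩
    rw [SetLike.mem_coe, mem_Wl] at hτ
    simp only [List.mem_cons, List.not_mem_nil, or_false] at hτ
    rcases hτ with rfl | rfl | rfl | rfl
    · simp
    · exact h1.symm.eq
    · exact h2.symm.eq
    · rw [map_mul]; exact (h1.mul_right h2).symm.eq
  have hWcW : F.Wc ≤ centralizer (F.Wc : Set G) := by
    rintro _ ⟨σ, hσ, rfl⟩
    refine mem_centralizer_iff.2 ?_
    rintro _ ⟨τ, hτ, rfl⟩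
    rw [← map_mul, ← map_mul, commutes.2.1 τ hτ σ hσ]
  have hbWc : C.θ jB ∈ centralizer (F.Wc : Set G) := mem_centralizer_iff.2 (by
    rintro _ ⟨τ, -, rfl⟩
    exact (hb τ).symm.eq)
  have huniq : ∀ y ∈ centralizer (F.Wc : Set G), y ^ 3 = 1 → y ∈ zpowers (C.θ jB) := fun y hy hy3 =>
    three_in_small hW24 hWcW F.card_Wc hbWc hbo
      (fun v hv => (mem_centralizer_iff.1 hbWc v hv)) hy hy3
  have hWdW : F.Wd ≤ centralizer (F.Wd : Set G) := by
    rintro _ ⟨σ, hσ, rfl⟩
    refine mem_centralizer_iff.2 ?_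
    rintro _ ⟨τ, hτ, rfl⟩
    rw [← map_mul, ← map_mul, commutes.2.2 τ hτ σ hσ]
  have huniqD : ∀ y ∈ centralizer (F.Wd : Set G), y ^ 3 = 1 → y ∈ zpowers (C.θ jB) := fun y hy hy3 =>
    three_in_small F.card_cent_Wd hWdW (by
        rw [Wd, card_map_of_injective (F.f_inj 1)]; exact card_four _ _ _ cards.2.2.1)
      (mem_centralizer_iff.2 (by rintro _ ⟨τ, -, rfl⟩; exact (hb τ).symm.eq)) hbo
      (fun v hv => by obtain ⟨τ, -, rfl⟩ := hv; exact (hb τ).symm) hy hy3
  have hrw : Commute F.r (C.θ wW) := by rw [F.wW_eq]; exact F.r_comm wl rfl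
  have hrx : Commute F.r x₂ := F.r_comm wl2 hw2w
  have hrW : F.r ∈ centralizer (F.Wc : Set G) := hWcmem _ hrw hrx
  have hrb : ¬ Commute F.r (C.θ jB) := fun h => by
    have := F.r_invert
    rw [h.eq, mul_inv_cancel_right] at this
    exact hjB1 (mul_eq_left.1 this.symm)
  -- the involutions of `S16`
  have hS_K : F.S16 ≤ K := by
    rintro x ⟨σ, hσ, hx⟩
    refine mem_centralizer_singleton_iff.2 ?_
    have h1 : Commute (F.f 1 σ) (C.θ wW) := by
      rw [F.wW_eq]; exact (show Commute σ wl from hσ).map (F.f 1)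
    rcases hx with rfl | rfl
    exacts [h1.eq, (h1.mul_left hrw).eq]
  have hdS : F.f 1 dl ∈ F.S16 := ⟨dl, hdw, Or.inl rfl⟩
  have hxS : x₂ ∈ F.S16 := ⟨wl2, hw2w, Or.inl rfl⟩
  have hrS : F.r ∈ F.S16 := ⟨1, by rw [one_mul, mul_one], Or.inr (by rw [map_one, one_mul])⟩
  have hinv : ∀ σ : A6, σ * wl = wl * σ → ∀ (g : G), g * C.θ wW * g⁻¹ = F.f 1 σ * F.r →
      σ ∈ [wl2, wl * wl2] → False := by
    intro σ hσ g hg hm
    obtain ⟨j, -, τ, -, hj, hw, hjp, hτ'⟩ := weight_two_fix σ hm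
    have hjv : C.θ j = F.f 1 τ := F.f_agree 1 _ _ hjp
    refine F.not_conj_w hj hw (x := F.f 1 σ * F.r) ?_ hg
    have h1 := F.s3_conj hτ'
    simp only [map_mul, map_inv] at h1
    rw [hjv]
    refine (mul_inv_eq_iff_eq_mul.1 ?_ : F.f 1 σ * F.r * F.f 1 τ = F.f 1 τ * (F.f 1 σ * F.r)).symm
    rw [r]
    calc F.f 1 σ * (C.θ s3W * F.f 1 dl) * F.f 1 τ * (F.f 1 σ * (C.θ s3W * F.f 1 dl))⁻¹ =
        F.f 1 σ * (C.θ s3W * (F.f 1 dl * F.f 1 τ * (F.f 1 dl)⁻¹) * (C.θ s3W)⁻¹) * (F.f 1 σ)⁻¹ := by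
          group
      _ = F.f 1 τ := by rw [h1]; group
  -- conjugates of the second involution in the normalizer
  have hfix : ∀ n ∈ K, n ∈ normalizer (F.S16 : Set G) →
      n * x₂ * n⁻¹ = x₂ ∨ n * x₂ * n⁻¹ = F.f 1 (wl * wl2) := by
    intro n hnK hnS
    have hnw : n * C.θ wW * n⁻¹ = C.θ wW := by
      rw [mem_centralizer_singleton_iff.1 hnK, mul_inv_cancel_right]
    have hinS : ∀ s ∈ F.S16, n * s * n⁻¹ ∈ F.S16 := fun s hs => (mem_normalizer_iff.1 hnS s).1 hs
    have hinS' : ∀ s ∈ F.S16, n⁻¹ * s * n ∈ F.S16 := fun s hs => by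
      have := (mem_normalizer_iff.1 hnS (n⁻¹ * s * n)).2 (by simpa [mul_assoc] using hs)
      exact this
    have hconj_w : ∀ σ₀ : A6, σ₀ * σ₀ = 1 → σ₀ ≠ 1 →
        ∃ g, g * C.θ wW * g⁻¹ = n * F.f 1 σ₀ * n⁻¹ := by
      intro σ₀ h1 h2
      obtain ⟨g, hg⟩ := involution_conj σ₀ h1 h2
      exact ⟨n * (F.f 1 g)⁻¹, by rw [F.wW_eq, ← hg, map_mul, map_mul, map_inv]; group⟩
    have hsq : n * x₂ * n⁻¹ * (n * x₂ * n⁻¹) = 1 := by
      rw [show n * x₂ * n⁻¹ * (n * x₂ * n⁻¹) = n * (x₂ * x₂) * n⁻¹ by group, hx₂, ← map_mul, hw22,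
        map_one, mul_one, mul_inv_cancel]
    have hne1 : n * x₂ * n⁻¹ ≠ 1 := fun e => hw21 (F.f_inj 1 ((conj_eq_one_iff.1 e).trans (map_one _).symm))
    have hnew : n * x₂ * n⁻¹ ≠ F.f 1 wl := by
      rw [← F.wW_eq]
      intro e
      rw [← hnw] at e
      exact hw2ne (F.f_inj 1 ((mul_left_cancel (mul_right_cancel e)).trans F.wW_eq))
    obtain ⟨σ, hσ, hx⟩ := hinS _ hxS
    have hσ2 : σ * σ = 1 := by
      rcases hx with hx | hx <;> rw [hx] at hsq
      · exact F.f_inj 1 (by rw [map_mul, hsq, map_one])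
      · rw [(F.r_comm σ hσ).mul_mul_mul_comm, F.r_sq, mul_one, ← map_mul] at hsq
        exact F.f_inj 1 (by rw [hsq, map_one])
    have hσc := (cent_wl_cases σ hσ).resolve_right (not_not.2 hσ2)
    simp only [List.mem_cons, List.not_mem_nil, or_false] at hσc
    set b' := n * C.θ jB * n⁻¹ with hb'
    have hb'3 : b' ^ 3 = 1 := by rw [hb', conj_pow, C.cube_θ (by decide +kernel), mul_one, mul_inv_cancel]
    have hb'w : Commute b' (C.θ wW) := by
      rw [← hnw, hb', F.wW_eq]; exact (hb wl).map (MulAut.conj n).toMonoidHom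
    have hb'x : Commute b' (n * x₂ * n⁻¹) := (hb wl2).map (MulAut.conj n).toMonoidHom
    rcases hx with hx | hx
    · rcases hσc with rfl | rfl | rfl | rfl | hσd
      · exact absurd (hx.trans (map_one _)) hne1
      · exact absurd hx hnew
      · exact Or.inl hx
      · exact Or.inr hx
      -- the four group of the second kind
      exfalso
      have hn_img : ∀ τ ∈ Wl, n * F.f 1 τ * n⁻¹ ∈ F.Wd := by
        have hw' : C.θ wW ∈ F.Wd := by rw [F.wW_eq]; exact ⟨wl, mem_Dl.2 (by simp), rfl⟩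
        have hx' : n * x₂ * n⁻¹ ∈ F.Wd := by
          rw [hx]
          rcases hσd with rfl | rfl <;> exact ⟨_, mem_Dl.2 (by simp), rfl⟩
        intro τ hτ
        rw [mem_Wl] at hτ
        simp only [List.mem_cons, List.not_mem_nil, or_false] at hτ
        rcases hτ with rfl | rfl | rfl | rfl
        · rw [map_one, mul_one, mul_inv_cancel]; exact one_mem _
        · rw [← F.wW_eq, hnw]; exact hw'
        · exact hx'
        · rw [map_mul, ← F.wW_eq, show n * (C.θ wW * x₂) * n⁻¹ =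
            n * C.θ wW * n⁻¹ * (n * x₂ * n⁻¹) by group, hnw]
          exact mul_mem hw' hx'
      have himg : F.Wc.map (MulAut.conj n).toMonoidHom = F.Wd := by
        refine eq_of_le_of_card_ge ?_ ?_
        · rintro _ ⟨_, ⟨τ, hτ, rfl⟩, rfl⟩
          exact hn_img τ hτ
        · rw [card_map_of_injective (MulAut.conj n).injective, F.card_Wc, Wd,
            card_map_of_injective (F.f_inj 1)]
          exact (card_four _ _ _ cards.2.2.1).le
      have hb'D : b' ∈ centralizer (F.Wd : Set G) := by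
        rw [← himg]
        refine mem_centralizer_iff.2 ?_
        rintro _ ⟨_, ⟨τ, -, rfl⟩, rfl⟩
        exact ((hb τ).map (MulAut.conj n).toMonoidHom).symm.eq
      have hbb' : zpowers b' = zpowers (C.θ jB) := by
        refine eq_of_le_of_card_ge (zpowers_le.2 (huniqD b' hb'D hb'3)) ?_
        rw [Nat.card_zpowers, Nat.card_zpowers, hb', hbo,
          show n * C.θ jB * n⁻¹ = MulAut.conj n (C.θ jB) from rfl, MulEquiv.orderOf_eq, hbo]
      obtain ⟨he3, heW, hew, g₀, hg₀⟩ := el_facts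
      set y := n * F.f 1 el * n⁻¹ with hy
      have hyb : Commute (C.θ jB) y := by
        obtain ⟨i, hi⟩ := (hbb' ▸ mem_zpowers (C.θ jB) : C.θ jB ∈ zpowers b')
        rw [← hi]
        exact Commute.zpow_left (show Commute b' y from (hb el).map (MulAut.conj n).toMonoidHom) i
      obtain ⟨m, τ, hyτ⟩ := F.f_cen 1 y (mem_centralizer_singleton_iff.2 hyb.symm.eq)
      have hcm : ∀ τ', Commute (C.θ (pw3 (jK 1) m)) (F.f 1 τ') := fun τ' => by
        fin_cases m
        · simp [pw3]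
        · simpa [pw3] using F.f_comm 1 τ'
        · simpa [pw3, map_mul] using (F.f_comm 1 τ').mul_left (F.f_comm 1 τ')
      have hy3 : y ^ 3 = 1 := by
        rw [hy, conj_pow, ← map_pow, show el ^ 3 = 1 by rw [pow_succ, pow_two, mul_assoc, he3],
          map_one, mul_one, mul_inv_cancel]
      have hτ3 : τ * (τ * τ) = 1 := by
        rw [hyτ, (hcm τ).mul_pow, F.pw3_pow, one_mul, ← map_pow] at hy3
        rw [← mul_assoc, ← pow_two, ← pow_succ]
        exact F.f_inj 1 (hy3.trans (map_one _).symm)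
      have hτn : ∀ σ ∈ Dl, τ * σ * τ⁻¹ ∈ Dl := by
        intro σ hσ'
        obtain ⟨_, ⟨τ₀, hτ₀, rfl⟩, he⟩ := (himg ▸ ⟨σ, hσ', rfl⟩ :
          F.f 1 σ ∈ F.Wc.map (MulAut.conj n).toMonoidHom)
        change n * F.f 1 τ₀ * n⁻¹ = F.f 1 σ at he
        have h1 : y * F.f 1 σ * y⁻¹ = n * F.f 1 (el * τ₀ * el⁻¹) * n⁻¹ := by
          rw [hy, ← he, map_mul, map_mul, map_inv]; group
        obtain ⟨σ', hσ'', he'⟩ := hn_img _ (heW τ₀ hτ₀)
        rw [← he', hyτ, show C.θ (pw3 (jK 1) m) * F.f 1 τ * F.f 1 σ *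
          (C.θ (pw3 (jK 1) m) * F.f 1 τ)⁻¹ = C.θ (pw3 (jK 1) m) *
            (F.f 1 τ * F.f 1 σ * (F.f 1 τ)⁻¹) * (C.θ (pw3 (jK 1) m))⁻¹ by group, ← map_inv (F.f 1),
          ← map_mul, ← map_mul, (hcm _).eq, mul_inv_cancel_right] at h1
        exact F.f_inj 1 h1 ▸ hσ''
      have hτ1 : τ ≠ 1 := by
        rintro rfl
        refine hew (F.f_inj 1 ?_)
        rw [map_mul, map_mul]
        have hyw : Commute y (C.θ wW) := by
          rw [hyτ, map_one, mul_one, F.wW_eq]; exact hcm wl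
        rw [← hnw, hy, F.wW_eq] at hyw
        have h' := hyw.eq
        rw [show n * F.f 1 el * n⁻¹ * (n * F.f 1 wl * n⁻¹) = n * (F.f 1 el * F.f 1 wl) * n⁻¹ by group,
          show n * F.f 1 wl * n⁻¹ * (n * F.f 1 el * n⁻¹) = n * (F.f 1 wl * F.f 1 el) * n⁻¹ by group] at h'
        exact mul_left_cancel (mul_right_cancel h')
      obtain ⟨g, hg⟩ := norm_Dl_conj τ hτ3 hτ1 hτn
      obtain ⟨w1, w2, wC, j1, j2⟩ := wt_above
      have hjC : C.θ jC = F.f 1 Six.B0 := F.f_agree 1 _ _ wW_facts.2.2.1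
      have hmain : ∀ j : W, inJ j = true → toPerm j = ek 1 (g * τ * g⁻¹) →
          (∀ m : Fin 3, 2 ≤ wt (pw3 jB m * j)) → False := by
        intro j hj hjp hwj
        have e : F.f 1 g * n * (F.f 1 g₀)⁻¹ * C.θ jC * (F.f 1 g * n * (F.f 1 g₀)⁻¹)⁻¹ =
            C.θ (pw3 jB m * j) := by
          rw [map_mul, F.f_agree 1 _ _ hjp, hjC, ← hg₀]
          have e1 : F.f 1 g * y * (F.f 1 g)⁻¹ = C.θ (pw3 (jK 1) m) * F.f 1 (g * τ * g⁻¹) := by
            rw [hyτ, map_mul, map_mul, map_inv, ← mul_assoc (F.f 1 g), ← (hcm g).eq]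
            group
          rw [show C.θ (pw3 jB m) = C.θ (pw3 (jK 1) m) from rfl, ← e1, hy, map_mul, map_mul, map_inv]
          group
        obtain ⟨v, -, hv⟩ := C.fusion (u := jC) (by decide +kernel) (by decide +kernel)
          (inJ_mul _ (inJ_pw3 jB (by decide +kernel) m) _ hj).1 [] (by simp) (by simp) e
        have h1 := Fours.wt_conj v jC (by decide +kernel)
        rw [hv, wC] at h1
        have := hwj m
        omega
      rcases hg with hg | hg
      · exact hmain _ (by decide +kernel) (by rw [hg]; exact j1) w1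
      · exact hmain _ (by decide +kernel) (by rw [hg]; exact j2) w2
    · rcases hσc with rfl | rfl | rfl | rfl | hσd
      -- a central element of `S16`
      rotate_left 2
      · exact (hinv _ hσ _ ((hconj_w wl2 hw22 hw21).choose_spec.trans hx) (by simp)).elim
      · exact (hinv _ hσ _ ((hconj_w wl2 hw22 hw21).choose_spec.trans hx) (by simp)).elim
      · exfalso
        -- the element inverting the second cycle
        obtain ⟨gd, hgd⟩ := hconj_w dl hdd (fun e => hdw2 (by rw [e, one_mul, mul_one]))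
        obtain ⟨τ, hτ, hyx⟩ := hinS _ hdS
        have hcomm_ne : ¬ Commute (n * x₂ * n⁻¹) (n * F.f 1 dl * n⁻¹) := by
          intro h
          have h' := h.eq
          rw [show n * x₂ * n⁻¹ * (n * F.f 1 dl * n⁻¹) = n * (x₂ * F.f 1 dl) * n⁻¹ by group,
            show n * F.f 1 dl * n⁻¹ * (n * x₂ * n⁻¹) = n * (F.f 1 dl * x₂) * n⁻¹ by group] at h'
          exact hdw2 (F.f_inj 1 (by rw [map_mul, map_mul]; exact mul_left_cancel (mul_right_cancel h')))
        have hysq : n * F.f 1 dl * n⁻¹ * (n * F.f 1 dl * n⁻¹) = 1 := by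
          rw [show n * F.f 1 dl * n⁻¹ * (n * F.f 1 dl * n⁻¹) = n * (F.f 1 dl * F.f 1 dl) * n⁻¹ by group,
            ← map_mul, hdd, map_one, mul_one, mul_inv_cancel]
        have hτ2 : τ * τ = 1 := by
          rcases hyx with hy | hy <;> rw [hy] at hysq
          · exact F.f_inj 1 (by rw [map_mul, hysq, map_one])
          · rw [(F.r_comm τ hτ).mul_mul_mul_comm, F.r_sq, mul_one, ← map_mul] at hysq
            exact F.f_inj 1 (by rw [hysq, map_one])
        have hτc := (cent_wl_cases τ hτ).resolve_right (not_not.2 hτ2)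
        simp only [List.mem_cons, List.not_mem_nil, or_false] at hτc
        have hcd : ∀ ρ : A6, ρ ∈ [1, wl, dl, wl * dl] → Commute (F.f 1 σ * F.r) (F.f 1 ρ) := by
          intro ρ hρ
          have hρw : ρ * wl = wl * ρ ∧ σ * ρ = ρ * σ := by
            simp only [List.mem_cons, List.not_mem_nil, or_false] at hρ
            rcases hσd with rfl | rfl <;> rcases hρ with rfl | rfl | rfl | rfl <;> decide +kernel
          exact Commute.mul_left ((show Commute σ ρ from hρw.2).map (F.f 1)) (F.r_comm ρ hρw.1)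
        rcases hyx with hy | hy
        · rcases hτc with rfl | rfl | rfl | rfl | rfl | rfl
          rotate_left 2
          iterate 2
            · -- the middle four group is centralized by the conjugate of the second cycle
              have hb'y : Commute b' (n * F.f 1 dl * n⁻¹) := (hb dl).map (MulAut.conj n).toMonoidHom
              rw [hy] at hb'y
              have hb'W : b' ∈ centralizer (F.Wc : Set G) := by
                refine hWcmem b' hb'w ?_
                first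
                  | exact hb'y
                  | (have h' := hb'w.mul_right hb'y
                     rw [F.wW_eq, map_mul, ← mul_assoc, ← map_mul, hww, map_one, one_mul] at h'
                     exact h')
              obtain ⟨i, hi⟩ := huniq b' hb'W hb'3
              have hb'1 : b' ≠ 1 := fun e => hjB1 (conj_eq_one_iff.1 e)
              have hc : Commute (F.f 1 σ * F.r) b' := by rw [← hx]; exact hb'x.symm
              have hr' : Commute F.r b' := by
                have h1 : Commute (F.f 1 σ) b' := by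
                  rw [← hi]; exact ((hb σ).symm.zpow_right i)
                have := h1.inv_left.mul_left hc
                rwa [inv_mul_cancel_left] at this
              obtain ⟨m, hm⟩ : ∃ m : Fin 3, b' = C.θ (pw3 jB m) := by
                obtain ⟨m, hm⟩ := C.θ_pw3 jB (by decide +kernel) i
                exact ⟨m, hi.symm.trans hm⟩
              rw [hm] at hr' hb'1
              fin_cases m
              · exact hb'1 (by simp [pw3])
              · exact hrb (by simpa [pw3] using hr')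
              · refine hrb ?_
                change Commute F.r (C.θ (pw3 jB 2)) at hr'
                have h2 := hr'.mul_right hr'
                rw [← map_mul] at h2
                rwa [show (pw3 jB 2) * (pw3 jB 2) = jB by decide +kernel] at h2
          all_goals exact hcomm_ne (by rw [hx, hy]; exact hcd _ (by simp))
        · rcases hτc with rfl | rfl | rfl | rfl | rfl | rfl
          rotate_left 2
          · exact hinv _ hτ _ (hgd.trans hy) (by simp)
          · exact hinv _ hτ _ (hgd.trans hy) (by simp)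
          all_goals
            exact hcomm_ne (by
              rw [hx, hy]
              exact (hcd _ (by simp)).mul_right ((F.r_comm _ hσ).symm.mul_left (Commute.refl _)))
      all_goals
        exfalso
        refine hdw2 (F.f_inj 1 ?_)
        rw [map_mul, map_mul]
        have hcen : Commute (n * x₂ * n⁻¹) (n * F.f 1 dl * n⁻¹) := by
          obtain ⟨τ, hτ, hy⟩ := hinS _ hdS
          rw [hx]
          have hwτ : Commute (F.f 1 wl) (F.f 1 τ) := (show Commute wl τ from hτ.symm).map (F.f 1)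
          have hrτ := F.r_comm τ hτ
          have h0 : Commute F.r (n * F.f 1 dl * n⁻¹) ∧ Commute (F.f 1 wl) (n * F.f 1 dl * n⁻¹) := by
            rcases hy with hy | hy <;> rw [hy]
            · exact ⟨hrτ, hwτ⟩
            · exact ⟨hrτ.mul_right (Commute.refl _), hwτ.mul_right (F.r_comm wl rfl).symm⟩
          first
            | (rw [map_one, one_mul]; exact h0.1)
            | exact h0.2.mul_left h0.1
        have h' := hcen.eq
        rw [show n * x₂ * n⁻¹ * (n * F.f 1 dl * n⁻¹) = n * (x₂ * F.f 1 dl) * n⁻¹ by group,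
          show n * F.f 1 dl * n⁻¹ * (n * x₂ * n⁻¹) = n * (F.f 1 dl * x₂) * n⁻¹ by group] at h'
        exact mul_left_cancel (mul_right_cancel h')
  -- the normalizer of `S16`
  have hnorm : ∀ n ∈ K, n ∈ normalizer (F.S16 : Set G) → n ∈ F.S16 := by
    intro n hnK hnS
    obtain ⟨c, hcS, hc⟩ : ∃ c, c ∈ normalizer (F.S16 : Set G) ∧
        c ∈ centralizer (F.Wc : Set G) ∧ (c ∈ F.S16 → n ∈ F.S16) := by
      have hnw : Commute n (C.θ wW) := mem_centralizer_singleton_iff.1 hnK
      rcases hfix n hnK hnS with h | h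
      · exact ⟨n, hnS, hWcmem n hnw (mul_inv_eq_iff_eq_mul.1 h), id⟩
      · refine ⟨F.f 1 dl * n, mul_mem (le_normalizer hdS) hnS,
          hWcmem _ ?_ (mul_inv_eq_iff_eq_mul.1 ?_), fun h' => by
            simpa using mul_mem (inv_mem hdS) h'⟩
        · refine Commute.mul_left ?_ hnw
          rw [F.wW_eq]; exact (show Commute dl wl from hdw).map (F.f 1)
        · have e : dl * (wl * wl2) * dl⁻¹ = wl2 := by decide +kernel
          rw [show F.f 1 dl * n * x₂ * (F.f 1 dl * n)⁻¹ = F.f 1 dl * (n * x₂ * n⁻¹) * (F.f 1 dl)⁻¹ by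
            group, h, ← map_inv, ← map_mul, ← map_mul, e]
    obtain ⟨hcW, hcn⟩ := hc
    refine hcn ?_
    let ψ : F.Wc × zpowers (C.θ jB) →* G := MonoidHom.noncommCoprod F.Wc.subtype (zpowers (C.θ jB)).subtype
      fun v y => by
        obtain ⟨_, τ, -, rfl⟩ := v
        obtain ⟨_, i, rfl⟩ := y
        exact ((hb τ).zpow_left i).symm
    have hψ : Function.Injective ψ := by
      rw [injective_iff_map_eq_one]
      rintro ⟨v, y⟩ he
      have e : (v : G) * (y : G) = 1 := he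
      have hy1 : (y : G) = 1 := by
        refine orderOf_eq_one_iff.1 (Nat.eq_one_of_dvd_coprimes (a := 4) (b := 3) (by norm_num) ?_ ?_)
        · rw [eq_inv_of_mul_eq_one_right e, orderOf_inv, orderOf_coe, ← F.card_Wc]
          exact orderOf_dvd_natCard _
        · rw [orderOf_coe, ← hbo, ← Nat.card_zpowers (C.θ jB)]
          exact _root_.orderOf_dvd_natCard _
      rw [hy1, mul_one] at e
      exact Prod.ext (Subtype.ext e) (Subtype.ext hy1)
    set L := ψ.range.subgroupOf (centralizer (F.Wc : Set G))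
    have hLle : ψ.range ≤ centralizer (F.Wc : Set G) := by
      rintro _ ⟨⟨v, y⟩, rfl⟩
      exact mul_mem (hWcW v.2) (zpowers_le.2 hbWc y.2)
    have hLc : Nat.card L = 12 := by
      rw [Nat.card_congr (subgroupOfEquivOfLe hLle).toEquiv,
        ← Nat.card_congr (MonoidHom.ofInjective hψ).toEquiv, Nat.card_prod, F.card_Wc,
        Nat.card_zpowers, hbo]
    have hrL : (⟨F.r, hrW⟩ : centralizer (F.Wc : Set G)) ∉ L := by
      rintro ⟨⟨v, y⟩, hvy⟩
      change (v : G) * (y : G) = F.r at hvy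
      obtain ⟨τ, -, hτ⟩ := v.2
      obtain ⟨i, hi⟩ := y.2
      refine hrb (hvy ▸ ?_)
      rw [← hτ, ← hi]
      exact (hb τ).symm.mul_left (((Commute.refl (C.θ jB))).zpow_left i)
    have hidx : L.index = 2 := by
      have h := L.card_mul_index
      rw [hLc] at h
      have h2 : L.index ∣ 2 := Nat.dvd_of_mul_dvd_mul_left (k := 12) (by norm_num) (h.symm ▸ hW24)
      refine ((Nat.dvd_prime Nat.prime_two).1 h2).resolve_left fun h1 => hrL ?_
      rw [index_eq_one.1 h1]; exact mem_top _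
    have hrpow : ∃ l ∈ ψ.range, c = l ∨ c = l * F.r := by
      by_cases hcL : (⟨c, hcW⟩ : centralizer (F.Wc : Set G)) ∈ L
      · exact ⟨c, hcL, Or.inl rfl⟩
      · have h := (mul_mem_iff_of_index_two hidx (a := (⟨c, hcW⟩ : centralizer (F.Wc : Set G)))
          (b := ⟨F.r, hrW⟩)).2 (iff_of_false hcL hrL)
        exact ⟨c * F.r, h, Or.inr (by rw [mul_assoc, F.r_sq, mul_one])⟩
    obtain ⟨_, ⟨⟨v, y⟩, rfl⟩, hl⟩ := hrpow
    have hvS : (v : G) ∈ F.S16 := by
      obtain ⟨τ, hτ, hτe⟩ := v.2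
      rw [← hτe]
      exact ⟨τ, (commutes.2.1 τ hτ wl (by decide +kernel)), Or.inl rfl⟩
    have hy : (y : G) ∈ F.S16 := by
      have hyN : (y : G) ∈ normalizer (F.S16 : Set G) := by
        have hvN := le_normalizer hvS
        have hrN := le_normalizer hrS
        rcases hl with hl | hl <;> change c = _ at hl
        · change c = (v : G) * (y : G) at hl
          rw [show (y : G) = (v : G)⁻¹ * c by rw [hl, inv_mul_cancel_left]]
          exact mul_mem (inv_mem hvN) hcS
        · change c = (v : G) * (y : G) * F.r at hl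
          rw [show (y : G) = (v : G)⁻¹ * c * F.r⁻¹ by rw [hl]; group]
          exact mul_mem (mul_mem (inv_mem hvN) hcS) (inv_mem hrN)
      have h := (mem_normalizer_iff.1 hyN F.r).1 hrS
      have hyr : (y : G) * F.r * (y : G)⁻¹ = (y : G) * (y : G) * F.r := by
        obtain ⟨i, hi⟩ := y.2
        have e : F.r * (C.θ jB ^ i)⁻¹ * F.r⁻¹ = C.θ jB ^ i := by
          rw [show F.r * (C.θ jB ^ i)⁻¹ * F.r⁻¹ = (MulAut.conj F.r (C.θ jB ^ i))⁻¹ by
              rw [MulAut.conj_apply]; group,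
            map_zpow, MulAut.conj_apply, F.r_invert, ← inv_zpow, _root_.mul_inv_rev,
            inv_eq_of_mul_eq_one_right (show C.θ jB * (C.θ jB * C.θ jB) = 1 by
              rw [← mul_assoc, ← pow_three']; exact C.cube_θ (by decide +kernel))]
          congr 1
          calc C.θ jB * C.θ jB * (C.θ jB * C.θ jB) = C.θ jB ^ 3 * C.θ jB := by
                simp only [pow_succ, pow_zero, one_mul, mul_assoc]
            _ = C.θ jB := by rw [C.cube_θ (by decide +kernel), one_mul]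
        rw [← hi]
        calc C.θ jB ^ i * F.r * (C.θ jB ^ i)⁻¹ =
            C.θ jB ^ i * (F.r * (C.θ jB ^ i)⁻¹ * F.r⁻¹) * F.r := by group
          _ = C.θ jB ^ i * C.θ jB ^ i * F.r := by rw [e]
      rw [hyr] at h
      have h2 := mul_mem h (inv_mem hrS)
      rw [mul_inv_cancel_right] at h2
      have hyy : (y : G) * (y : G) * ((y : G) * (y : G)) = y := by
        obtain ⟨i, hi⟩ := y.2
        rw [← hi, ← zpow_add, ← zpow_add, show i + i + (i + i) = i + 3 * i by ring, zpow_add,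
          zpow_mul, show C.θ jB ^ (3 : ℤ) = 1 by
            rw [zpow_ofNat]; exact C.cube_θ (by decide +kernel), one_zpow, mul_one]
      rw [← hyy]
      exact mul_mem h2 h2
    rcases hl with hl | hl <;> rw [hl]
    · exact mul_mem hvS hy
    · exact mul_mem (mul_mem hvS hy) hrS
  -- transfer in the quotient
  set Z := zpowers (⟨C.θ wW, mem_centralizer_singleton_iff.2 rfl⟩ : K) with hZ
  have hZn : Z.Normal := ⟨fun z hz x => by
    obtain ⟨i, rfl⟩ := hz
    have hc : Commute x (⟨C.θ wW, mem_centralizer_singleton_iff.2 rfl⟩ : K) :=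
      Subtype.ext (mem_centralizer_singleton_iff.1 x.2)
    rw [((hc.zpow_right i)).eq, mul_inv_cancel_right]
    exact zpow_mem (mem_zpowers _) i⟩
  haveI := hZn
  set π := QuotientGroup.mk' Z
  have hπs : Function.Surjective π := QuotientGroup.mk'_surjective _
  set S' := F.S16.subgroupOf K
  have hS2 : IsPGroup 2 S' := by
    intro x
    obtain ⟨σ, hσ, hx⟩ := x.2
    have h8 : σ ^ 8 = 1 := by
      rw [← cent_wl σ hσ]; simp only [pow_succ, pow_zero, one_mul, mul_assoc]
    refine ⟨3, Subtype.ext (Subtype.ext ?_)⟩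
    show ((x : K) : G) ^ 2 ^ 3 = 1
    rcases hx with hx | hx
    · change ((x : K) : G) = _ at hx
      rw [hx, ← map_pow, show 2 ^ 3 = 8 from rfl, h8, map_one]
    · change ((x : K) : G) = _ at hx
      rw [hx, (F.r_comm σ hσ).symm.mul_pow, ← map_pow, show 2 ^ 3 = 8 from rfl, h8, map_one, one_mul,
        show F.r ^ 8 = (F.r * F.r) ^ 4 by rw [← pow_two, ← pow_mul], F.r_sq, one_pow]
  have hNS : normalizer (S' : Set K) ≤ S' := by
    intro n hn
    refine hnorm n n.2 (mem_normalizer_fintype ?_)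
    intro s hs
    exact (mem_normalizer_iff.1 hn ⟨s, hS_K hs⟩).1 hs
  obtain ⟨P, hP⟩ := hS2.exists_le_sylow
  have hPS : (P : Subgroup K) = S' := by
    by_contra hne
    have hlt : S'.subgroupOf P < ⊤ := lt_top_iff_ne_top.2 fun e =>
      hne (le_antisymm (subgroupOf_eq_top.1 e) hP)
    haveI := P.isPGroup'.isNilpotent
    obtain ⟨x, hx, hxS⟩ := Set.exists_of_ssubset (Group.normalizerCondition_of_isNilpotent _ hlt)
    refine hxS (hNS (mem_normalizer_fintype fun s hs => ?_) : (x : K) ∈ S')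
    exact (mem_normalizer_iff.1 hx ⟨s, hP hs⟩).1 hs
  set Q : Sylow 2 (K ⧸ Z) := P.mapSurjective hπs
  have hQ : (Q : Subgroup (K ⧸ Z)) = S'.map π := by
    rw [Sylow.coe_mapSurjective, hPS]
  have hZS : Z ≤ S' := by
    rw [hZ, zpowers_le]
    exact ⟨wl, rfl, Or.inl F.wW_eq⟩
  have hQn : normalizer ((Q : Subgroup (K ⧸ Z)) : Set (K ⧸ Z)) ≤
      centralizer ((Q : Subgroup (K ⧸ Z)) : Set (K ⧸ Z)) := by
    intro q hq
    obtain ⟨x, rfl⟩ := hπs q
    have hx : x ∈ S' := by
      refine hNS (mem_normalizer_fintype fun s hs => ?_)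
      have h := (mem_normalizer_iff.1 hq (π s)).1 (by rw [hQ]; exact mem_map_of_mem π hs)
      rw [hQ, ← map_inv, ← map_mul, ← map_mul] at h
      obtain ⟨s', hs', he⟩ := h
      rw [QuotientGroup.mk'_eq_mk'] at he
      obtain ⟨z, hz, hze⟩ := he
      rw [SetLike.mem_coe, ← hze]
      exact mul_mem hs' (hZS hz)
    rw [hQ]
    refine mem_centralizer_iff.2 ?_
    rintro _ ⟨s, hs, rfl⟩
    obtain ⟨σ, hσ, hse⟩ := hs
    obtain ⟨τ, hτ, hxe⟩ := hx
    rw [← map_mul, ← map_mul, QuotientGroup.mk'_eq_mk']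
    have hmod : τ * σ = σ * τ ∨ τ * σ = σ * τ * wl := (by decide +kernel :
      ∀ σ : A6, σ * wl = wl * σ → ∀ τ : A6, τ * wl = wl * τ → τ * σ = σ * τ ∨ τ * σ = σ * τ * wl)
        σ hσ τ hτ
    have key : ((s * x : K) : G) = ((x * s : K) : G) ∨ ((x * s : K) : G) = ((s * x : K) : G) * C.θ wW := by
      have hc1 := F.r_comm σ hσ
      have hc2 := F.r_comm τ hτ
      change ((s : G) = _ ∨ (s : G) = _) at hse
      change ((x : G) = _ ∨ (x : G) = _) at hxe
      rw [Subgroup.coe_mul, Subgroup.coe_mul]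
      have e0 : F.f 1 τ * F.f 1 σ = F.f 1 σ * F.f 1 τ ∨
          F.f 1 τ * F.f 1 σ = F.f 1 σ * F.f 1 τ * C.θ wW := by
        rw [F.wW_eq, ← map_mul, ← map_mul, ← map_mul]
        exact hmod.imp (congrArg _) (congrArg _)
      obtain ⟨es, hes, hse'⟩ : ∃ e, (e = 1 ∨ e = F.r) ∧ (s : G) = F.f 1 σ * e :=
        hse.elim (fun h => ⟨1, Or.inl rfl, by rw [h, mul_one]⟩) fun h => ⟨_, Or.inr rfl, h⟩
      obtain ⟨ex, hex, hxe'⟩ : ∃ e, (e = 1 ∨ e = F.r) ∧ (x : G) = F.f 1 τ * e :=
        hxe.elim (fun h => ⟨1, Or.inl rfl, by rw [h, mul_one]⟩) fun h => ⟨_, Or.inr rfl, h⟩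
      have c1 : Commute es (F.f 1 τ) := by
        rcases hes with rfl | rfl
        exacts [Commute.one_left _, hc2]
      have c2 : Commute ex (F.f 1 σ) := by
        rcases hex with rfl | rfl
        exacts [Commute.one_left _, hc1]
      have c3 : Commute es ex := by
        rcases hes with rfl | rfl <;> rcases hex with rfl | rfl
        exacts [Commute.one_left _, Commute.one_left _, Commute.one_right _, Commute.refl _]
      have c4 : Commute (C.θ wW) (es * ex) := by
        refine Commute.mul_right ?_ ?_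
        · rcases hes with rfl | rfl
          exacts [Commute.one_right _, hrw.symm]
        · rcases hex with rfl | rfl
          exacts [Commute.one_right _, hrw.symm]
      rw [hse', hxe', c1.mul_mul_mul_comm, c2.mul_mul_mul_comm, ← c3.eq]
      rcases e0 with e0 | e0
      · exact Or.inl (by rw [e0])
      · refine Or.inr ?_
        rw [e0, mul_assoc _ (C.θ wW), c4.eq, ← mul_assoc]
    rcases key with key | key
    · exact ⟨1, one_mem Z, by rw [mul_one]; exact Subtype.ext key⟩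
    · exact ⟨⟨C.θ wW, mem_centralizer_singleton_iff.2 rfl⟩, mem_zpowers _, Subtype.ext key.symm⟩
  set tr := MonoidHom.transferSylow Q hQn
  -- a four group in the kernel
  have hVK : ∀ τ ∈ Vl, F.f 2 τ ∈ K := fun τ hτ => mem_centralizer_singleton_iff.2
    (mem_centralizer_iff.1 F.wW_cent_Vc _ ⟨τ, hτ, rfl⟩)
  have hbK : C.θ jB ∈ K := mem_centralizer_singleton_iff.2 (by rw [F.wW_eq]; exact (hb wl).eq)
  have htb : tr (π ⟨C.θ jB, hbK⟩) = 1 := by
    obtain ⟨n, hn⟩ := Q.isPGroup' (tr (π ⟨C.θ jB, hbK⟩))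
    refine orderOf_eq_one_iff.1 (Nat.eq_one_of_dvd_coprimes (a := 3) (b := 2 ^ n)
      (Nat.Coprime.pow_right _ (by norm_num)) ?_ (orderOf_dvd_of_pow_eq_one hn))
    refine orderOf_dvd_of_pow_eq_one ?_
    rw [← map_pow, ← map_pow, show (⟨C.θ jB, hbK⟩ : K) ^ 3 = 1 from
      Subtype.ext (C.cube_θ (by decide +kernel)), map_one, map_one]
  have hvals : ∃ τ' ∈ Vl, Six.C0 * τ' * Six.C0⁻¹ * τ'⁻¹ = v1 := by decide +kernel
  obtain ⟨τ', hτ', hτv⟩ := hvals
  have hv1K : F.f 2 v1 ∈ K := hVK v1 (by decide +kernel)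
  have hker : π ⟨F.f 2 v1, hv1K⟩ ∈ tr.ker := by
    have e : (⟨F.f 2 v1, hv1K⟩ : K) = ⟨C.θ jB, hbK⟩ * ⟨F.f 2 τ', hVK τ' hτ'⟩ *
        (⟨C.θ jB, hbK⟩)⁻¹ * (⟨F.f 2 τ', hVK τ' hτ'⟩ : K)⁻¹ := Subtype.ext (by
      show F.f 2 v1 = C.θ jB * F.f 2 τ' * (C.θ jB)⁻¹ * (F.f 2 τ')⁻¹
      rw [F.f_agree 2 _ _ wW_facts.2.1, ← hτv, map_mul, map_mul, map_mul, map_inv, map_inv])
    rw [MonoidHom.mem_ker, e, map_mul, map_mul, map_mul, map_mul, map_mul, map_mul, map_inv,
      map_inv, map_inv, map_inv, htb, one_mul, inv_one, mul_one, mul_inv_cancel]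
  have hord : orderOf (π ⟨F.f 2 v1, hv1K⟩) = 2 := by
    refine orderOf_eq_prime ?_ fun he => ?_
    · rw [← map_pow, show (⟨F.f 2 v1, hv1K⟩ : K) ^ 2 = 1 from Subtype.ext (by
        show F.f 2 v1 ^ 2 = 1
        rw [← map_pow, show v1 ^ 2 = 1 by decide +kernel, map_one]), map_one]
    · obtain ⟨i, hi⟩ := (QuotientGroup.eq_one_iff (N := Z) _).1 he
      have hi' : C.θ wW ^ i = F.f 2 v1 := congrArg Subtype.val hi
      have hc : Commute (C.θ jC) (C.θ wW ^ i) := hi' ▸ F.f_comm 2 v1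
      have hw2 : (C.θ wW) ^ (2 : ℤ) = 1 := by
        rw [zpow_ofNat, ← map_pow, show wW ^ 2 = 1 by decide +kernel, map_one]
      rcases Int.even_or_odd' i with ⟨k, rfl | rfl⟩
      · rw [zpow_mul, hw2, one_zpow, ← map_one (F.f 2)] at hi'
        exact absurd (F.f_inj 2 hi') (by decide +kernel)
      · rw [zpow_add, zpow_mul, hw2, one_zpow, one_mul, zpow_one] at hc
        have hww' := wW_facts.2.2.2.2.2.2.2.1.1
        have h2 : C.θ (wW * jC * wW⁻¹) = C.θ jC := by
          rw [map_mul, map_mul, map_inv, ← hc.eq, mul_inv_cancel_right]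
        rw [hww'] at h2
        exact absurd (C.inj h2) (by decide +kernel)
  have h2 : 2 ∣ Nat.card tr.ker := by
    have := orderOf_dvd_natCard _ hker
    rwa [hord] at this
  exact MonoidHom.not_dvd_card_ker_transferSylow Q hQn h2

end Ctx.Frame

end Cfsg.Agent.Recog.AltNine
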