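import Cfsg.Agent.Lib.Recog.AltNine.CentInv

/-!
The centralizer of the involution of four transpositions lies inside, and the copy of the alternating
group of degree nine is everything.
-/

set_option autoImplicit false
set_option linter.style.haveILetI false
set_option linter.unusedSectionVars false

namespace Cfsg.Agent.Recog.AltNine

open Cfsg Subgroup Equiv Cfsg.Agent.Recog.MonoCube Cfsg.Agent.Recog.MonoCube.W Fours

universe u

theorem rel3_card_three {Q : Type*} [Group Q] (h : Nat.card Q = 3) {y s u : Q} (hr : Rel3 y s u) :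
    u = 1 := by
  haveI : Finite Q := Nat.finite_of_card_ne_zero (by omega)
  exact orderOf_eq_one_iff.1 (Nat.eq_one_of_dvd_coprimes (a := 3) (b := 2) (by norm_num)
    (h ▸ _root_.orderOf_dvd_natCard u) (orderOf_dvd_of_pow_eq_one (by rw [pow_two]; exact hr.2.2.2.2.1)))

theorem rel3_map {Q Q' : Type*} [Group Q] [Group Q'] (e : Q ≃* Q') {y s u : Q} (hr : Rel3 y s u) :
    Rel3 (e y) (e s) (e u) := by
  obtain ⟨a, b, c, d, f, g, h, i⟩ := hr
  exact ⟨by rw [← map_mul, ← map_mul, a, map_one], fun he => b (e.injective (he.trans (map_one e).symm)),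
    by rw [← map_mul, c, map_one], by simp only [← map_inv, ← map_mul, d],
    by rw [← map_mul, f, map_one], by simp only [← map_inv, ← map_mul, g],
    by simp only [← map_inv, ← map_mul, h, map_one], by simp only [← map_inv, ← map_mul, i]⟩

namespace Ctx.Frame.Ext

open Code

variable {G : Type u} [Group G] [Finite G] {C : Ctx G} {F : C.Frame} (X : F.Ext)

/-- An element conjugating the standard involution into the copy lies inside. -/
theorem mem_of_w {g : G} (hg : g * C.θ wW * g⁻¹ ∈ X.Φ.range) : g ∈ X.Φ.range := by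
  obtain ⟨x, hx⟩ := hg
  obtain ⟨k, rfl⟩ := X.conj_inside hx.symm
  have h : (X.Φ k)⁻¹ * g ∈ X.Φ.range := by
    refine X.cent_w_le (mem_centralizer_singleton_iff.2 ?_)
    refine mul_inv_eq_iff_eq_mul.1 (?_ : (X.Φ k)⁻¹ * g * C.θ wW * ((X.Φ k)⁻¹ * g)⁻¹ = C.θ wW)
    rw [show (X.Φ k)⁻¹ * g * C.θ wW * ((X.Φ k)⁻¹ * g)⁻¹ = (X.Φ k)⁻¹ * (g * C.θ wW * g⁻¹) * X.Φ k by
      group, ← hx, map_mul, map_mul, map_inv, X.code]
    group
  simpa using mul_mem (⟨k, rfl⟩ : X.Φ k ∈ X.Φ.range) h

include X in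
theorem big_le : 32 ∣ Nat.card (centralizer ({C.θ tW} : Set G)) := by
  obtain ⟨⟨hnd, hlen⟩, hb⟩ := big_facts
  simp only [List.all_eq_true, Bool.and_eq_true, decide_eq_true_eq] at hb
  have h1 : (1 : Perm (Fin 9)) ∈ big := by
    obtain ⟨x, hx⟩ := List.exists_mem_of_length_pos (show 0 < big.length by rw [hlen]; norm_num)
    have := (hb x hx).2 _ (hb x hx).1.2
    rwa [mul_inv_cancel] at this
  let S : Subgroup A9 :=
    { carrier := {x | (x : Perm (Fin 9)) ∈ big}
      one_mem' := h1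
      mul_mem' := fun {a b} ha hbb => (hb _ ha).2 _ hbb
      inv_mem' := fun {a} ha => (hb _ ha).1.2 }
  have hS : Nat.card S = 32 := by
    let e : S ≃ {p : Perm (Fin 9) // p ∈ big} :=
      { toFun := fun x => ⟨x.1.1, x.2⟩
        invFun := fun p => ⟨⟨p.1, Perm.mem_alternatingGroup.2 (hb p.1 p.2).1.1.1⟩, p.2⟩
        left_inv := fun _ => rfl
        right_inv := fun _ => rfl }
    rw [Nat.card_congr e, Nat.card_eq_fintype_card,
      Fintype.card_of_subtype big.toFinset (by simp), List.toFinset_card_of_nodup hnd, hlen]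
  have hle : S.map X.Φ ≤ centralizer ({C.θ tW} : Set G) := by
    rintro _ ⟨x, hx, rfl⟩
    refine mem_centralizer_singleton_iff.2 ?_
    rw [← X.code, ← map_mul, ← map_mul, show x * perm9 tW = perm9 tW * x from Subtype.ext (hb _ hx).1.1.2]
  have := card_dvd_of_le hle
  rwa [card_map_of_injective X.inj, hS] at this

set_option maxHeartbeats 1000000 in
/-- The centralizer of the involution of four transpositions lies inside. -/
theorem cent_t_le : centralizer ({C.θ tW} : Set G) ≤ X.Φ.range := by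
  classical
  haveI : Fact (Nat.Prime 3) := ⟨Nat.prime_three⟩
  obtain ⟨hu2, huc, hup, hsu, hut, hst, hsy, hs2, hu5⟩ := uP_facts
  set K := centralizer ({C.θ tW} : Set G)
  set tK : K := ⟨C.θ tW, mem_centralizer_singleton_iff.2 rfl⟩
  have htK2 : tK * tK = 1 := Subtype.ext (by
    show C.θ tW * C.θ tW = 1
    rw [← map_mul, show tW * tW = 1 by decide +kernel, map_one])
  have hyK : C.θ jAB ∈ K := mem_centralizer_singleton_iff.2 (by
    rw [← map_mul, ← map_mul, tW_perm.2.2])
  set yK : K := ⟨C.θ jAB, hyK⟩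
  have hmK : ∀ x : A9, x * perm9 tW = perm9 tW * x → X.Φ x ∈ K := fun x hx =>
    mem_centralizer_singleton_iff.2 (by rw [← X.code, ← map_mul, ← map_mul, hx])
  set sK : K := ⟨X.Φ (perm9 s3W), hmK _ hst⟩
  set uK : K := ⟨X.Φ uP, hmK _ hut⟩
  have hcT : ∀ g : K, Commute g tK := fun g => Subtype.ext (mem_centralizer_singleton_iff.1 g.2)
  set Z := zpowers tK
  have hZ : ∀ z ∈ Z, z = 1 ∨ z = tK := by
    rintro _ ⟨i, rfl⟩
    rcases Int.even_or_odd' i with ⟨k, rfl | rfl⟩
    · left
      show tK ^ (2 * k) = 1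
      rw [zpow_mul, zpow_ofNat, pow_two, htK2, one_zpow]
    · right
      show tK ^ (2 * k + 1) = tK
      rw [zpow_add, zpow_mul, zpow_ofNat, pow_two, htK2, one_zpow, one_mul, zpow_one]
  have hZc : Z ≤ center K := by
    rw [zpowers_le, mem_center_iff]
    exact fun g => (hcT g).eq
  haveI hZn : Z.Normal := ⟨fun z hz g => by
    rw [mem_center_iff.1 (hZc hz) g, mul_inv_cancel_right]; exact hz⟩
  set π := QuotientGroup.mk' Z
  have hπs : Function.Surjective π := QuotientGroup.mk'_surjective Z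
  have hπt : π tK = 1 := (QuotientGroup.eq_one_iff (N := Z) tK).2 (mem_zpowers _)
  have hπ : ∀ a b : K, π a = π b → b = a ∨ b = a * tK := by
    intro a b h
    obtain ⟨z, hz, rfl⟩ := (QuotientGroup.mk'_eq_mk' Z).1 h
    rcases hZ z hz with rfl | rfl
    exacts [Or.inl (mul_one a), Or.inr rfl]
  have hy3 : yK ^ 3 = 1 := Subtype.ext (C.cube_θ (by decide +kernel))
  have hy1 : yK ≠ 1 := fun e =>
    absurd (C.inj ((congrArg Subtype.val e).trans (map_one C.θ).symm)) (by decide +kernel)
  have hyord : orderOf (π yK) = 3 := by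
    refine orderOf_eq_prime (by rw [← map_pow, hy3, map_one]) fun e => ?_
    rcases hπ 1 yK (by rw [e, map_one]) with h | h
    · exact hy1 h
    · rw [one_mul] at h
      refine hy1 ?_
      have h3 := hy3
      rw [h, pow_succ, pow_two, htK2, one_mul] at h3
      rw [h, h3]
  have hself : centralizer ((zpowers (π yK) : Subgroup (K ⧸ Z)) : Set (K ⧸ Z)) = zpowers (π yK) := by
    refine le_antisymm (fun q hq => ?_) (le_centralizer _)
    obtain ⟨x, rfl⟩ := hπs q
    have hc := mem_centralizer_iff.1 hq _ (mem_zpowers _)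
    have hxy : x * yK * x⁻¹ = yK := by
      refine (hπ yK _ ?_).resolve_right fun e => ?_
      · rw [map_mul, map_mul, map_inv, ← hc, mul_inv_cancel_right]
      · have h3 := congrArg (· ^ 3) e
        simp only [conj_pow, (hcT yK).mul_pow, hy3, mul_one, mul_inv_cancel, one_mul] at h3
        rw [pow_succ, pow_two, htK2, one_mul] at h3
        exact absurd (C.inj ((map_one C.θ).trans (congrArg Subtype.val h3))) (by decide +kernel)
    have hxc : (x : G) ∈ centralizer ({C.θ jAB} : Set G) := mem_centralizer_singleton_iff.2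
      (congrArg Subtype.val (mul_inv_eq_iff_eq_mul.1 hxy))
    obtain ⟨w, hw⟩ := C.cent_le (by decide +kernel) (Or.inl (by decide +kernel)) hxc
    obtain ⟨i, hi⟩ := tW_cent w
      (C.inj (by rw [map_mul, map_mul, hw]; exact mem_centralizer_singleton_iff.1 hxc))
      (C.inj (by rw [map_mul, map_mul, hw]; exact mem_centralizer_singleton_iff.1 x.2))
    have hpw : C.θ (pw3 jAB i) = ((yK ^ (i : ℕ) : K) : G) := by
      rw [Subgroup.coe_pow]
      show C.θ (pw3 jAB i) = C.θ jAB ^ (i : ℕ)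
      fin_cases i
      · simp [pw3]
      · simp [pw3]
      · simp [pw3, pow_two]
    have hxe : π x = π yK ^ (i : ℕ) := by
      rw [← map_pow]
      rcases hi with rfl | rfl
      · exact congrArg π (Subtype.ext (hw.symm.trans hpw))
      · rw [map_mul, hpw] at hw
        rw [show x = yK ^ (i : ℕ) * tK from Subtype.ext hw.symm, map_mul, hπt, mul_one]
    rw [hxe]
    exact pow_mem (mem_zpowers _) _
  have hkey : ∀ (N : Subgroup (K ⧸ Z)) [N.Normal], Group.IsNilpotent N → π uK ∈ N →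
      K ≤ X.Φ.range := by
    intro N _ hN huN g hg
    set N0 := N.comap π
    haveI : Group.IsNilpotent N0 := by
      haveI := hN
      refine Subgroup.isNilpotent_of_ker_le_center (π.subgroupComap N) ?_
      intro z hz
      refine mem_center_iff.2 fun m => Subtype.ext ?_
      have hzz : (z : K) ∈ Z := (QuotientGroup.eq_one_iff (N := Z) (z : K)).1 (congrArg Subtype.val hz)
      exact mem_center_iff.1 (hZc hzz) m
    have hu0 : uK ∈ N0 := huN
    have hmem : ∀ m : K, ((m * uK * m⁻¹ : K) : G) ∈ X.Φ.range → (m : G) ∈ X.Φ.range := by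
      intro m hm
      obtain ⟨k, hk⟩ : ∃ k : A9, k * perm9 wW * k⁻¹ = uP := by
        refine (involution_cases uP hu2 ?_).resolve_right ?_
        · intro e; rw [e] at hu5; exact absurd hu5 (by decide +kernel)
        · rintro ⟨k, hk⟩
          rw [← hk] at hu5
          change fixCard ((k : Perm (Fin 9)) * toPerm tW * (k : Perm (Fin 9))⁻¹) = 5 at hu5
          rw [fixCard_conj] at hu5
          exact absurd (reps.2.2.2.1.symm.trans hu5) (by decide)
      have h : (m : G) * X.Φ k ∈ X.Φ.range := X.mem_of_w (by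
        rw [show (m : G) * X.Φ k * C.θ wW * ((m : G) * X.Φ k)⁻¹ =
          (m : G) * (X.Φ k * C.θ wW * (X.Φ k)⁻¹) * (m : G)⁻¹ by group, ← X.code, ← map_inv,
          ← map_mul, ← map_mul, hk]
        exact hm)
      simpa using mul_mem h (inv_mem (⟨k, rfl⟩ : X.Φ k ∈ X.Φ.range))
    have hN0 : ∀ m ∈ N0, (m : G) ∈ X.Φ.range := by
      set D : Subgroup N0 := X.Φ.range.comap (K.subtype.comp N0.subtype)
      suffices h : D = ⊤ from fun m hm => (h ▸ mem_top _ : (⟨m, hm⟩ : N0) ∈ D)
      by_contra hne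
      obtain ⟨n, hn, hnD⟩ := Set.exists_of_ssubset
        (Group.normalizerCondition_of_isNilpotent D (lt_top_iff_ne_top.2 hne))
      refine hnD (hmem (n : K) ?_)
      exact (mem_normalizer_iff.1 hn ⟨uK, hu0⟩).1 (⟨_, rfl⟩ : X.Φ uP ∈ X.Φ.range)
    haveI : N0.Normal := Normal.comap inferInstance π
    exact hmem ⟨g, hg⟩ (hN0 _ (Normal.conj_mem inferInstance uK hu0 _))
  have hrel : ∀ {Q : Type u} [Group Q] (ρ : K →* Q), ρ yK ≠ 1 → Rel3 (ρ yK) (ρ sK) (ρ uK) := by
    intro Q _ ρ hne
    have hy : (yK : G) = X.Φ (perm9 jAB) := (X.code jAB).symm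
    have ey : X.Φ (perm9 s3W) * X.Φ (perm9 jAB) * (X.Φ (perm9 s3W))⁻¹ = (X.Φ (perm9 jAB))⁻¹ := by
      rw [← map_inv X.Φ (perm9 s3W), ← map_mul X.Φ, ← map_mul X.Φ, hsy, map_inv]
    have ec : X.Φ uP * (X.Φ (perm9 jAB) * X.Φ uP * (X.Φ (perm9 jAB))⁻¹) =
        X.Φ (perm9 jAB) * X.Φ uP * (X.Φ (perm9 jAB))⁻¹ * X.Φ uP := by
      rw [← map_inv X.Φ (perm9 jAB), ← map_mul X.Φ, ← map_mul X.Φ, ← map_mul X.Φ, huc, map_mul X.Φ]
    have ep : X.Φ uP * (X.Φ (perm9 jAB) * X.Φ uP * (X.Φ (perm9 jAB))⁻¹) *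
        (X.Φ (perm9 jAB) * X.Φ (perm9 jAB) * X.Φ uP * (X.Φ (perm9 jAB) * X.Φ (perm9 jAB))⁻¹) = 1 := by
      rw [← map_mul X.Φ (perm9 jAB) (perm9 jAB), ← map_inv X.Φ, ← map_inv X.Φ, ← map_mul X.Φ,
        ← map_mul X.Φ, ← map_mul X.Φ, ← map_mul X.Φ, ← map_mul X.Φ, ← map_mul X.Φ, hup, map_one]
    have eu : X.Φ (perm9 s3W) * X.Φ uP * (X.Φ (perm9 s3W))⁻¹ = X.Φ uP := by
      rw [← map_inv X.Φ (perm9 s3W), ← map_mul X.Φ, ← map_mul X.Φ, hsu]
    refine ⟨?_, hne, ?_, ?_, ?_, ?_, ?_, ?_⟩
    all_goals simp only [← map_inv, ← map_mul]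
    · rw [← pow_three', hy3, map_one]
    · rw [show sK * sK = 1 from Subtype.ext (by
        show X.Φ _ * X.Φ _ = 1
        rw [← map_mul, hs2, map_one]), map_one]
    · refine congrArg ρ (Subtype.ext ?_)
      simp only [Subgroup.coe_mul, InvMemClass.coe_inv, hy, sK]
      exact ey
    · rw [show uK * uK = 1 from Subtype.ext (by
        show X.Φ _ * X.Φ _ = 1
        rw [← map_mul, hu2, map_one]), map_one]
    · refine congrArg ρ (Subtype.ext ?_)
      simp only [Subgroup.coe_mul, InvMemClass.coe_inv, hy, uK]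
      exact ec
    · rw [show uK * (yK * uK * yK⁻¹) * (yK * yK * uK * (yK * yK)⁻¹) = 1 from Subtype.ext (by
        simp only [Subgroup.coe_mul, InvMemClass.coe_inv, hy, uK, OneMemClass.coe_one]
        exact ep), map_one]
    · refine congrArg ρ (Subtype.ext ?_)
      simp only [Subgroup.coe_mul, InvMemClass.coe_inv, uK, sK]
      exact eu
  have hquot : ∀ (N : Subgroup (K ⧸ Z)) [N.Normal], (Nat.card N).Coprime 3 →
      QuotientGroup.mk' N (π yK) ≠ 1 := by
    intro N _ hN he
    have hmem := (QuotientGroup.eq_one_iff (N := N) _).1 he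
    have h1 := Nat.eq_one_of_dvd_coprimes hN (orderOf_dvd_natCard N hmem) (hyord ▸ dvd_rfl)
    rw [hyord] at h1
    omega
  rcases S3331.result (zpowers (π yK)) (by rw [Nat.card_zpowers, hyord]) hself with
    ⟨N, hNn, hNnil, hN, hQ⟩ | ⟨N, hNn, hNc, hN2, ⟨e⟩⟩ | ⟨⟨e⟩⟩
  · haveI := hNn
    refine hkey N hNnil ((QuotientGroup.eq_one_iff (N := N) _).1 ?_)
    have hr := hrel ((QuotientGroup.mk' N).comp π) (hquot N hN)
    rcases hQ with h3 | ⟨⟨e⟩⟩
    · exact rel3_card_three h3 hr
    · have hr' := rel3_map e hr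
      exact e.injective ((rel3_S3 _ hr'.1 hr'.2.1 _ hr'.2.2.2.1 _ hr').trans (map_one e).symm)
  · haveI := hNn
    haveI : Fact (Nat.Prime 2) := ⟨Nat.prime_two⟩
    have hNp : IsPGroup 2 N := fun n => ⟨1, Subtype.ext (by simpa using hN2 n n.2)⟩
    obtain ⟨n, hn⟩ := IsPGroup.iff_card.1 hNp
    refine hkey N hNp.isNilpotent ((QuotientGroup.eq_one_iff (N := N) _).1 ?_)
    have hr := hrel ((QuotientGroup.mk' N).comp π) (hquot N (hn ▸ Nat.Coprime.pow_left n (by norm_num)))
    exact e.injective ((rel3_A5 _ _ _ (rel3_map e hr)).trans (map_one e).symm)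
  · exfalso
    haveI : Fact (Nat.Prime 7) := ⟨by norm_num⟩
    have hc := Dickson.card_psl_odd (F := ZMod 7) (by rw [ZMod.card]; decide)
    rw [ZMod.card] at hc
    have hZc2 : Nat.card Z = 2 := by
      rw [Nat.card_zpowers, orderOf_eq_prime (by rw [pow_two, htK2]) fun e => absurd
        (C.inj ((congrArg Subtype.val e).trans (map_one C.θ).symm)) (by decide +kernel)]
    have hK : Nat.card K = 336 := by
      rw [card_eq_card_quotient_mul_card_subgroup Z, hZc2, Nat.card_congr e.toEquiv]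
      omega
    have h32 := X.big_le
    rw [hK] at h32
    norm_num at h32

/-- Every conjugate of the standard involution lies inside. -/
theorem conj_w_mem (g : G) : g * C.θ wW * g⁻¹ ∈ X.Φ.range := by
  set a := g * C.θ wW * g⁻¹
  set t := C.θ tW
  have ha2 : a * a = 1 := by
    rw [show a * a = g * (C.θ wW * C.θ wW) * g⁻¹ by simp only [a]; group, ← map_mul,
      show wW * wW = 1 by decide +kernel, map_one, mul_one, mul_inv_cancel]
  have ht2 : t * t = 1 := by rw [← map_mul, show tW * tW = 1 by decide +kernel, map_one]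
  have hai : a⁻¹ = a := inv_eq_of_mul_eq_one_right ha2
  have hti : t⁻¹ = t := inv_eq_of_mul_eq_one_right ht2
  set d := a * t
  have htd : ∀ k : ℕ, t * d ^ k * t⁻¹ = (d ^ k)⁻¹ := fun k => by
    rw [← inv_pow, ← conj_pow]
    congr 1
    show t * (a * t) * t⁻¹ = (a * t)⁻¹
    rw [_root_.mul_inv_rev, hai, hti, mul_assoc, mul_assoc a, ht2, mul_one]
  have hn := (isOfFinOrder_of_finite d).orderOf_pos
  rcases Nat.even_or_odd' (orderOf d) with ⟨k, hk | hk⟩
  · -- a central involution of the dihedral group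
    set e := d ^ k
    have he1 : e ≠ 1 := pow_ne_one_of_lt_orderOf (by omega) (by omega)
    have he2 : e * e = 1 := by rw [← pow_add, ← two_mul, ← hk, pow_orderOf_eq_one]
    have hei : e⁻¹ = e := inv_eq_of_mul_eq_one_right he2
    have het : Commute e t := (show Commute t e from mul_inv_eq_iff_eq_mul.1 ((htd k).trans hei)).symm
    have hea : Commute e a := by
      have h : Commute e (d * t⁻¹) :=
        ((Commute.refl d).pow_left k).mul_right het.inv_right
      rwa [show d * t⁻¹ = a from mul_inv_cancel_right a t] at h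
    obtain ⟨x, hx⟩ := X.cent_t_le (mem_centralizer_singleton_iff.2 het.eq : e ∈ centralizer ({t} : Set G))
    have hx2 : x * x = 1 := X.inj (by rw [map_mul, hx, he2, map_one])
    have hx1 : x ≠ 1 := fun h => he1 (by rw [← hx, h, map_one])
    have hcent : ∀ (r : W) (k : A9), k * perm9 r * k⁻¹ = x →
        centralizer ({C.θ r} : Set G) ≤ X.Φ.range → a ∈ X.Φ.range := by
      intro r k hk' hr
      have h1 : (X.Φ k)⁻¹ * a * X.Φ k ∈ centralizer ({C.θ r} : Set G) := by
        refine mem_centralizer_singleton_iff.2 ?_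
        have h := hea.symm.eq
        rw [← hx, ← hk', map_mul, map_mul, map_inv, X.code] at h
        calc (X.Φ k)⁻¹ * a * X.Φ k * C.θ r =
            (X.Φ k)⁻¹ * (a * (X.Φ k * C.θ r * (X.Φ k)⁻¹)) * X.Φ k := by group
          _ = _ := by rw [h]; group
      have h2 := mul_mem (mul_mem (⟨k, rfl⟩ : X.Φ k ∈ X.Φ.range) (hr h1)) (inv_mem ⟨k, rfl⟩)
      simpa [mul_assoc] using h2
    rcases involution_cases x hx2 hx1 with ⟨k', hk'⟩ | ⟨k', hk'⟩
    exacts [hcent wW k' hk' X.cent_w_le, hcent tW k' hk' X.cent_t_le]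
  · exfalso
    have hdt : d ^ (k + 1) * t * (d ^ (k + 1))⁻¹ = a := by
      have e1 : d ^ (k + 1) * t * (d ^ (k + 1))⁻¹ = d ^ (k + 1) * d ^ (k + 1) * t := by
        have h := htd (k + 1)
        rw [hti] at h
        rw [← h]
        simp only [mul_assoc, ← mul_assoc t t, ht2, one_mul]
      have e2 : d ^ (k + 1) * d ^ (k + 1) = d := by
        rw [← pow_add, show k + 1 + (k + 1) = 2 * k + 1 + 1 by omega, pow_succ, ← hk, pow_orderOf_eq_one,
          one_mul]
      rw [e1, e2]
      show a * t * t = a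
      rw [mul_assoc, ht2, mul_one]
    refine F.not_conj_w (j := jAB) (by decide +kernel) (by decide +kernel) (x := t) ?_
      (g := (d ^ (k + 1))⁻¹ * g) ?_
    · show C.θ jAB * C.θ tW = C.θ tW * C.θ jAB
      rw [← map_mul, ← map_mul, ← tW_perm.2.2]
    · rw [show (d ^ (k + 1))⁻¹ * g * C.θ wW * ((d ^ (k + 1))⁻¹ * g)⁻¹ =
        (d ^ (k + 1))⁻¹ * a * d ^ (k + 1) by simp only [a]; group, ← hdt]
      group

/-- The copy is the whole group. -/
theorem range_eq_top : X.Φ.range = ⊤ :=
  eq_top_iff.2 fun g _ => X.mem_of_w (X.conj_w_mem g)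

end Ctx.Frame.Ext

/-- If the centralizer of the first cycle is three times degree six, the group is alternating. -/
theorem Ctx.iso_of_quot {G : Type u} [Group G] [Finite G] (C : Ctx G)
    (hiso : Nonempty ((C.cen jA ⧸ C.line jA) ≃* A6)) : Nonempty (G ≃* alternatingGroup (Fin 9)) := by
  obtain ⟨F⟩ := C.exists_frame hiso
  obtain ⟨X⟩ := F.exists_ext
  exact ⟨(MulEquiv.ofBijective X.Φ ⟨X.inj, MonoidHom.range_eq_top.1 X.range_eq_top⟩).symm⟩

end Cfsg.Agent.Recog.AltNine
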